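import Mathlib
import Cfsg.Agent.Helper7.ChevNormal
import Cfsg.Agent.Helper7.ChevT13
import Cfsg.Agent.Helper7.ChevT7
import Cfsg.Agent.Helper7.ChevT0
import Cfsg.Agent.Helper7.ChevGood3
import Cfsg.Agent.Helper7.ChevTabE8

set_option autoImplicit false

/-!
# S5751 (swarm E8C): adjacent fundamental reflections do not commute modulo `B` (helper8)

Input for the connectivity hypothesis of the Tits-type lemma BASE (a): for adjacent nodes `i`, `j`
of the Dynkin diagram the commutator of `n_i`, `n_j` does not lie in the Borel subgroup.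
-/

namespace Cfsg.Agent.E8C

open Cfsg Cfsg.Lie Matrix Cfsg.Agent.Helper7.Chev

variable {D : ChevalleyDatum} {F : Type*} [Field F]

/-- adjacent fundamental reflections do not commute modulo `B` (generic datum) -/
theorem e8c_adj_comm_not_mem_borel (hG : Good2 D) (hT : T0 D) (h8 : (tabOf D).T8) {ord : List ℕ}
    (h13 : (tabOf D).T13 ord) {i j : ℕ} (hi : i < D.rank) (hj : j < D.rank) (hij : i ≠ j)
    (hadj : (tabOf D).cartan i ((tabOf D).simple j) ≠ 0) :
    nGL hG.toGood1 (hG.toGood1.simple_lt hi) * nGL hG.toGood1 (hG.toGood1.simple_lt hj) *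
      (nGL hG.toGood1 (hG.toGood1.simple_lt hi))⁻¹ *
      (nGL hG.toGood1 (hG.toGood1.simple_lt hj))⁻¹ ∉ D.borelSubgroup F := by
  intro hmem
  have hG1 := hG.toGood1
  obtain ⟨_, _, _, _, hord4⟩ := h13
  obtain ⟨t1, _⟩ := hord4 i hi j hj hij hadj
  have hpos := reflWord_pos_of_comm_mem_borel (F := F) hG hT h8 hi hj hmem
  rcases t1 with t | t
  · have h1 := hpos _ (hG1.simple_lt hi) (simple_pos hG1 hT hi)
    change D.nroots / 2 ≤ (tabOf D).reflWord [i, j, i, j] ((tabOf D).simple i) at h1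
    have t' : (tabOf D).reflWord [i, j, i, j] ((tabOf D).simple i) < D.nroots / 2 := t
    omega
  · have h1 := hpos _ (hG1.simple_lt hj) (simple_pos hG1 hT hj)
    change D.nroots / 2 ≤ (tabOf D).reflWord [i, j, i, j] ((tabOf D).simple j) at h1
    have t' : (tabOf D).reflWord [i, j, i, j] ((tabOf D).simple j) < D.nroots / 2 := t
    omega

/-- the edges of the Dynkin diagram of `E₈` (0-based, branch node `3`) -/
def e8c_adj_edges : List (ℕ × ℕ) :=
  [(0, 2), (2, 0), (2, 3), (3, 2), (1, 3), (3, 1), (3, 4), (4, 3), (4, 5), (5, 4), (5, 6), (6, 5),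
    (6, 7), (7, 6)]

theorem e8c_adj_cartan_fast :
    ∀ p ∈ e8c_adj_edges, fastE8.cartan p.1 (fastE8.simple p.2) ≠ 0 := by
  decide +kernel

theorem e8c_adj_cartan_E8 :
    ∀ p ∈ e8c_adj_edges, (tabOf chevE8).cartan p.1 ((tabOf chevE8).simple p.2) ≠ 0 := by
  rw [tab_E8]
  exact e8c_adj_cartan_fast

/-- `E₈`: for an edge `(i, j)` of the Dynkin diagram the commutator of `n_i`, `n_j` is not in `B` -/
theorem e8c_adj_E8 {i j : ℕ} (hi : i < chevE8.rank) (hj : j < chevE8.rank)
    (hij : (i, j) ∈ e8c_adj_edges) :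
    nGL good3_E8.toGood2.toGood1 (good3_E8.toGood2.toGood1.simple_lt hi) *
      nGL good3_E8.toGood2.toGood1 (good3_E8.toGood2.toGood1.simple_lt hj) *
      (nGL good3_E8.toGood2.toGood1 (good3_E8.toGood2.toGood1.simple_lt hi))⁻¹ *
      (nGL good3_E8.toGood2.toGood1 (good3_E8.toGood2.toGood1.simple_lt hj))⁻¹ ∉
        chevE8.borelSubgroup F := by
  have hne : i ≠ j := by
    intro h
    subst h
    revert hij
    unfold e8c_adj_edges
    simp only [List.mem_cons, Prod.mk.injEq, List.not_mem_nil, or_false]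
    omega
  exact e8c_adj_comm_not_mem_borel good3_E8.toGood2 T0_E8 T8_E8 T13_E8 hi hj hne
    (e8c_adj_cartan_E8 (i, j) hij)

/-- the same inside the group `E₈(F)`: elements of the group whose matrices are `n_i`, `n_j` -/
theorem e8c_adj_E8_group {i j : ℕ} (hi : i < chevE8.rank) (hj : j < chevE8.rank)
    (hij : (i, j) ∈ e8c_adj_edges) (s s' : ↥(chevE8.group F))
    (hs : ((s : GL chevE8.Idx F) : Matrix chevE8.Idx chevE8.Idx F) = chevE8.nMat F (chevE8.simple i) 1)
    (hs' : ((s' : GL chevE8.Idx F) : Matrix chevE8.Idx chevE8.Idx F)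
      = chevE8.nMat F (chevE8.simple j) 1) :
    s * s' * s⁻¹ * s'⁻¹ ∉ (chevE8.borelSubgroup F).subgroupOf (chevE8.group F) := by
  have hG1 := good3_E8.toGood2.toGood1
  have e1 : (s : GL chevE8.Idx F) = nGL hG1 (hG1.simple_lt hi) :=
    Units.ext (hs.trans (nGL_coe hG1 (hG1.simple_lt hi)).symm)
  have e2 : (s' : GL chevE8.Idx F) = nGL hG1 (hG1.simple_lt hj) :=
    Units.ext (hs'.trans (nGL_coe hG1 (hG1.simple_lt hj)).symm)
  intro hmem
  rw [Subgroup.mem_subgroupOf] at hmem
  rw [Subgroup.coe_mul, Subgroup.coe_mul, Subgroup.coe_mul, Subgroup.coe_inv, Subgroup.coe_inv,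
    e1, e2] at hmem
  exact e8c_adj_E8 hi hj hij hmem

end Cfsg.Agent.E8C
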