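import Mathlib

/-!
# Abstract assembly for S5751 (iterated cores of two conjugate maximal subgroups)

Pure group theory: from a filtration `Q 1 ≥ Q 2 ≥ …` of a coatom `P` of a finite group and an involution `g`
with the "shift" and "step" properties, the iterated cores are `A i = Q (i+1)`.
-/

set_option autoImplicit false

namespace Cfsg.Agent.E8C

variable {G : Type*} [Group G]

/-- The core in `M` of `Y`: the largest subgroup of `Y ⊓ M` normalised by `M`, as a subgroup of `G`. -/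
def e8c_coreIn (M Y : Subgroup G) : Subgroup G :=
  ((Y.subgroupOf M).normalCore).map M.subtype

theorem e8c_mem_coreIn {M Y : Subgroup G} {x : G} :
    x ∈ e8c_coreIn M Y ↔ x ∈ M ∧ ∀ m ∈ M, m * x * m⁻¹ ∈ Y := by
  unfold e8c_coreIn
  constructor
  · rintro ⟨y, hy, rfl⟩
    refine ⟨y.2, fun m hm => ?_⟩
    have := hy ⟨m, hm⟩
    simpa [Subgroup.mem_subgroupOf] using this
  · rintro ⟨hx, h⟩
    refine ⟨⟨x, hx⟩, ?_, rfl⟩
    intro b
    have := h b.1 b.2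
    simpa [Subgroup.mem_subgroupOf] using this

theorem e8c_coreIn_le_left (M Y : Subgroup G) : e8c_coreIn M Y ≤ M := fun _ hx =>
  (e8c_mem_coreIn.1 hx).1

theorem e8c_coreIn_le_right (M Y : Subgroup G) : e8c_coreIn M Y ≤ Y := fun x hx => by
  have := (e8c_mem_coreIn.1 hx).2 1 (one_mem _)
  simpa using this

theorem e8c_coreIn_conj_mem {M Y : Subgroup G} {x m : G} (hx : x ∈ e8c_coreIn M Y) (hm : m ∈ M) :
    m * x * m⁻¹ ∈ e8c_coreIn M Y := by
  rw [e8c_mem_coreIn] at hx ⊢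
  refine ⟨M.mul_mem (M.mul_mem hm hx.1) (M.inv_mem hm), fun m' hm' => ?_⟩
  have := hx.2 (m' * m) (M.mul_mem hm' hm)
  simpa [mul_assoc] using this

theorem e8c_le_coreIn {M Y N : Subgroup G} (hNM : N ≤ M) (hNY : N ≤ Y)
    (hnorm : ∀ m ∈ M, ∀ x ∈ N, m * x * m⁻¹ ∈ N) : N ≤ e8c_coreIn M Y := fun x hx =>
  e8c_mem_coreIn.2 ⟨hNM hx, fun m hm => hNY (hnorm m hm x hx)⟩

/-- conjugation by `g` as a map on subgroups -/
abbrev e8c_cj (g : G) (H : Subgroup G) : Subgroup G := H.map (MulAut.conj g).toMonoidHom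

theorem e8c_mem_cj {g x : G} {H : Subgroup G} : x ∈ e8c_cj g H ↔ g⁻¹ * x * g ∈ H := by
  constructor
  · rintro ⟨y, hy, rfl⟩
    simpa [MulAut.conj_apply, mul_assoc] using hy
  · intro h
    exact ⟨g⁻¹ * x * g, h, by simp [MulAut.conj_apply, mul_assoc]⟩

theorem e8c_coreIn_cj (g : G) (M Y : Subgroup G) :
    e8c_coreIn (e8c_cj g M) (e8c_cj g Y) = e8c_cj g (e8c_coreIn M Y) := by
  ext x
  rw [e8c_mem_cj, e8c_mem_coreIn, e8c_mem_coreIn, e8c_mem_cj]
  constructor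
  · rintro ⟨h1, h2⟩
    refine ⟨h1, fun m hm => ?_⟩
    have := h2 (g * m * g⁻¹) (e8c_mem_cj.2 (by simpa [mul_assoc] using hm))
    rw [e8c_mem_cj] at this
    simpa [mul_assoc] using this
  · rintro ⟨h1, h2⟩
    refine ⟨h1, fun m hm => ?_⟩
    rw [e8c_mem_cj] at hm ⊢
    have := h2 _ hm
    simpa [mul_assoc] using this

theorem e8c_cj_inf (g : G) (H K : Subgroup G) : e8c_cj g (H ⊓ K) = e8c_cj g H ⊓ e8c_cj g K := by
  ext x
  simp only [e8c_mem_cj, Subgroup.mem_inf]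

theorem e8c_cj_cj_of_sq {g : G} (hg : g * g = 1) (H : Subgroup G) : e8c_cj g (e8c_cj g H) = H := by
  have hinv : g⁻¹ = g := inv_eq_of_mul_eq_one_left hg
  ext x
  rw [e8c_mem_cj, e8c_mem_cj, hinv]
  have : g * (g * x * g) * g = x := by
    calc g * (g * x * g) * g = (g * g) * x * (g * g) := by simp only [mul_assoc]
      _ = x := by rw [hg]; simp
  rw [this]

/-- The pair of sequences. -/
def e8c_seq (M₁ M₂ : Subgroup G) : ℕ → Subgroup G × Subgroup G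
  | 0 => (M₁, M₂)
  | (i + 1) => (e8c_coreIn M₁ ((e8c_seq M₁ M₂ i).1 ⊓ (e8c_seq M₁ M₂ i).2),
               e8c_coreIn M₂ ((e8c_seq M₁ M₂ i).1 ⊓ (e8c_seq M₁ M₂ i).2))

theorem e8c_seq_symm {g : G} (hg : g * g = 1) (P : Subgroup G) (i : ℕ) :
    (e8c_seq P (e8c_cj g P) i).2 = e8c_cj g (e8c_seq P (e8c_cj g P) i).1 := by
  induction i with
  | zero => rfl
  | succ i ih =>
    show e8c_coreIn (e8c_cj g P) _ = e8c_cj g (e8c_coreIn P _)
    rw [← e8c_coreIn_cj, e8c_cj_inf, ih, e8c_cj_cj_of_sq hg, inf_comm]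

/-- **Assembly.** -/
theorem e8c_assemble {G : Type} [Group G] (P : Subgroup G) (g : G) (Q : ℕ → Subgroup G)
    (hco : IsCoatom P) (hcore : P.normalCore = ⊥) (hg2 : g * g = 1) (hgP : g ∉ P)
    (hQ1 : Q 1 ≤ P) (hQanti : ∀ k, Q (k + 1) ≤ Q k)
    (hQnorm : ∀ k, 1 ≤ k → ∀ p ∈ P, ∀ x ∈ Q k, p * x * p⁻¹ ∈ Q k)
    (hQshift : ∀ k, 1 ≤ k → ∀ x ∈ Q (k + 1), g * x * g⁻¹ ∈ Q k)
    (hQ7 : Q 7 = ⊥) (hQ6 : Q 6 ≠ ⊥)
    (hbase : ∀ N : Subgroup G, N ≤ P → (∀ p ∈ P, ∀ x ∈ N, p * x * p⁻¹ ∈ N) →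
      (∀ x ∈ N, g⁻¹ * x * g ∈ P) → N ≤ Q 1)
    (hstep1 : ∀ N : Subgroup G, N ≤ Q 1 → (∀ p ∈ P, ∀ x ∈ N, p * x * p⁻¹ ∈ N) →
      (∀ x ∈ N, g⁻¹ * x * g ∈ P) → N ≤ Q 2)
    (hstep : ∀ k, 2 ≤ k → ∀ N : Subgroup G, N ≤ Q k → (∀ p ∈ P, ∀ x ∈ N, p * x * p⁻¹ ∈ N) →
      (∀ x ∈ N, g⁻¹ * x * g ∈ Q k) → N ≤ Q (k + 1)) :
    ∃ (M₁ M₂ : Subgroup G) (g : G) (A B : ℕ → Subgroup G),
      IsCoatom M₁ ∧ M₂ = M₁.map (MulAut.conj g).toMonoidHom ∧ M₁ ≠ M₂ ∧ M₁.normalCore = ⊥ ∧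
      A 0 = M₁ ∧ B 0 = M₂ ∧
      (∀ i, A (i + 1) = ((A i ⊓ B i).subgroupOf M₁).normalCore.map M₁.subtype) ∧
      (∀ i, B (i + 1) = ((A i ⊓ B i).subgroupOf M₂).normalCore.map M₂.subtype) ∧
      A 6 = ⊥ ∧ A 5 ≠ ⊥ := by
  have hinv : g⁻¹ = g := inv_eq_of_mul_eq_one_left hg2
  set M₂ := e8c_cj g P with hM₂
  set A : ℕ → Subgroup G := fun i => (e8c_seq P M₂ i).1 with hA
  set B : ℕ → Subgroup G := fun i => (e8c_seq P M₂ i).2 with hB
  have hBA : ∀ i, B i = e8c_cj g (A i) := fun i => e8c_seq_symm hg2 P i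
  have hAs : ∀ i, A (i + 1) = e8c_coreIn P (A i ⊓ B i) := fun i => rfl
  have hQP : ∀ k, 1 ≤ k → Q k ≤ P := by
    intro k hk
    induction k, hk using Nat.le_induction with
    | base => exact hQ1
    | succ k _ ih => exact (hQanti k).trans ih
  -- lower bounds
  have hlow : ∀ i, Q (i + 1) ≤ A i := by
    intro i
    induction i with
    | zero => exact hQ1
    | succ i ih =>
      rw [hAs]
      refine e8c_le_coreIn (hQP _ (by omega)) (le_inf ((hQanti _).trans ih) ?_)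
        (hQnorm _ (by omega))
      intro x hx
      rw [hBA, e8c_mem_cj]
      apply ih
      have := hQshift (i + 1) (by omega) x hx
      rwa [hinv] at this ⊢
  -- upper bounds
  have hnormA : ∀ i, ∀ p ∈ P, ∀ x ∈ A (i + 1), p * x * p⁻¹ ∈ A (i + 1) := by
    intro i p hp x hx
    rw [hAs] at hx ⊢
    exact e8c_coreIn_conj_mem hx hp
  have hup1 : A 1 ≤ Q 2 := by
    have hAP : A 1 ≤ P := e8c_coreIn_le_left _ _
    have hAg : ∀ x ∈ A 1, g⁻¹ * x * g ∈ P := by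
      intro x hx
      have h1 : x ∈ A 0 ⊓ B 0 := e8c_coreIn_le_right _ _ hx
      have h2 : x ∈ e8c_cj g P := h1.2
      exact e8c_mem_cj.1 h2
    have h1 : A 1 ≤ Q 1 := hbase _ hAP (hnormA 0) hAg
    exact hstep1 _ h1 (hnormA 0) hAg
  have hup : ∀ i, 1 ≤ i → A i ≤ Q (i + 1) := by
    intro i hi
    induction i, hi using Nat.le_induction with
    | base => exact hup1
    | succ i hi ih =>
      have hle : A (i + 1) ≤ A i ⊓ B i := e8c_coreIn_le_right _ _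
      refine hstep (i + 1) (by omega) _ (fun x hx => ih (hle hx).1) (hnormA i) ?_
      intro x hx
      have h2 : x ∈ B i := (hle hx).2
      rw [hBA, e8c_mem_cj] at h2
      exact ih h2
  have hne : P ≠ M₂ := by
    intro h
    -- g normalises P, so P is normal (coatom), so P = ⊥, contradiction with Q 6 ≠ ⊥
    have hgN : g ∈ Subgroup.normalizer (P : Set G) := by
      rw [Subgroup.mem_normalizer_iff]
      intro x
      constructor
      · intro hx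
        have : g * x * g⁻¹ ∈ M₂ := by
          rw [hM₂, e8c_mem_cj]; simpa [mul_assoc] using hx
        rwa [← h] at this
      · intro hx
        have : g * x * g⁻¹ ∈ M₂ := by rwa [← h]
        rw [hM₂, e8c_mem_cj] at this
        simpa [mul_assoc] using this
    have hPN : P < Subgroup.normalizer (P : Set G) :=
      lt_of_le_of_ne Subgroup.le_normalizer (fun h' => hgP (by rw [h']; exact hgN))
    have htop : Subgroup.normalizer (P : Set G) = ⊤ := hco.2 _ hPN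
    have hnormal : P.Normal := Subgroup.normalizer_eq_top_iff.1 htop
    have : P = ⊥ := by rw [← hcore]; exact (Subgroup.normalCore_eq_self P).symm
    apply hQ6
    rw [eq_bot_iff, ← this]
    exact hQP 6 (by omega)
  refine ⟨P, M₂, g, A, B, hco, rfl, hne, hcore, rfl, rfl, fun i => rfl, fun i => rfl, ?_, ?_⟩
  · rw [eq_bot_iff, ← hQ7]
    exact hup 6 (by omega)
  · intro h
    apply hQ6
    rw [eq_bot_iff, ← h]
    exact hlow 5

end Cfsg.Agent.E8C
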