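import Mathlib
import Cfsg.Agent.E8C.Assemble

/-!
# Abstract assembly for S5751, second form: no hypothesis on the core of `P` and none on `g ∉ P`

Both follow from `A 6 = ⊥ ≠ A 5` (remark of helper3).
-/

set_option autoImplicit false

namespace Cfsg.Agent.E8C

/-- **Assembly, second form.** -/
theorem e8c_assemble' {G : Type} [Group G] (P : Subgroup G) (g : G) (Q : ℕ → Subgroup G)
    (hco : IsCoatom P) (hg2 : g * g = 1)
    (hQ1 : Q 1 ≤ P) (hQanti : ∀ k, Q (k + 1) ≤ Q k)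
    (hQnorm : ∀ k, 1 ≤ k → ∀ p ∈ P, ∀ x ∈ Q k, p * x * p⁻¹ ∈ Q k)
    (hQshift : ∀ k, 1 ≤ k → ∀ x ∈ Q (k + 1), g * x * g⁻¹ ∈ Q k)
    (hQ7 : Q 7 = ⊥) (hQ6 : Q 6 ≠ ⊥)
    (hbase : ∀ N : Subgroup G, N ≤ P → (∀ p ∈ P, ∀ x ∈ N, p * x * p⁻¹ ∈ N) →
      (∀ x ∈ N, g⁻¹ * x * g ∈ P) → N ≤ Q 1)
    (hstep1 : ∀ N : Subgroup G, N ≤ Q 1 → (∀ p ∈ P, ∀ x ∈ N, p * x * p⁻¹ ∈ N) →
      (∀ x ∈ N, g⁻¹ * x * g ∈ P) → N ≤ Q 2)
    (hstep : ∀ k, 2 ≤ k → ∀ N : Subgroup G, N ≤ Q k → (∀ p ∈ P, ∀ x ∈ N, p * x * p⁻¹ ∈ N) →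
      (∀ x ∈ N, g⁻¹ * x * g ∈ Q k) → N ≤ Q (k + 1)) :
    ∃ (M₁ M₂ : Subgroup G) (g : G) (A B : ℕ → Subgroup G),
      IsCoatom M₁ ∧ M₂ = M₁.map (MulAut.conj g).toMonoidHom ∧ M₁ ≠ M₂ ∧ M₁.normalCore = ⊥ ∧
      A 0 = M₁ ∧ B 0 = M₂ ∧
      (∀ i, A (i + 1) = ((A i ⊓ B i).subgroupOf M₁).normalCore.map M₁.subtype) ∧
      (∀ i, B (i + 1) = ((A i ⊓ B i).subgroupOf M₂).normalCore.map M₂.subtype) ∧
      A 6 = ⊥ ∧ A 5 ≠ ⊥ := by
  have hinv : g⁻¹ = g := inv_eq_of_mul_eq_one_left hg2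
  set M₂ := e8c_cj g P with hM₂
  set A : ℕ → Subgroup G := fun i => (e8c_seq P M₂ i).1 with hA
  set B : ℕ → Subgroup G := fun i => (e8c_seq P M₂ i).2 with hB
  have hBA : ∀ i, B i = e8c_cj g (A i) := fun i => e8c_seq_symm hg2 P i
  have hAs : ∀ i, A (i + 1) = e8c_coreIn P (A i ⊓ B i) := fun i => rfl
  have hQP : ∀ k, 1 ≤ k → Q k ≤ P := by
    intro k hk
    induction k, hk using Nat.le_induction with
    | base => exact hQ1
    | succ k _ ih => exact (hQanti k).trans ih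
  -- lower bounds
  have hlow : ∀ i, Q (i + 1) ≤ A i := by
    intro i
    induction i with
    | zero => exact hQ1
    | succ i ih =>
      rw [hAs]
      refine e8c_le_coreIn (hQP _ (by omega)) (le_inf ((hQanti _).trans ih) ?_)
        (hQnorm _ (by omega))
      intro x hx
      rw [hBA, e8c_mem_cj]
      apply ih
      have := hQshift (i + 1) (by omega) x hx
      rwa [hinv] at this ⊢
  -- upper bounds
  have hnormA : ∀ i, ∀ p ∈ P, ∀ x ∈ A (i + 1), p * x * p⁻¹ ∈ A (i + 1) := by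
    intro i p hp x hx
    rw [hAs] at hx ⊢
    exact e8c_coreIn_conj_mem hx hp
  have hup1 : A 1 ≤ Q 2 := by
    have hAP : A 1 ≤ P := e8c_coreIn_le_left _ _
    have hAg : ∀ x ∈ A 1, g⁻¹ * x * g ∈ P := by
      intro x hx
      have h1 : x ∈ A 0 ⊓ B 0 := e8c_coreIn_le_right _ _ hx
      have h2 : x ∈ e8c_cj g P := h1.2
      exact e8c_mem_cj.1 h2
    have h1 : A 1 ≤ Q 1 := hbase _ hAP (hnormA 0) hAg
    exact hstep1 _ h1 (hnormA 0) hAg
  have hup : ∀ i, 1 ≤ i → A i ≤ Q (i + 1) := by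
    intro i hi
    induction i, hi using Nat.le_induction with
    | base => exact hup1
    | succ i hi ih =>
      have hle : A (i + 1) ≤ A i ⊓ B i := e8c_coreIn_le_right _ _
      refine hstep (i + 1) (by omega) _ (fun x hx => ih (hle hx).1) (hnormA i) ?_
      intro x hx
      have h2 : x ∈ B i := (hle hx).2
      rw [hBA, e8c_mem_cj] at h2
      exact ih h2
  have hA6 : A 6 = ⊥ := by
    rw [eq_bot_iff, ← hQ7]
    exact hup 6 (by omega)
  have hA5 : A 5 ≠ ⊥ := by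
    intro h
    apply hQ6
    rw [eq_bot_iff, ← h]
    exact hlow 5
  -- M₁ ≠ M₂ : otherwise all `A i` equal `P`
  have hne : P ≠ M₂ := by
    intro h
    have hall : ∀ i, A i = P ∧ B i = P := by
      intro i
      induction i with
      | zero => exact ⟨rfl, h.symm⟩
      | succ i ih =>
        have hAi : A (i + 1) = P := by
          rw [hAs, ih.1, ih.2, inf_idem]
          apply le_antisymm (e8c_coreIn_le_left _ _)
          exact e8c_le_coreIn le_rfl le_rfl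
            (fun m hm x hx => P.mul_mem (P.mul_mem hm hx) (P.inv_mem hm))
        refine ⟨hAi, ?_⟩
        rw [hBA, hAi]
        exact h.symm
    exact hA5 (by rw [(hall 5).1, ← (hall 6).1]; exact hA6)
  -- the core of `P` lies in every `A i`
  have hcore : P.normalCore = ⊥ := by
    have hCn : ∀ (y : G), ∀ x ∈ P.normalCore, y * x * y⁻¹ ∈ P.normalCore := by
      intro y x hx
      exact (Subgroup.normalCore_normal P).conj_mem x hx y
    have hC : ∀ i, P.normalCore ≤ A i := by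
      intro i
      induction i with
      | zero => exact Subgroup.normalCore_le P
      | succ i ih =>
        rw [hAs]
        refine e8c_le_coreIn (Subgroup.normalCore_le P) (le_inf ih ?_) (fun m _ x hx => hCn m x hx)
        intro x hx
        rw [hBA, e8c_mem_cj]
        apply ih
        have := hCn g⁻¹ x hx
        simpa using this
    rw [eq_bot_iff, ← hA6]
    exact hC 6
  exact ⟨P, M₂, g, A, B, hco, rfl, hne, hcore, rfl, rfl, fun i => rfl, fun i => rfl, hA6, hA5⟩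

end Cfsg.Agent.E8C
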