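import Mathlib
import Cfsg.Agent.Helper7.BNSimple

/-!
# Generic (B,N)-pair input for S5751

* `e8c_bn_coatom`: the maximal parabolic subgroup `P_{S ∖ {s₀}}` is a coatom.
* `e8c_comm_mem_B`: Tits' commutation lemma for a subgroup `H` normalised only by `B` and by `s'`.
* `e8c_bn_base`: a subgroup `N` of `P_J` (`J = S ∖ {s₀}`) normalised by `P_J` with `s₀⁻¹ N s₀ ≤ P_J` lies in `B`,
  as soon as every "commutation-closed" non-empty subset of `J` contains a generator not commuting with `s₀`.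
-/

set_option autoImplicit false

namespace Cfsg.Agent.E8C

open Cfsg DoubleCoset Cfsg.Agent.Helper7.InvWords Cfsg.Agent.Helper7.BN
open scoped Pointwise

variable {G : Type*} [Group G] (P : Cfsg.BNPair G)

/-- The maximal parabolic subgroup `P_{S ∖ {s₀}}` is a coatom of the subgroup lattice. -/
theorem e8c_bn_coatom {s₀ : G} (hs₀ : s₀ ∈ P.S) : IsCoatom (P.parabolic (P.S \ {s₀})) := by
  have hJ : P.S \ {s₀} ⊆ P.S := Set.sdiff_subset
  constructor
  · intro h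
    have : s₀ ∈ P.parabolic (P.S \ {s₀}) := by rw [h]; trivial
    exact (mem_of_mem_parabolic P hJ hs₀ this).2 rfl
  · intro M hM
    have hBM : P.B ≤ M := (B_le_parabolic P _).trans hM.le
    have hpar := eq_parabolic_of_le P M hBM
    by_cases hs : s₀ ∈ M
    · rw [eq_top_iff, ← closure_S_sup_B P]
      apply sup_le hBM
      rw [Subgroup.closure_le]
      intro s hsS
      by_cases h : s = s₀
      · rw [h]; exact hs
      · exact hM.le (mem_parabolic_of_mem P ⟨hsS, h⟩)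
    · exfalso
      apply hM.ne
      apply le_antisymm hM.le
      rw [hpar]
      apply parabolic_mono
      rintro s ⟨hsS, hsM⟩
      refine ⟨hsS, ?_⟩
      rintro rfl
      exact hs hsM

theorem e8c_le_normalizer_of_conj {A H : Subgroup G} (h : ∀ a ∈ A, ∀ x ∈ H, a * x * a⁻¹ ∈ H) :
    A ≤ Subgroup.normalizer (H : Set G) := by
  intro a ha
  rw [Subgroup.mem_normalizer_iff]
  intro x
  constructor
  · exact h a ha x
  · intro hx
    have := h a⁻¹ (A.inv_mem ha) _ hx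
    simpa [mul_assoc] using this

/-- Tits' commutation lemma for a subgroup `H` normalised by `B` and by `s'` only. -/
theorem e8c_comm_mem_B (H : Subgroup G) (hBH : ∀ b ∈ P.B, ∀ h ∈ H, b * h * b⁻¹ ∈ H)
    {s s' : G} (hs : s ∈ P.S) (hs' : s' ∈ P.S) (hs'H : ∀ h ∈ H, s' * h * s'⁻¹ ∈ H)
    (hsM : s ∈ P.B ⊔ H) (hs'M : s' ∉ P.B ⊔ H) : s * s' * s⁻¹ * s'⁻¹ ∈ P.B := by
  set M : Subgroup G := P.B ⊔ H with hM
  have hBM : P.B ≤ M := le_sup_left
  have hpar := eq_parabolic_of_le P M hBM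
  have hX : P.S ∩ (M : Set G) ⊆ P.S := Set.inter_subset_left
  have hsN := P.subset hs
  have hs'N := P.subset hs'
  have hr : proj P ⟨s, hsN⟩ ∈ RS P := mem_Rset_of_mem P hs hsN
  have ht : proj P ⟨s', hs'N⟩ ∈ RS P := mem_Rset_of_mem P hs' hs'N
  have hrt : proj P ⟨s, hsN⟩ ≠ proj P ⟨s', hs'N⟩ := by
    intro h
    rw [proj_eq_iff] at h
    have : s = s' := P.inj s hs s' hs' h
    exact hs'M (this ▸ hsM)
  have htK : proj P ⟨s', hs'N⟩ ∉ Rset P (P.S ∩ (M : Set G)) := by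
    intro h
    have := mem_of_proj_mem_closure_Rset P hX hs' (Subgroup.subset_closure h)
    exact hs'M this.2
  have hle : P.B ≤ Subgroup.normalizer (H : Set G) := e8c_le_normalizer_of_conj hBH
  have hsM' : s ∈ ((P.B ⊔ H : Subgroup G) : Set G) := hsM
  rw [Subgroup.coe_mul_of_left_le_normalizer_right _ _ hle, Set.mem_mul] at hsM'
  obtain ⟨b, hb, h, hh, hbh⟩ := hsM'
  have hhC : h ∈ CW P (proj P ⟨s, hsN⟩) := by
    rw [CW_proj]
    have : h = b⁻¹ * s := by rw [← hbh]; group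
    rw [this]
    exact mul_mem_C_left P (P.B.inv_mem hb) (self_mem_C P s)
  have hs'C : s' ∈ CW P (proj P ⟨s', hs'N⟩) := by
    rw [CW_proj]; exact self_mem_C P s'
  have hs'iC : s'⁻¹ ∈ CW P (proj P ⟨s', hs'N⟩) := by
    rw [CW_proj]; exact S_inv_mem_C P hs'
  have hgood : Good P (proj P ⟨s', hs'N⟩) (proj P ⟨s, hsN⟩) :=
    good_of_le P ht (len_le_len_mul_of_ne P hr ht hrt)
  have h1 := hgood s' hs'C h hhC
  have h2 := CW_T3_right P ht h1 hs'iC
  have hgM : s' * h * s'⁻¹ ∈ M := (le_sup_right : H ≤ M) (hs'H h hh)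
  rw [hpar] at hgM
  have hcomm : proj P ⟨s', hs'N⟩ * proj P ⟨s, hsN⟩ = proj P ⟨s, hsN⟩ * proj P ⟨s', hs'N⟩ := by
    apply comm_of_mem_closure P hr ht hrt (Rset_mono P hX) htK
    rcases h2 with h2 | h2
    · right
      exact (mem_parabolic_iff_CW P hX h2).mp hgM
    · left
      exact (mem_parabolic_iff_CW P hX h2).mp hgM
  have hone : proj P (⟨s, hsN⟩ * ⟨s', hs'N⟩ * ⟨s, hsN⟩⁻¹ * ⟨s', hs'N⟩⁻¹) = 1 := by
    rw [map_mul, map_mul, map_mul, map_inv, map_inv, ← hcomm]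
    group
  exact (proj_eq_one_iff P).mp hone

/-- **Base step (a).** A subgroup `N` of the maximal parabolic `P_J`, `J = S ∖ {s₀}`, normalised by `P_J`, whose
conjugate `s₀⁻¹ N s₀` also lies in `P_J`, is contained in `B` — provided every non-empty subset `K ⊆ J` that commutes
(modulo `B`) with its complement in `J` contains a generator that does not commute with `s₀`. -/
theorem e8c_bn_base {s₀ : G} (hs₀ : s₀ ∈ P.S)
    (hconn : ∀ K : Set G, K ⊆ P.S \ {s₀} → K.Nonempty →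
      (∀ s ∈ K, ∀ s' ∈ (P.S \ {s₀}) \ K, s * s' * s⁻¹ * s'⁻¹ ∈ P.B) →
      ∃ s ∈ K, s₀ * s * s₀⁻¹ * s⁻¹ ∉ P.B)
    (N : Subgroup G) (hNP : N ≤ P.parabolic (P.S \ {s₀}))
    (hnorm : ∀ p ∈ P.parabolic (P.S \ {s₀}), ∀ x ∈ N, p * x * p⁻¹ ∈ N)
    (hg : ∀ x ∈ N, s₀⁻¹ * x * s₀ ∈ P.parabolic (P.S \ {s₀})) : N ≤ P.B := by
  set J := P.S \ {s₀} with hJdef
  have hJ : J ⊆ P.S := Set.sdiff_subset
  set M : Subgroup G := P.B ⊔ N with hM
  have hBM : P.B ≤ M := le_sup_left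
  have hMP : M ≤ P.parabolic J := sup_le (B_le_parabolic P J) hNP
  have hpar := eq_parabolic_of_le P M hBM
  have hKJ : P.S ∩ (M : Set G) ⊆ J := by
    rintro s ⟨hsS, hsM⟩
    exact mem_of_mem_parabolic P hJ hsS (hMP hsM)
  have hBN : ∀ b ∈ P.B, ∀ h ∈ N, b * h * b⁻¹ ∈ N := fun b hb => hnorm b (B_le_parabolic P J hb)
  by_cases hKne : (P.S ∩ (M : Set G)).Nonempty
  · exfalso
    obtain ⟨s, hsK, hns⟩ := hconn _ hKJ hKne (by
      intro s hs s' hs'
      apply e8c_comm_mem_B P N hBN hs.1 hs'.1.1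
        (fun h hh => hnorm s' (mem_parabolic_of_mem P hs'.1) h hh) hs.2
      intro h
      exact hs'.2 ⟨hs'.1.1, h⟩)
    have hle : P.B ≤ Subgroup.normalizer (N : Set G) := e8c_le_normalizer_of_conj hBN
    have hsM' : s ∈ ((P.B ⊔ N : Subgroup G) : Set G) := hsK.2
    rw [Subgroup.coe_mul_of_left_le_normalizer_right _ _ hle, Set.mem_mul] at hsM'
    obtain ⟨b, hb, h, hh, hbh⟩ := hsM'
    have hsS := hsK.1
    have hsN := P.subset hsS
    have hs₀N := P.subset hs₀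
    have hr : proj P ⟨s, hsN⟩ ∈ RS P := mem_Rset_of_mem P hsS hsN
    have ht : proj P ⟨s₀, hs₀N⟩ ∈ RS P := mem_Rset_of_mem P hs₀ hs₀N
    have hne : s ≠ s₀ := (hKJ hsK).2
    have hrt : proj P ⟨s, hsN⟩ ≠ proj P ⟨s₀, hs₀N⟩ := by
      intro h
      rw [proj_eq_iff] at h
      exact hne (P.inj s hsS s₀ hs₀ h)
    have htJ : proj P ⟨s₀, hs₀N⟩ ∉ Rset P J := by
      intro h
      have := mem_of_proj_mem_closure_Rset P hJ hs₀ (Subgroup.subset_closure h)
      exact this.2 rfl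
    have hhC : h ∈ CW P (proj P ⟨s, hsN⟩) := by
      rw [CW_proj]
      have : h = b⁻¹ * s := by rw [← hbh]; group
      rw [this]
      exact mul_mem_C_left P (P.B.inv_mem hb) (self_mem_C P s)
    have hs₀iC : s₀⁻¹ ∈ CW P (proj P ⟨s₀, hs₀N⟩) := by
      rw [CW_proj]; exact S_inv_mem_C P hs₀
    have hs₀C : s₀ ∈ CW P (proj P ⟨s₀, hs₀N⟩) := by
      rw [CW_proj]; exact self_mem_C P s₀
    have hgood : Good P (proj P ⟨s₀, hs₀N⟩) (proj P ⟨s, hsN⟩) :=
      good_of_le P ht (len_le_len_mul_of_ne P hr ht hrt)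
    have h1 := hgood s₀⁻¹ hs₀iC h hhC
    have h2 := CW_T3_right P ht h1 hs₀C
    have hgM : s₀⁻¹ * h * s₀ ∈ P.parabolic J := hg h hh
    have hcomm : proj P ⟨s₀, hs₀N⟩ * proj P ⟨s, hsN⟩ = proj P ⟨s, hsN⟩ * proj P ⟨s₀, hs₀N⟩ := by
      apply comm_of_mem_closure P hr ht hrt (Rset_mono P hJ) htJ
      rcases h2 with h2 | h2
      · right
        exact (mem_parabolic_iff_CW P hJ h2).mp hgM
      · left
        exact (mem_parabolic_iff_CW P hJ h2).mp hgM
    apply hns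
    have hone : proj P (⟨s₀, hs₀N⟩ * ⟨s, hsN⟩ * ⟨s₀, hs₀N⟩⁻¹ * ⟨s, hsN⟩⁻¹) = 1 := by
      rw [map_mul, map_mul, map_mul, map_inv, map_inv, hcomm]
      group
    exact (proj_eq_one_iff P).mp hone
  · rw [Set.not_nonempty_iff_eq_empty] at hKne
    rw [hKne] at hpar
    unfold BNPair.parabolic at hpar
    rw [Subgroup.closure_empty, sup_bot_eq] at hpar
    have : N ≤ M := le_sup_right
    rwa [hpar] at this

end Cfsg.Agent.E8C
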