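import Mathlib
import Cfsg.Agent.E8C.BNBase
import Cfsg.Agent.Helper7.ChevGood3
import Cfsg.Agent.Helper7.ChevT5
import Cfsg.Agent.Helper7.ChevT6
import Cfsg.Agent.Helper7.ChevT7
import Cfsg.Agent.Helper7.ChevT9
import Cfsg.Agent.Helper7.ChevT13
import Cfsg.Agent.Helper7.ChevSimple

/-!
# The (B,N)-pair input for S5751, instantiated for `E₈(F)`

For the Chevalley group `G = chevE8.group F`, the maximal parabolic subgroup `P = P_J`, `J = {j | j ≠ 3}`
(all nodes but the branch node), and `g = n₃`: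

* `e8c_bne8_coatom`: `P` is a coatom of the subgroup lattice of `G`;
* `e8c_bne8_base`: a subgroup `N ≤ P` normalised by `P` with `g⁻¹ N g ≤ P` lies in the Borel subgroup `B`.
-/

set_option autoImplicit false

namespace Cfsg.Agent.E8C

open Cfsg Cfsg.Lie Cfsg.Agent.Helper7.Chev Cfsg.Agent.Helper7.BN

theorem e8c_bne8_subgroupOf_closure_le {X : Type*} [Group X] (K : Subgroup X) (T : Set X)
    (hT : T ⊆ K) :
    (Subgroup.closure T).subgroupOf K ≤ Subgroup.closure (K.subtype ⁻¹' T) := by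
  intro x hx
  rw [Subgroup.mem_subgroupOf] at hx
  have hle : Subgroup.closure T ≤ (Subgroup.closure (K.subtype ⁻¹' T)).map K.subtype := by
    rw [Subgroup.closure_le]
    intro t ht
    exact ⟨⟨t, hT ht⟩, Subgroup.subset_closure ht, rfl⟩
  obtain ⟨y, hy, hyx⟩ := hle hx
  have : y = x := Subtype.ext hyx
  exact this ▸ hy

section

variable {F : Type*} [Field F]

theorem e8c_bne8_good2 : Good2 chevE8 := good3_E8.toGood2

theorem e8c_bne8_good1 : Good1 chevE8 := good3_E8.toGood2.toGood1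

theorem e8c_bne8_rank : chevE8.rank = 8 := rfl

/-- The (B,N)-pair of `E₈(F)`. -/
theorem e8c_bne8_exists_bn (F : Type*) [Field F] :
    ∃ P : Cfsg.BNPair ↥(chevE8.group F),
      P.B = (chevE8.borelSubgroup F).subgroupOf (chevE8.group F) ∧
      P.S = {n : ↥(chevE8.group F) | ∃ i < chevE8.rank,
        ((n : GL chevE8.Idx F) : Matrix chevE8.Idx chevE8.Idx F) = chevE8.nMat F (chevE8.simple i) 1} := by
  obtain ⟨P, hB, _, hS⟩ := exists_bnPair (F := F) good3_E8.toGood2 T0_E8 good3_E8.t3 good3_E8.t4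
    T5_E8 T6_E8 T8_E8 T9_E8
  exact ⟨P, hB, hS⟩

/-- An element of the group with the matrix of `n_i` is `nGL`. -/
theorem e8c_bne8_eq_nGL {s : ↥(chevE8.group F)} {i : ℕ} (hi : i < chevE8.rank)
    (hs : ((s : GL chevE8.Idx F) : Matrix chevE8.Idx chevE8.Idx F) = chevE8.nMat F (chevE8.simple i) 1) :
    (s : GL chevE8.Idx F) = nGL e8c_bne8_good1 (e8c_bne8_good1.simple_lt hi) :=
  Units.ext (hs.trans (nGL_coe e8c_bne8_good1 _).symm)

/-- Distinct nodes give distinct representatives. -/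
theorem e8c_bne8_index_eq {s : ↥(chevE8.group F)} {i j : ℕ} (hi : i < chevE8.rank) (hj : j < chevE8.rank)
    (hsi : ((s : GL chevE8.Idx F) : Matrix chevE8.Idx chevE8.Idx F) = chevE8.nMat F (chevE8.simple i) 1)
    (hsj : ((s : GL chevE8.Idx F) : Matrix chevE8.Idx chevE8.Idx F) = chevE8.nMat F (chevE8.simple j) 1) :
    i = j := by
  by_contra hij
  apply nGL_inv_mul_not_mem_borel (F := F) good3_E8.toGood2 T0_E8 T6_E8 T8_E8 T9_E8 hi hj hij
  have h1 := e8c_bne8_eq_nGL hi hsi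
  have h2 := e8c_bne8_eq_nGL hj hsj
  change (nGL e8c_bne8_good1 (e8c_bne8_good1.simple_lt hi))⁻¹ *
    nGL e8c_bne8_good1 (e8c_bne8_good1.simple_lt hj) ∈ _
  rw [← h1, ← h2, inv_mul_cancel]
  exact one_mem _

/-- Identification of the matrix parabolic subgroup `P_J`, `J = {j | j ≠ 3}`, with the parabolic subgroup of the
(B,N)-pair obtained by deleting the generator `g = n₃`. -/
theorem e8c_bne8_P_eq (P : Cfsg.BNPair ↥(chevE8.group F))
    (hB : P.B = (chevE8.borelSubgroup F).subgroupOf (chevE8.group F))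
    (hS : P.S = {n : ↥(chevE8.group F) | ∃ i < chevE8.rank,
        ((n : GL chevE8.Idx F) : Matrix chevE8.Idx chevE8.Idx F) = chevE8.nMat F (chevE8.simple i) 1})
    (g : ↥(chevE8.group F))
    (hg : ((g : GL chevE8.Idx F) : Matrix chevE8.Idx chevE8.Idx F) = chevE8.nMat F (chevE8.simple 3) 1) :
    (chevE8.parabolicSubgroup F {j | j ≠ 3}).subgroupOf (chevE8.group F) = P.parabolic (P.S \ {g}) := by
  have hBG : chevE8.borelSubgroup F ≤ chevE8.group F := borelSubgroup_le_group e8c_bne8_good1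
  have hTG : ({x : GL chevE8.Idx F | ∃ j ∈ ({j | j ≠ 3} : Set ℕ), j < chevE8.rank ∧
      (x : Matrix chevE8.Idx chevE8.Idx F) = chevE8.nMat F (chevE8.simple j) 1} : Set (GL chevE8.Idx F)) ⊆
      (chevE8.group F : Set (GL chevE8.Idx F)) := by
    rintro x ⟨j, _, hj, hx⟩
    have : x = nGL e8c_bne8_good1 (e8c_bne8_good1.simple_lt hj) :=
      Units.ext (hx.trans (nGL_coe e8c_bne8_good1 _).symm)
    rw [this]
    exact monomialSubgroup_le_group e8c_bne8_good1 (nGL_mem_monomial good3_E8.toGood2 _)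
  apply le_antisymm
  · unfold ChevalleyDatum.parabolicSubgroup
    rw [Subgroup.subgroupOf_sup hBG ((Subgroup.closure_le _).mpr hTG)]
    apply sup_le
    · rw [← hB]
      exact B_le_parabolic P _
    · refine (e8c_bne8_subgroupOf_closure_le _ _ hTG).trans ?_
      refine le_trans ?_ (closure_le_parabolic P _)
      apply Subgroup.closure_mono
      rintro n ⟨j, hjJ, hj, hn⟩
      refine ⟨?_, ?_⟩
      · rw [hS]
        exact ⟨j, hj, hn⟩
      · intro h
        rw [Set.mem_singleton_iff] at h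
        apply hjJ
        have hn' : ((n : GL chevE8.Idx F) : Matrix chevE8.Idx chevE8.Idx F) =
            chevE8.nMat F (chevE8.simple j) 1 := hn
        rw [h] at hn'
        exact e8c_bne8_index_eq hj (by rw [e8c_bne8_rank]; norm_num) hn' hg
  · rw [parabolic_le_iff]
    constructor
    · rw [hB]
      intro x hx
      rw [Subgroup.mem_subgroupOf] at hx ⊢
      exact Subgroup.mem_sup_left hx
    · rintro s ⟨hsS, hne⟩
      rw [hS] at hsS
      obtain ⟨i, hi, hs⟩ := hsS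
      have hi3 : i ≠ 3 := by
        rintro rfl
        apply hne
        rw [Set.mem_singleton_iff]
        exact Subtype.ext (Units.ext (hs.trans hg.symm))
      change (s : GL chevE8.Idx F) ∈ chevE8.parabolicSubgroup F {j | j ≠ 3}
      exact Subgroup.mem_sup_right (Subgroup.subset_closure ⟨i, hi3, hi, hs⟩)

/-- **Coatom.** The maximal parabolic subgroup `P_J`, `J = {j | j ≠ 3}`, of `E₈(F)` is a coatom. -/
theorem e8c_bne8_coatom (F : Type*) [Field F] :
    IsCoatom ((chevE8.parabolicSubgroup F {j | j ≠ 3}).subgroupOf (chevE8.group F)) := by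
  obtain ⟨P, hB, hS⟩ := e8c_bne8_exists_bn F
  have h3 : (3 : ℕ) < chevE8.rank := by rw [e8c_bne8_rank]; norm_num
  let g : ↥(chevE8.group F) := ⟨nGL e8c_bne8_good1 (e8c_bne8_good1.simple_lt h3),
    monomialSubgroup_le_group e8c_bne8_good1 (nGL_mem_monomial good3_E8.toGood2 _)⟩
  have hg : ((g : GL chevE8.Idx F) : Matrix chevE8.Idx chevE8.Idx F) =
      chevE8.nMat F (chevE8.simple 3) 1 := nGL_coe e8c_bne8_good1 _
  rw [e8c_bne8_P_eq P hB hS g hg]
  apply e8c_bn_coatom P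
  rw [hS]
  exact ⟨3, h3, hg⟩


/-! ### Non-commutation of adjacent nodes modulo `B` -/

set_option maxRecDepth 1000000 in
set_option maxHeartbeats 0 in
/-- The adjacencies of the `E₈` diagram that are used: `0—2`, `5—4`, `6—5`, `7—6`, `3—1`, `3—2`, `3—4`. -/
theorem e8c_bne8_adj_fast :
    fastE8.cartan 0 (fastE8.simple 2) ≠ 0 ∧ fastE8.cartan 5 (fastE8.simple 4) ≠ 0 ∧
    fastE8.cartan 6 (fastE8.simple 5) ≠ 0 ∧ fastE8.cartan 7 (fastE8.simple 6) ≠ 0 ∧
    fastE8.cartan 3 (fastE8.simple 1) ≠ 0 ∧ fastE8.cartan 3 (fastE8.simple 2) ≠ 0 ∧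
    fastE8.cartan 3 (fastE8.simple 4) ≠ 0 := by decide +kernel

theorem e8c_bne8_adj_tab :
    (tabOf chevE8).cartan 0 ((tabOf chevE8).simple 2) ≠ 0 ∧
    (tabOf chevE8).cartan 5 ((tabOf chevE8).simple 4) ≠ 0 ∧
    (tabOf chevE8).cartan 6 ((tabOf chevE8).simple 5) ≠ 0 ∧
    (tabOf chevE8).cartan 7 ((tabOf chevE8).simple 6) ≠ 0 ∧
    (tabOf chevE8).cartan 3 ((tabOf chevE8).simple 1) ≠ 0 ∧
    (tabOf chevE8).cartan 3 ((tabOf chevE8).simple 2) ≠ 0 ∧
    (tabOf chevE8).cartan 3 ((tabOf chevE8).simple 4) ≠ 0 := tab_E8 ▸ e8c_bne8_adj_fast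

/-- For adjacent nodes `a`, `b` of the `E₈` diagram the commutator of `n_a` and `n_b` does not lie in `B`. -/
theorem e8c_bne8_not_comm {a b : ℕ} (ha : a < chevE8.rank) (hb : b < chevE8.rank) (hne : a ≠ b)
    (hadj : (tabOf chevE8).cartan a ((tabOf chevE8).simple b) ≠ 0) :
    nGL e8c_bne8_good1 (e8c_bne8_good1.simple_lt ha) * nGL e8c_bne8_good1 (e8c_bne8_good1.simple_lt hb) *
      (nGL e8c_bne8_good1 (e8c_bne8_good1.simple_lt ha))⁻¹ *
      (nGL e8c_bne8_good1 (e8c_bne8_good1.simple_lt hb))⁻¹ ∉ chevE8.borelSubgroup F := by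
  intro hmem
  obtain ⟨_, _, _, _, hord4⟩ := T13_E8
  obtain ⟨t1, _⟩ := hord4 a ha b hb hne hadj
  have hpa := simple_pos e8c_bne8_good1 T0_E8 ha
  have hpb := simple_pos e8c_bne8_good1 T0_E8 hb
  have hla := e8c_bne8_good1.simple_lt ha
  have hlb := e8c_bne8_good1.simple_lt hb
  have hpos := reflWord_pos_of_comm_mem_borel (F := F) good3_E8.toGood2 T0_E8 T8_E8 ha hb hmem
  rcases t1 with t | t
  · have := hpos _ hla hpa
    change chevE8.nroots / 2 ≤ (tabOf chevE8).reflWord [a, b, a, b] ((tabOf chevE8).simple a) at this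
    have t' : (tabOf chevE8).reflWord [a, b, a, b] ((tabOf chevE8).simple a) < chevE8.nroots / 2 := t
    omega
  · have := hpos _ hlb hpb
    change chevE8.nroots / 2 ≤ (tabOf chevE8).reflWord [a, b, a, b] ((tabOf chevE8).simple b) at this
    have t' : (tabOf chevE8).reflWord [a, b, a, b] ((tabOf chevE8).simple b) < chevE8.nroots / 2 := t
    omega

/-- Group-level form: if `s`, `s'` have the matrices of `n_a`, `n_b` (adjacent), their commutator is not in `B`. -/
theorem e8c_bne8_not_comm' {a b : ℕ} (ha : a < chevE8.rank) (hb : b < chevE8.rank) (hne : a ≠ b)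
    (hadj : (tabOf chevE8).cartan a ((tabOf chevE8).simple b) ≠ 0) {s s' : ↥(chevE8.group F)}
    (hs : ((s : GL chevE8.Idx F) : Matrix chevE8.Idx chevE8.Idx F) = chevE8.nMat F (chevE8.simple a) 1)
    (hs' : ((s' : GL chevE8.Idx F) : Matrix chevE8.Idx chevE8.Idx F) = chevE8.nMat F (chevE8.simple b) 1) :
    s * s' * s⁻¹ * s'⁻¹ ∉ (chevE8.borelSubgroup F).subgroupOf (chevE8.group F) := by
  intro hmem
  rw [Subgroup.mem_subgroupOf] at hmem
  apply e8c_bne8_not_comm (F := F) ha hb hne hadj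
  rw [← e8c_bne8_eq_nGL ha hs, ← e8c_bne8_eq_nGL hb hs']
  simpa using hmem

/-- The connectivity hypothesis of `e8c_bn_base` for `E₈` and the branch node. -/
theorem e8c_bne8_hconn (P : Cfsg.BNPair ↥(chevE8.group F))
    (hB : P.B = (chevE8.borelSubgroup F).subgroupOf (chevE8.group F))
    (hS : P.S = {n : ↥(chevE8.group F) | ∃ i < chevE8.rank,
        ((n : GL chevE8.Idx F) : Matrix chevE8.Idx chevE8.Idx F) = chevE8.nMat F (chevE8.simple i) 1})
    (g : ↥(chevE8.group F))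
    (hg : ((g : GL chevE8.Idx F) : Matrix chevE8.Idx chevE8.Idx F) = chevE8.nMat F (chevE8.simple 3) 1) :
    ∀ K : Set ↥(chevE8.group F), K ⊆ P.S \ {g} → K.Nonempty →
      (∀ s ∈ K, ∀ s' ∈ (P.S \ {g}) \ K, s * s' * s⁻¹ * s'⁻¹ ∈ P.B) →
      ∃ s ∈ K, g * s * g⁻¹ * s⁻¹ ∉ P.B := by
  intro K hK hKne hcomm
  obtain ⟨a02, a54, a65, a76, a31, a32, a34⟩ := e8c_bne8_adj_tab
  have hr : ∀ i, i < 8 → i < chevE8.rank := fun i hi => by rw [e8c_bne8_rank]; exact hi
  -- the representative of node `i`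
  let n : ∀ i, i < chevE8.rank → ↥(chevE8.group F) := fun i hi =>
    ⟨nGL e8c_bne8_good1 (e8c_bne8_good1.simple_lt hi),
      monomialSubgroup_le_group e8c_bne8_good1 (nGL_mem_monomial good3_E8.toGood2 _)⟩
  have hn : ∀ i (hi : i < chevE8.rank),
      (((n i hi : ↥(chevE8.group F)) : GL chevE8.Idx F) : Matrix chevE8.Idx chevE8.Idx F) =
        chevE8.nMat F (chevE8.simple i) 1 := fun i hi => nGL_coe e8c_bne8_good1 _
  have hnS : ∀ i (hi : i < chevE8.rank), n i hi ∈ P.S := by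
    intro i hi
    rw [hS]
    exact ⟨i, hi, hn i hi⟩
  have hng : ∀ i (hi : i < chevE8.rank), i ≠ 3 → n i hi ∈ P.S \ {g} := by
    intro i hi hi3
    refine ⟨hnS i hi, ?_⟩
    intro h
    rw [Set.mem_singleton_iff] at h
    apply hi3
    have := hn i hi
    rw [h] at this
    exact e8c_bne8_index_eq hi (hr 3 (by norm_num)) this hg
  -- propagation along an edge `i — j` inside `J`
  have hprop : ∀ i j (hi : i < chevE8.rank) (hj : j < chevE8.rank), i ≠ j → j ≠ 3 →
      (tabOf chevE8).cartan i ((tabOf chevE8).simple j) ≠ 0 → n i hi ∈ K → n j hj ∈ K := by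
    intro i j hi hj hij hj3 hadj hiK
    by_contra hjK
    have := hcomm _ hiK _ ⟨hng j hj hj3, hjK⟩
    rw [hB] at this
    exact e8c_bne8_not_comm' (F := F) hi hj hij hadj (hn i hi) (hn j hj) this
  -- conclusion from a neighbour of the branch node
  have hfin : ∀ k (hk : k < chevE8.rank), (3 : ℕ) ≠ k →
      (tabOf chevE8).cartan 3 ((tabOf chevE8).simple k) ≠ 0 → n k hk ∈ K →
      ∃ s ∈ K, g * s * g⁻¹ * s⁻¹ ∉ P.B := by
    intro k hk h3k hadj hkK
    refine ⟨_, hkK, ?_⟩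
    rw [hB]
    exact e8c_bne8_not_comm' (F := F) (hr 3 (by norm_num)) hk h3k hadj hg (hn k hk)
  obtain ⟨s, hsK⟩ := hKne
  have hsJ := hK hsK
  have hsS := hsJ.1
  rw [hS] at hsS
  obtain ⟨i, hi, hsi⟩ := hsS
  have hsn : s = n i hi := Subtype.ext (Units.ext (hsi.trans (hn i hi).symm))
  have hi3 : i ≠ 3 := by
    rintro rfl
    apply hsJ.2
    rw [Set.mem_singleton_iff]
    exact Subtype.ext (Units.ext (hsi.trans hg.symm))
  have hi8 : i < 8 := by rw [← e8c_bne8_rank]; exact hi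
  rw [hsn] at hsK
  have h0 := hr 0 (by norm_num)
  have h1 := hr 1 (by norm_num)
  have h2 := hr 2 (by norm_num)
  have h4 := hr 4 (by norm_num)
  have h5 := hr 5 (by norm_num)
  have h6 := hr 6 (by norm_num)
  have h7 := hr 7 (by norm_num)
  interval_cases i
  · exact hfin 2 h2 (by norm_num) a32 (hprop 0 2 h0 h2 (by norm_num) (by norm_num) a02 hsK)
  · exact hfin 1 h1 (by norm_num) a31 hsK
  · exact hfin 2 h2 (by norm_num) a32 hsK
  · exact absurd rfl hi3
  · exact hfin 4 h4 (by norm_num) a34 hsK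
  · exact hfin 4 h4 (by norm_num) a34 (hprop 5 4 h5 h4 (by norm_num) (by norm_num) a54 hsK)
  · exact hfin 4 h4 (by norm_num) a34 (hprop 5 4 h5 h4 (by norm_num) (by norm_num) a54
      (hprop 6 5 h6 h5 (by norm_num) (by norm_num) a65 hsK))
  · exact hfin 4 h4 (by norm_num) a34 (hprop 5 4 h5 h4 (by norm_num) (by norm_num) a54
      (hprop 6 5 h6 h5 (by norm_num) (by norm_num) a65
        (hprop 7 6 h7 h6 (by norm_num) (by norm_num) a76 hsK)))

/-- **BASE (a).** In `G = E₈(F)` with `P = P_J`, `J = {j | j ≠ 3}`, and `g` the representative `n₃` of the branch node: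
a subgroup `N ≤ P` normalised by `P` with `g⁻¹ N g ≤ P` lies in the Borel subgroup. -/
theorem e8c_bne8_base (F : Type*) [Field F] (g : ↥(chevE8.group F))
    (hg : ((g : GL chevE8.Idx F) : Matrix chevE8.Idx chevE8.Idx F) = chevE8.nMat F (chevE8.simple 3) 1)
    (N : Subgroup ↥(chevE8.group F))
    (hNP : N ≤ (chevE8.parabolicSubgroup F {j | j ≠ 3}).subgroupOf (chevE8.group F))
    (hnorm : ∀ p ∈ (chevE8.parabolicSubgroup F {j | j ≠ 3}).subgroupOf (chevE8.group F),
      ∀ x ∈ N, p * x * p⁻¹ ∈ N)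
    (hgN : ∀ x ∈ N, g⁻¹ * x * g ∈ (chevE8.parabolicSubgroup F {j | j ≠ 3}).subgroupOf (chevE8.group F)) :
    N ≤ (chevE8.borelSubgroup F).subgroupOf (chevE8.group F) := by
  obtain ⟨P, hB, hS⟩ := e8c_bne8_exists_bn F
  have hgS : g ∈ P.S := by
    rw [hS]
    exact ⟨3, by rw [e8c_bne8_rank]; norm_num, hg⟩
  rw [e8c_bne8_P_eq P hB hS g hg] at hNP hnorm hgN
  rw [← hB]
  exact e8c_bn_base P hgS (e8c_bne8_hconn P hB hS g hg) N hNP hnorm hgN

end

end Cfsg.Agent.E8C
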