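import Mathlib
import Cfsg.Agent.Helper7.ChevLevi2
import Cfsg.Agent.Helper7.ChevGood3
import Cfsg.Agent.Helper7.ChevT0
import Cfsg.Agent.Helper7.ChevT16
import Cfsg.Agent.Helper7.ChevRank1
import Cfsg.Agent.Helper7.ChevWeyl

set_option autoImplicit false
set_option linter.unusedSectionVars false
set_option linter.unusedVariables false

/-!
# S5751 (swarm "E8C"): the concrete definitions (helper7)

`G = E₈(2)`, `P` the maximal parabolic subgroup of the branch node (index `3`, the node with coefficient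
`6` in the highest root), `g = n₃`, and the subgroups `Q_k` of `U` defined by the level filtration of the
adjoint module (level = coefficient of the branch node).  Everything exists twice: inside
`GL chevE8.Idx (ZMod 2)` (suffix `GL`, where the Chevalley API of `Helper7` lives) and inside the group
`e8c_G` (what `Assemble` consumes), the second being `subgroupOf` the first.
-/

namespace Cfsg.Agent.E8C

open Cfsg Cfsg.Lie Matrix Cfsg.Agent.Helper7 Cfsg.Agent.Helper7.Chev Cfsg.Agent.Helper7.Tri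

/-- the ambient general linear group -/
abbrev e8c_GL : Type := GL chevE8.Idx (ZMod 2)

/-- the group `E₈(2)` -/
abbrev e8c_G : Type := ↥(chevE8.group (ZMod 2))

/-- all nodes but the branch node -/
def e8c_J : Set ℕ := {j | j ≠ 3}

theorem e8c_good2 : Good2 chevE8 := good3_E8.toGood2

theorem e8c_good1 : Good1 chevE8 := e8c_good2.toGood1

theorem e8c_rank : chevE8.rank = 8 := rfl

theorem e8c_nroots : chevE8.nroots = 240 := rfl

theorem e8c_three_lt : 3 < chevE8.rank := by decide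

/-- the level of a basis vector of the adjoint module: coefficient of the branch node (shifted) -/
noncomputable def e8c_lv : chevE8.Idx → ℕ := lvlJ chevE8 wtMatE8 e8c_J

/-- the level of a root: the coefficient of the branch node -/
noncomputable def e8c_lev (r : ℕ) : ℤ := fJ chevE8 wtMatE8 e8c_J r

/-- `U` inside `GL` -/
def e8c_UGL : Subgroup e8c_GL := chevE8.posUnipotent (ZMod 2)

/-- `B` inside `GL` -/
def e8c_BGL : Subgroup e8c_GL := chevE8.borelSubgroup (ZMod 2)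

/-- `P` inside `GL` -/
def e8c_PGL : Subgroup e8c_GL := chevE8.parabolicSubgroup (ZMod 2) e8c_J

/-- `Q_k` inside `GL`: the elements `u` of `U` such that `u - 1` raises the level by at least `k`
(`Q_0 = Q_1`) -/
noncomputable def e8c_QGL (k : ℕ) : Subgroup e8c_GL := e8c_UGL ⊓ UTk (ZMod 2) e8c_lv (k - 1)

/-- `g = n₃` inside `GL` -/
noncomputable def e8c_gGL : e8c_GL := nGL e8c_good1 (e8c_good1.simple_lt e8c_three_lt)

theorem e8c_gGL_coe : ((e8c_gGL : e8c_GL) : Matrix chevE8.Idx chevE8.Idx (ZMod 2)) =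
    chevE8.nMat (ZMod 2) (chevE8.simple 3) 1 := nGL_coe _ _

theorem e8c_gGL_mem : e8c_gGL ∈ chevE8.group (ZMod 2) :=
  monomialSubgroup_le_group e8c_good1 (nGL_mem_monomial e8c_good2 _)

theorem e8c_UGL_le_BGL : e8c_UGL ≤ e8c_BGL := le_sup_left

theorem e8c_BGL_le_PGL : e8c_BGL ≤ e8c_PGL := le_sup_left

theorem e8c_BGL_le_group : e8c_BGL ≤ chevE8.group (ZMod 2) := borelSubgroup_le_group e8c_good1

theorem e8c_UGL_le_group : e8c_UGL ≤ chevE8.group (ZMod 2) := posUnipotent_le_group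

theorem e8c_QGL_le_UGL (k : ℕ) : e8c_QGL k ≤ e8c_UGL := inf_le_left

theorem e8c_QGL_le_PGL (k : ℕ) : e8c_QGL k ≤ e8c_PGL :=
  (e8c_QGL_le_UGL k).trans (e8c_UGL_le_BGL.trans e8c_BGL_le_PGL)

theorem e8c_QGL_le_group (k : ℕ) : e8c_QGL k ≤ chevE8.group (ZMod 2) :=
  (e8c_QGL_le_UGL k).trans e8c_UGL_le_group

theorem e8c_QGL_anti (k : ℕ) : e8c_QGL (k + 1) ≤ e8c_QGL k :=
  inf_le_inf_left _ (UTk_anti (ZMod 2) e8c_lv (by omega))

theorem e8c_mem_QGL {k : ℕ} {u : e8c_GL} :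
    u ∈ e8c_QGL k ↔ u ∈ e8c_UGL ∧ u ∈ UTk (ZMod 2) e8c_lv (k - 1) := Iff.rfl

/-! ### the objects inside the group `e8c_G` -/

/-- `P` inside `G` -/
def e8c_P : Subgroup e8c_G := e8c_PGL.subgroupOf (chevE8.group (ZMod 2))

/-- `B` inside `G` -/
def e8c_B : Subgroup e8c_G := e8c_BGL.subgroupOf (chevE8.group (ZMod 2))

/-- `U` inside `G` -/
def e8c_U : Subgroup e8c_G := e8c_UGL.subgroupOf (chevE8.group (ZMod 2))

/-- `Q_k` inside `G` -/
noncomputable def e8c_Q (k : ℕ) : Subgroup e8c_G := (e8c_QGL k).subgroupOf (chevE8.group (ZMod 2))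

/-- `g = n₃` inside `G` -/
noncomputable def e8c_g : e8c_G := ⟨e8c_gGL, e8c_gGL_mem⟩

theorem e8c_mem_P {x : e8c_G} : x ∈ e8c_P ↔ (x : e8c_GL) ∈ e8c_PGL := Subgroup.mem_subgroupOf

theorem e8c_mem_B {x : e8c_G} : x ∈ e8c_B ↔ (x : e8c_GL) ∈ e8c_BGL := Subgroup.mem_subgroupOf

theorem e8c_mem_U {x : e8c_G} : x ∈ e8c_U ↔ (x : e8c_GL) ∈ e8c_UGL := Subgroup.mem_subgroupOf

theorem e8c_mem_Q {k : ℕ} {x : e8c_G} : x ∈ e8c_Q k ↔ (x : e8c_GL) ∈ e8c_QGL k :=
  Subgroup.mem_subgroupOf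

theorem e8c_g_coe : ((e8c_g : e8c_G) : e8c_GL) = e8c_gGL := rfl

/-- transfer: a subgroup of `G` as a subgroup of `GL` -/
def e8c_up (N : Subgroup e8c_G) : Subgroup e8c_GL := N.map (chevE8.group (ZMod 2)).subtype

theorem e8c_mem_up {N : Subgroup e8c_G} {y : e8c_GL} :
    y ∈ e8c_up N ↔ ∃ h : y ∈ chevE8.group (ZMod 2), (⟨y, h⟩ : e8c_G) ∈ N := by
  unfold e8c_up
  rw [Subgroup.mem_map]
  constructor
  · rintro ⟨x, hx, rfl⟩
    exact ⟨x.2, hx⟩
  · rintro ⟨h, hx⟩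
    exact ⟨⟨y, h⟩, hx, rfl⟩

theorem e8c_coe_mem_up {N : Subgroup e8c_G} {x : e8c_G} : (x : e8c_GL) ∈ e8c_up N ↔ x ∈ N := by
  rw [e8c_mem_up]
  exact ⟨fun ⟨_, h⟩ => h, fun h => ⟨x.2, h⟩⟩

theorem e8c_up_le_group (N : Subgroup e8c_G) : e8c_up N ≤ chevE8.group (ZMod 2) := by
  intro y hy
  obtain ⟨h, _⟩ := e8c_mem_up.mp hy
  exact h

/-- transfer of `≤` against a `subgroupOf` -/
theorem e8c_le_subgroupOf_iff {N : Subgroup e8c_G} {K : Subgroup e8c_GL} :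
    N ≤ K.subgroupOf (chevE8.group (ZMod 2)) ↔ e8c_up N ≤ K := by
  constructor
  · intro h y hy
    obtain ⟨hy1, hy2⟩ := e8c_mem_up.mp hy
    exact Subgroup.mem_subgroupOf.mp (h hy2)
  · intro h x hx
    exact Subgroup.mem_subgroupOf.mpr (h (e8c_coe_mem_up.mpr hx))

theorem e8c_le_Q_iff {N : Subgroup e8c_G} {k : ℕ} : N ≤ e8c_Q k ↔ e8c_up N ≤ e8c_QGL k :=
  e8c_le_subgroupOf_iff

theorem e8c_le_P_iff {N : Subgroup e8c_G} : N ≤ e8c_P ↔ e8c_up N ≤ e8c_PGL :=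
  e8c_le_subgroupOf_iff

theorem e8c_le_B_iff {N : Subgroup e8c_G} : N ≤ e8c_B ↔ e8c_up N ≤ e8c_BGL :=
  e8c_le_subgroupOf_iff

theorem e8c_le_U_iff {N : Subgroup e8c_G} : N ≤ e8c_U ↔ e8c_up N ≤ e8c_UGL :=
  e8c_le_subgroupOf_iff

/-- transfer of "normalised by `P`" -/
theorem e8c_up_normal {N : Subgroup e8c_G}
    (hnorm : ∀ p ∈ e8c_P, ∀ x ∈ N, p * x * p⁻¹ ∈ N) :
    ∀ p ∈ e8c_PGL, p ∈ chevE8.group (ZMod 2) → ∀ y ∈ e8c_up N, p * y * p⁻¹ ∈ e8c_up N := by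
  intro p hp hpG y hy
  obtain ⟨hyG, hyN⟩ := e8c_mem_up.mp hy
  have h1 := hnorm ⟨p, hpG⟩ (e8c_mem_P.mpr hp) ⟨y, hyG⟩ hyN
  have h2 := e8c_coe_mem_up.mpr h1
  rw [Subgroup.coe_mul, Subgroup.coe_mul, Subgroup.coe_inv] at h2
  exact h2

end Cfsg.Agent.E8C
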