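import Mathlib
import Cfsg.Agent.E8C.Defs
import Cfsg.Agent.E8C.BNE8

/-!
# The (B,N)-pair input for S5751 at `GL` level, against the definitions of `E8C/Defs.lean`

* `e8c_bne8_hco`: `e8c_PGL.subgroupOf (chevE8.group (ZMod 2))` is a coatom (the `hco` of `e8c_transfer`);
* `e8c_bne8_baseGL`: BASE (a) for subgroups of `GL`: `N ≤ P`, `P`-normalised, `g⁻¹ N g ≤ P` ⇒ `N ≤ B`.
-/

set_option autoImplicit false

namespace Cfsg.Agent.E8C

open Cfsg Cfsg.Lie Cfsg.Agent.Helper7.Chev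

theorem e8c_bne8_PGL_le_group : e8c_PGL ≤ chevE8.group (ZMod 2) := by
  unfold e8c_PGL ChevalleyDatum.parabolicSubgroup
  apply sup_le (borelSubgroup_le_group e8c_good1)
  rw [Subgroup.closure_le]
  rintro g ⟨j, _, hj, hg⟩
  apply monomialSubgroup_le_group e8c_good1
  exact Subgroup.mem_sup_right
    (Subgroup.subset_closure ⟨chevE8.simple j, e8c_good1.simple_lt hj, hg⟩)

/-- `hco` of `e8c_transfer`. -/
theorem e8c_bne8_hco : IsCoatom (e8c_PGL.subgroupOf (chevE8.group (ZMod 2))) :=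
  e8c_bne8_coatom (ZMod 2)

/-- The same for the `G`-level object of `Defs`. -/
theorem e8c_bne8_hco' : IsCoatom e8c_P := e8c_bne8_coatom (ZMod 2)

/-- **BASE (a)** at `GL` level. -/
theorem e8c_bne8_baseGL (N : Subgroup e8c_GL) (hNP : N ≤ e8c_PGL)
    (hnorm : ∀ p ∈ e8c_PGL, ∀ x ∈ N, p * x * p⁻¹ ∈ N)
    (hgN : ∀ x ∈ N, e8c_gGL⁻¹ * x * e8c_gGL ∈ e8c_PGL) : N ≤ e8c_BGL := by
  have hNG : N ≤ chevE8.group (ZMod 2) := hNP.trans e8c_bne8_PGL_le_group
  have key := e8c_bne8_base (ZMod 2) e8c_g e8c_gGL_coe (N.subgroupOf (chevE8.group (ZMod 2)))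
    (by
      intro x hx
      rw [Subgroup.mem_subgroupOf] at hx ⊢
      exact hNP hx)
    (by
      intro p hp x hx
      rw [Subgroup.mem_subgroupOf] at hp hx ⊢
      rw [Subgroup.coe_mul, Subgroup.coe_mul, Subgroup.coe_inv]
      exact hnorm p hp x hx)
    (by
      intro x hx
      rw [Subgroup.mem_subgroupOf] at hx ⊢
      rw [Subgroup.coe_mul, Subgroup.coe_mul, Subgroup.coe_inv]
      exact hgN x hx)
  intro x hx
  have h1 : (⟨x, hNG hx⟩ : e8c_G) ∈ N.subgroupOf (chevE8.group (ZMod 2)) := by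
    rw [Subgroup.mem_subgroupOf]
    exact hx
  have h2 := key h1
  rw [Subgroup.mem_subgroupOf] at h2
  exact h2

/-- **BASE (a)** at `G` level, for the objects of `Defs`. -/
theorem e8c_bne8_baseG (N : Subgroup e8c_G) (hNP : N ≤ e8c_P)
    (hnorm : ∀ p ∈ e8c_P, ∀ x ∈ N, p * x * p⁻¹ ∈ N)
    (hgN : ∀ x ∈ N, e8c_g⁻¹ * x * e8c_g ∈ e8c_P) : N ≤ e8c_B :=
  e8c_bne8_base (ZMod 2) e8c_g e8c_gGL_coe N hNP hnorm hgN

end Cfsg.Agent.E8C
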