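import Mathlib
import Cfsg.Agent.E8C.Defs
import Cfsg.Agent.Helper7.ChevRank1

set_option autoImplicit false

/-!
# S5751 (swarm E8C): over the field with two elements the diagonal subgroup is trivial (helper8)

`H(𝔽₂) = 1`, hence `B = U`.
-/

namespace Cfsg.Agent.E8C

open Cfsg Cfsg.Lie Matrix Cfsg.Agent.Helper7 Cfsg.Agent.Helper7.Chev

/-- `h_r(1) = 1` -/
theorem e8c_bu_hMat_one {D : ChevalleyDatum} {F : Type*} [Field F] (hG : Good1 D) {r : ℕ}
    (hr : r < D.nroots) : D.hMat F r 1 = 1 := by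
  rw [hMat_eq_diagonal hG hr one_ne_zero]
  rw [← Matrix.diagonal_one]
  congr 1
  funext v
  rcases v with i | s
  · rfl
  · simp

/-- over `𝔽₂` the diagonal subgroup is trivial -/
theorem e8c_bu_diag {D : ChevalleyDatum} (hG : Good1 D) : D.diagonalSubgroup (ZMod 2) = ⊥ := by
  rw [eq_bot_iff]
  unfold ChevalleyDatum.diagonalSubgroup
  rw [Subgroup.closure_le]
  rintro g ⟨r, t, hr, ht, hg⟩
  have hall : ∀ a : ZMod 2, a ≠ 0 → a = 1 := by decide
  have ht1 : t = 1 := hall t ht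
  rw [ht1, e8c_bu_hMat_one hG hr] at hg
  show g ∈ (⊥ : Subgroup (GL D.Idx (ZMod 2)))
  rw [Subgroup.mem_bot]
  exact Units.ext hg

/-- over `𝔽₂`: `B = U` -/
theorem e8c_bu_eq : e8c_BGL = e8c_UGL := by
  unfold e8c_BGL e8c_UGL ChevalleyDatum.borelSubgroup
  rw [e8c_bu_diag e8c_good1, sup_bot_eq]

/-- (8) `hBU` -/
theorem e8c_bu : e8c_BGL ≤ e8c_UGL := le_of_eq e8c_bu_eq

end Cfsg.Agent.E8C
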