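import Mathlib
import Cfsg.Agent.Helper7.ChevTri

set_option autoImplicit false
set_option linter.unusedSectionVars false

/-!
# S5751 (swarm "E8C"), piece [A] (helper5): the level filtration of `GL ι R`

Generic in an index type `ι` with a level function `lvl : ι → ℕ`, on top of helper7's `Helper7/ChevTri`
(`Tri.Raises lvl k A`: a non-zero entry of `A` in row `i`, column `j` forces `lvl j + k ≤ lvl i`;
`Tri.UTk R lvl k` = the group of the `g` with `g - 1` raising the level by at least `k + 1`).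

* `e8c_Fil0 R lvl`: the group `Fil₀` of the `g` such that `g` and `g⁻¹` raise the level by at least `0`;
  `Fil_k = UTk R lvl (k - 1)` for `k ≥ 1`.
* the graded pieces are additive: at a position `(i, j)` with `lvl i = lvl j + (k + 1)` the entry of
  `g h - 1` is the sum of the entries of `g - 1` and `h - 1` for `g, h ∈ UTk k` (`e8c_gr_mul`,
  list version `e8c_gr_list_prod`), and it vanishes on `UTk (k + 1)` (`e8c_gr_eq_zero`).
-/

namespace Cfsg.Agent.E8C

open Matrix Cfsg.Agent.Helper7.Tri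

variable {ι : Type*} [Fintype ι] [DecidableEq ι] {R : Type*} [CommRing R] {lvl : ι → ℕ}

/-- `Fil₀`: the invertible matrices `g` such that `g` and `g⁻¹` do not lower the level. -/
def e8c_Fil0 (R : Type*) [CommRing R] (lvl : ι → ℕ) : Subgroup (GL ι R) where
  carrier := {g | Raises lvl 0 (g : Matrix ι ι R) ∧ Raises lvl 0 ((g⁻¹ : GL ι R) : Matrix ι ι R)}
  one_mem' := by
    refine ⟨?_, ?_⟩
    · rw [Units.val_one]; exact Raises.one
    · rw [inv_one, Units.val_one]; exact Raises.one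
  mul_mem' := by
    intro g h hg hh
    refine ⟨?_, ?_⟩
    · rw [Units.val_mul]
      exact Raises.mul hg.1 hh.1
    · rw [_root_.mul_inv_rev, Units.val_mul]
      exact Raises.mul hh.2 hg.2
  inv_mem' := by
    intro g hg
    refine ⟨hg.2, ?_⟩
    rw [inv_inv]
    exact hg.1

theorem e8c_mem_Fil0 {g : GL ι R} : g ∈ e8c_Fil0 R lvl ↔
    Raises lvl 0 (g : Matrix ι ι R) ∧ Raises lvl 0 ((g⁻¹ : GL ι R) : Matrix ι ι R) := Iff.rfl

/-- the unitriangular groups lie in `Fil₀` -/
theorem e8c_UTk_le_Fil0 (k : ℕ) : UTk R lvl k ≤ e8c_Fil0 R lvl := by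
  intro g hg
  exact ⟨raises_zero_of_mem R lvl hg, raises_zero_of_mem R lvl ((UTk R lvl k).inv_mem hg)⟩

/-- an element of `Fil₀` has no entry lowering the level -/
theorem e8c_entry_eq_zero_of_mem_Fil0 {g : GL ι R} (hg : g ∈ e8c_Fil0 R lvl) {i j : ι}
    (hij : lvl i < lvl j) : (g : Matrix ι ι R) i j = 0 := by
  by_contra h
  have := hg.1 i j h
  omega

/-- on `UTk (k + 1)` the graded piece of degree `k + 1` vanishes -/
theorem e8c_gr_eq_zero {k : ℕ} {g : GL ι R} (hg : g ∈ UTk R lvl (k + 1)) {i j : ι}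
    (hij : lvl i = lvl j + (k + 1)) : ((g : Matrix ι ι R) - 1) i j = 0 := by
  by_contra h
  have := hg i j h
  omega

/-- a matrix raising the level by more than `lvl i - lvl j` vanishes at `(i, j)` -/
theorem e8c_raises_entry_eq_zero {m : ℕ} {A : Matrix ι ι R} (hA : Raises lvl m A) {i j : ι}
    (hij : lvl i < lvl j + m) : A i j = 0 := by
  by_contra h
  have := hA i j h
  omega

/-- **additivity of the graded piece of degree `k + 1`** on `UTk k` -/
theorem e8c_gr_mul {k : ℕ} {g h : GL ι R} (hg : g ∈ UTk R lvl k) (hh : h ∈ UTk R lvl k) {i j : ι}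
    (hij : lvl i = lvl j + (k + 1)) :
    (((g * h : GL ι R) : Matrix ι ι R) - 1) i j =
      ((g : Matrix ι ι R) - 1) i j + ((h : Matrix ι ι R) - 1) i j := by
  have e : ((g * h : GL ι R) : Matrix ι ι R) - 1 =
      ((g : Matrix ι ι R) - 1) * ((h : Matrix ι ι R) - 1) + ((g : Matrix ι ι R) - 1) +
        ((h : Matrix ι ι R) - 1) := by
    rw [Units.val_mul]; noncomm_ring
  rw [e, Matrix.add_apply, Matrix.add_apply]
  have h0 : (((g : Matrix ι ι R) - 1) * ((h : Matrix ι ι R) - 1)) i j = 0 :=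
    e8c_raises_entry_eq_zero (Raises.mul hg hh) (by omega)
  rw [h0, zero_add]

/-- a more flexible form: `g ∈ UTk a`, `h ∈ UTk b`, at a position of degree `< a + b + 2` -/
theorem e8c_gr_mul' {a b : ℕ} {g h : GL ι R} (hg : g ∈ UTk R lvl a) (hh : h ∈ UTk R lvl b)
    {i j : ι} (hij : lvl i < lvl j + (a + 1 + (b + 1))) :
    (((g * h : GL ι R) : Matrix ι ι R) - 1) i j =
      ((g : Matrix ι ι R) - 1) i j + ((h : Matrix ι ι R) - 1) i j := by
  have e : ((g * h : GL ι R) : Matrix ι ι R) - 1 =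
      ((g : Matrix ι ι R) - 1) * ((h : Matrix ι ι R) - 1) + ((g : Matrix ι ι R) - 1) +
        ((h : Matrix ι ι R) - 1) := by
    rw [Units.val_mul]; noncomm_ring
  rw [e, Matrix.add_apply, Matrix.add_apply]
  have h0 : (((g : Matrix ι ι R) - 1) * ((h : Matrix ι ι R) - 1)) i j = 0 :=
    e8c_raises_entry_eq_zero (Raises.mul hg hh) hij
  rw [h0, zero_add]

/-- the graded piece of degree `k + 1` of the inverse -/
theorem e8c_gr_inv {k : ℕ} {g : GL ι R} (hg : g ∈ UTk R lvl k) {i j : ι}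
    (hij : lvl i = lvl j + (k + 1)) :
    (((g⁻¹ : GL ι R) : Matrix ι ι R) - 1) i j = -(((g : Matrix ι ι R) - 1) i j) := by
  have h1 := e8c_gr_mul hg ((UTk R lvl k).inv_mem hg) hij
  rw [mul_inv_cancel, Units.val_one, sub_self, Matrix.zero_apply] at h1
  exact eq_neg_of_add_eq_zero_right h1.symm

/-- **additivity of the graded piece on a product of a list** -/
theorem e8c_gr_list_prod {k : ℕ} (L : List (GL ι R)) (hL : ∀ g ∈ L, g ∈ UTk R lvl k) {i j : ι}
    (hij : lvl i = lvl j + (k + 1)) :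
    (((L.prod : GL ι R) : Matrix ι ι R) - 1) i j =
      (L.map fun g : GL ι R => ((g : Matrix ι ι R) - 1) i j).sum := by
  induction L with
  | nil => simp
  | cons g L ih =>
    have hg : g ∈ UTk R lvl k := hL g List.mem_cons_self
    have hL' : ∀ g ∈ L, g ∈ UTk R lvl k := fun x hx => hL x (List.mem_cons_of_mem _ hx)
    rw [List.prod_cons, List.map_cons, List.sum_cons,
      e8c_gr_mul hg ((UTk R lvl k).list_prod_mem hL') hij, ih hL']

/-- the form used in the step lemma: if `z = (∏ L) * y` with the factors of `L` in `UTk k`,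
`y ∈ UTk (k + 1)` and `z ∈ UTk (k + 1)`, then the graded pieces of degree `k + 1` of the factors add up
to zero. -/
theorem e8c_gr_sum_eq_zero {k : ℕ} (L : List (GL ι R)) (hL : ∀ g ∈ L, g ∈ UTk R lvl k)
    {y : GL ι R} (hy : y ∈ UTk R lvl (k + 1)) (hz : L.prod * y ∈ UTk R lvl (k + 1)) {i j : ι}
    (hij : lvl i = lvl j + (k + 1)) :
    (L.map fun g : GL ι R => ((g : Matrix ι ι R) - 1) i j).sum = 0 := by
  have hy' : y ∈ UTk R lvl k := UTk_anti R lvl (Nat.le_succ k) hy
  have h1 := e8c_gr_mul ((UTk R lvl k).list_prod_mem hL) hy' hij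
  rw [e8c_gr_eq_zero hz hij, e8c_gr_eq_zero hy hij, add_zero, e8c_gr_list_prod L hL hij] at h1
  exact h1.symm

/-- conjugation by an element of `Fil₀` preserves `UTk k` -/
theorem e8c_conj_mem_UTk {k : ℕ} {p g : GL ι R} (hp : p ∈ e8c_Fil0 R lvl) (hg : g ∈ UTk R lvl k) :
    p * g * p⁻¹ ∈ UTk R lvl k := by
  rw [mem_UTk]
  have e : ((p * g * p⁻¹ : GL ι R) : Matrix ι ι R) - 1 =
      (p : Matrix ι ι R) * ((g : Matrix ι ι R) - 1) * ((p⁻¹ : GL ι R) : Matrix ι ι R) := by
    have h1 : (p : Matrix ι ι R) * ((p⁻¹ : GL ι R) : Matrix ι ι R) = 1 := by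
      rw [← Units.val_mul, mul_inv_cancel, Units.val_one]
    rw [Units.val_mul, Units.val_mul, Matrix.mul_sub, Matrix.sub_mul, Matrix.mul_one, h1]
  rw [e]
  have := Raises.mul (Raises.mul hp.1 hg) hp.2
  simpa using this

end Cfsg.Agent.E8C
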