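import Mathlib
import Cfsg.Agent.E8C.Fil
import Cfsg.Agent.Helper7.ChevLevi2

set_option autoImplicit false
set_option linter.unusedSectionVars false
set_option linter.unusedVariables false

/-!
# S5751 (swarm "E8C"), piece (F0) (helper5): the level filtration and the Chevalley groups

Generic in a datum `D` with `hG : Good2 D`, `hT : T0 D`, `h16 : (tabOf D).T16 W`; the level function is
helper7's `lvlJ D W J` (`Helper7/ChevLevi2`), a shift of `fI D W J` (`0` on the `h_i`, `fJ D W J r` on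
`e_r`).
-/

namespace Cfsg.Agent.E8C

open Cfsg Cfsg.Lie Matrix Cfsg.Agent.Helper7 Cfsg.Agent.Helper7.Chev Cfsg.Agent.Helper7.Tri

variable {D : ChevalleyDatum} {F : Type*} [Field F]

section generic

variable {ι : Type*} [Fintype ι] [DecidableEq ι]

theorem e8c_fc_raises_of_levelPres {lvl : ι → ℕ} {A : Matrix ι ι F} (hA : LevelPres lvl A) :
    Raises lvl 0 A := by
  intro i j h
  have := hA i j h
  omega

end generic

section grading

variable (hG : Good2 D) (hT : T0 D) {W : List (List ℤ)} (h16 : (tabOf D).T16 W)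

/-- the level of a coroot vector `h_i` and of a root vector `e_s`: the difference is `fJ s` -/
theorem e8c_fc_lvl_inr_sub_inl (J : Set ℕ) (i : Fin D.rank) (s : Fin D.nroots) :
    ((lvlJ D W J (Sum.inr s) : ℕ) : ℤ) = ((lvlJ D W J (Sum.inl i) : ℕ) : ℤ) + fJ D W J s.val := by
  rw [lvlJ_cast, lvlJ_cast]
  simp only [fI]
  ring

/-- the levels of two root vectors -/
theorem e8c_fc_lvl_inr_sub_inr (J : Set ℕ) (s u : Fin D.nroots) :
    ((lvlJ D W J (Sum.inr s) : ℕ) : ℤ) + fJ D W J u.val =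
      ((lvlJ D W J (Sum.inr u) : ℕ) : ℤ) + fJ D W J s.val := by
  rw [lvlJ_cast, lvlJ_cast]
  simp only [fI]
  ring

include hG in
/-- `x_r(t) - 1` raises the level by at least `k` as soon as `k ≤ fJ r`. -/
theorem e8c_fc_raises_x (J : Set ℕ) {r : ℕ} (hr : r < D.nroots) {k : ℕ}
    (hk : (k : ℤ) ≤ fJ D W J r) (t : F) :
    Raises (lvlJ D W J) k (D.x F r t - 1) := by
  intro row col h
  rw [x_of_lt D F hr] at h
  obtain ⟨m, hm1, hm⟩ := xMat_sub_one_height (W := W) hG J ⟨r, hr⟩ t row col h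
  have e1 := lvlJ_cast (W := W) J row
  have e2 := lvlJ_cast (W := W) J col
  have hk' : (k : ℤ) ≤ fJ D W J (⟨r, hr⟩ : Fin D.nroots).val := hk
  have hmul : (k : ℤ) ≤ (m : ℤ) * fJ D W J (⟨r, hr⟩ : Fin D.nroots).val := by
    have hm' : (1 : ℤ) ≤ (m : ℤ) := by exact_mod_cast hm1
    have hk0 : (0 : ℤ) ≤ (k : ℤ) := Int.natCast_nonneg k
    nlinarith
  have : ((lvlJ D W J col : ℕ) : ℤ) + k ≤ ((lvlJ D W J row : ℕ) : ℤ) := by
    rw [e1, e2, hm]; linarith
  exact_mod_cast this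

include hG in
/-- `x_r(t) ∈ Fil_{k+1}` as soon as `k + 1 ≤ fJ r`. -/
theorem e8c_fc_x_mem_UTk (J : Set ℕ) {r : ℕ} (hr : r < D.nroots) {k : ℕ}
    (hk : ((k + 1 : ℕ) : ℤ) ≤ fJ D W J r) (t : F) :
    xGL hG.toGood1 hr t ∈ UTk F (lvlJ D W J) k := by
  rw [mem_UTk, xGL_coe]
  exact e8c_fc_raises_x hG J hr hk t

include hG in
/-- the same for an element of `GL` given by its matrix -/
theorem e8c_fc_mem_UTk_of_coe (J : Set ℕ) {r : ℕ} (hr : r < D.nroots) {k : ℕ}
    (hk : ((k + 1 : ℕ) : ℤ) ≤ fJ D W J r) {t : F} {g : GL D.Idx F}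
    (hg : (g : Matrix D.Idx D.Idx F) = D.x F r t) :
    g ∈ UTk F (lvlJ D W J) k := by
  rw [mem_UTk, hg]
  exact e8c_fc_raises_x hG J hr hk t

include hG in
/-- `x_r(t) ∈ Fil_0` as soon as `0 ≤ fJ r`. -/
theorem e8c_fc_x_mem_Fil0 (J : Set ℕ) {r : ℕ} (hr : r < D.nroots)
    (hk : 0 ≤ fJ D W J r) (t : F) :
    xGL hG.toGood1 hr t ∈ e8c_Fil0 F (lvlJ D W J) := by
  have h : ∀ t : F, Raises (lvlJ D W J) 0 (D.x F r t) := by
    intro t
    have h1 := e8c_fc_raises_x (W := W) hG J hr (k := 0) (by simpa using hk) t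
    have e : D.x F r t = (D.x F r t - 1) + 1 := by abel
    rw [e]
    exact h1.add Raises.one
  refine ⟨?_, ?_⟩
  · rw [xGL_coe]; exact h t
  · rw [xGL_inv, xGL_coe]; exact h (-t)

include hG hT h16 in
/-- **`P_J ≤ Fil_0`.** -/
theorem e8c_fc_parabolic_le_Fil0 (h9 : (tabOf D).T9) (J : Set ℕ) :
    D.parabolicSubgroup F J ≤ e8c_Fil0 F (lvlJ D W J) := by
  have hG1 := hG.toGood1
  rw [parabolic_eq hG hT h9]
  apply sup_le
  · intro h hh
    obtain ⟨d, hd⟩ := diagonalSubgroup_diag hG1 hh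
    obtain ⟨d', hd'⟩ := diagonalSubgroup_diag hG1 (inv_mem hh)
    refine ⟨?_, ?_⟩
    · rw [hd]; exact e8c_fc_raises_of_levelPres (LevelPres.diagonal _ d)
    · rw [hd']; exact e8c_fc_raises_of_levelPres (LevelPres.diagonal _ d')
  · rw [Subgroup.closure_le]
    rintro g ⟨r, t, hrr, hg⟩
    have hr : r < D.nroots := hrr.elim (fun h => h.1) (fun h => h.1)
    have h0 : 0 ≤ fJ D W J r := by
      rcases hrr with hpos | hJ
      · exact fJ_nonneg h16 J hr ((isPosRoot_iff hT hr).mp hpos)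
      · rw [fJ_eq_zero_of_inRootSub hG hT h16 hJ]
    rw [eq_xGL hG1 hr hg]
    exact e8c_fc_x_mem_Fil0 hG J hr h0 t

include hG in
/-- the group generated by the root elements of the roots with `k + 1 ≤ fJ r` lies in `Fil_{k+1}` -/
theorem e8c_fc_closure_le_UTk (J : Set ℕ) (k : ℕ) :
    Subgroup.closure (rootGen D F (fun r => r < D.nroots ∧ ((k + 1 : ℕ) : ℤ) ≤ fJ D W J r)) ≤
      UTk F (lvlJ D W J) k := by
  rw [Subgroup.closure_le]
  rintro g ⟨r, t, ⟨hr, hk⟩, hg⟩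
  exact e8c_fc_mem_UTk_of_coe hG J hr hk hg

/-! ### The entries in the rows `h_i` -/

/-- the entries of `x_r(t) - 1` in the row `h_i`: the only non-zero ones are in the column `e_{-r}` -/
theorem e8c_fc_x_sub_one_inl_inr {r : ℕ} (hr : r < D.nroots) (t : F) (i : Fin D.rank)
    (s : Fin D.nroots) (hsr : s.val ≠ r) :
    (D.x F r t - 1) (Sum.inl i) (Sum.inr s) =
      if s.val = D.neg r then ((cr D r i.val : ℤ) : F) * t else 0 := by
  rw [x_of_lt D F hr]
  have hsr' : s ≠ ⟨r, hr⟩ := fun h => hsr (by rw [h])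
  simp only [Matrix.sub_apply, ChevalleyDatum.xMat, Matrix.of_apply, Matrix.one_apply,
    reduceCtorEq, if_false, sub_zero, if_neg hsr']
  by_cases h2 : s.val = D.neg r
  · rw [if_pos h2]
    have h2' : s.val = D.negIdx.getD r 0 := h2
    rw [if_pos h2']
    rfl
  · rw [if_neg h2]
    have h2' : ¬ s.val = D.negIdx.getD r 0 := h2
    rw [if_neg h2']

include hG in
/-- a root element of a root of negative level with a coroot coefficient that does not vanish in `F` is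
not in `Fil_0` -/
theorem e8c_fc_x_not_mem_Fil0 (J : Set ℕ) {r : ℕ} (hr : r < D.nroots)
    (hneg : fJ D W J r < 0) {t : F} {i : Fin D.rank} (hi : ((cr D r i.val : ℤ) : F) * t ≠ 0) :
    xGL hG.toGood1 hr t ∉ e8c_Fil0 F (lvlJ D W J) := by
  have hG1 := hG.toGood1
  intro hmem
  have hnl : D.neg r < D.nroots := hG1.neg_lt hr
  have hlt : lvlJ D W J (Sum.inl i) < lvlJ D W J (Sum.inr ⟨D.neg r, hnl⟩) := by
    have e := e8c_fc_lvl_inr_sub_inl (W := W) J i ⟨D.neg r, hnl⟩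
    have e' : fJ D W J (D.neg r) = - fJ D W J r := fJ_neg hG J hr
    have : ((lvlJ D W J (Sum.inl i) : ℕ) : ℤ) < ((lvlJ D W J (Sum.inr ⟨D.neg r, hnl⟩) : ℕ) : ℤ) := by
      rw [e]
      change _ < _ + fJ D W J (D.neg r)
      rw [e']
      linarith
    exact_mod_cast this
  have h0 := e8c_entry_eq_zero_of_mem_Fil0 hmem hlt
  rw [xGL_coe] at h0
  have h1 := e8c_fc_x_sub_one_inl_inr (D := D) hr t i ⟨D.neg r, hnl⟩ (hG1.neg_ne hr)
  rw [if_pos rfl, Matrix.sub_apply, Matrix.one_apply, if_neg (by simp), sub_zero, h0] at h1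
  exact hi h1.symm

end grading

end Cfsg.Agent.E8C
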