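import Mathlib
import Cfsg.Agent.Helper7.ChevTwF2
import Cfsg.Agent.E8C.Fil
import Cfsg.Agent.E8C.FilChev
import Cfsg.Agent.E8C.Defs
import Cfsg.Agent.Helper7.ChevGood3
import Cfsg.Agent.Helper7.ChevT16
import Cfsg.Agent.Helper7.ChevT14
import Cfsg.Agent.Helper7.ChevT9
import Cfsg.Agent.Helper7.ChevT7
import Cfsg.Agent.Helper7.ChevT6
import Cfsg.Agent.Helper7.ChevT0
import Cfsg.Agent.Helper7.ChevWeyl

set_option autoImplicit false
set_option linter.unusedSectionVars false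
set_option linter.unusedVariables false

/-!
E8C / S5751, piece C part 1 (helper2): generic facts on the subgroups `U ⊓ UTk lvl k` of a Chevalley
group, where `lvl = lvlJ D W J` is the height outside `J`:
`U ⊓ UTk 0 = U_J`, `P_J` normalises `U ⊓ UTk k`, root elements of height `≥ k + 1` lie in `UTk k`.
-/

namespace Cfsg.Agent.E8C

open Cfsg Cfsg.Lie Matrix Cfsg.Agent.Helper7 Cfsg.Agent.Helper7.Chev Cfsg.Agent.Helper7.Tri

variable {D : ChevalleyDatum} {F : Type*} [Field F]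

section generic

variable (hG : Good2 D) (hT : T0 D) (h3 : (tabOf D).T3) (h4 : (tabOf D).T4 60)
  (h6 : (tabOf D).T6) (h9 : (tabOf D).T9) (h14 : (tabOf D).T14)
  {W : List (List ℤ)} (h16 : (tabOf D).T16 W)

include hG hT h16 in
/-- `U_J` is unitriangular for the levels. -/
theorem e8c_qf_rad_le_UTk0 (J : Set ℕ) :
    D.unipotentRadical F J ≤ UTk F (lvlJ D W J) 0 := by
  unfold ChevalleyDatum.unipotentRadical
  rw [Subgroup.closure_le]
  rintro g ⟨r, t, hrpos, hrJ, hg⟩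
  have hr := hrpos.1
  have hp := (isPosRoot_iff hT hr).mp hrpos
  change Raises (lvlJ D W J) 1 ((g : Matrix D.Idx D.Idx F) - 1)
  rw [hg]
  apply raises_x hG J hr _ t
  have h0 := fJ_nonneg h16 J hr hp
  have h1 : fJ D W J r ≠ 0 := fun h => hrJ ((fJ_eq_zero_iff h16 J hr hp).mp h)
  omega

include hG hT h16 in
/-- The Levi subgroup preserves the levels. -/
theorem e8c_qf_levi_le_level (J : Set ℕ) :
    D.leviSubgroup F J ≤ levelGroup F (lvlJ D W J) := by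
  have hG1 := hG.toGood1
  unfold ChevalleyDatum.leviSubgroup
  apply sup_le
  · intro h hh
    obtain ⟨d, hd⟩ := diagonalSubgroup_diag hG1 hh
    obtain ⟨d', hd'⟩ := diagonalSubgroup_diag hG1 (inv_mem hh)
    refine ⟨?_, ?_⟩
    · rw [hd]; exact LevelPres.diagonal _ d
    · rw [hd']; exact LevelPres.diagonal _ d'
  · rw [Subgroup.closure_le]
    rintro g ⟨r, t, hrJ, hg⟩
    have hr := hrJ.1
    have h0 := fJ_eq_zero_of_inRootSub hG hT h16 hrJ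
    have hg' : g = xGL hG1 hr t := eq_xGL hG1 hr hg
    refine ⟨?_, ?_⟩
    · rw [hg]; exact levelPres_x hG J hr h0 t
    · rw [hg', xGL_inv, xGL_coe]; exact levelPres_x hG J hr h0 (-t)

include hG hT h3 h4 h14 h16 in
/-- `U ⊓ UTk 0 = U_J`. -/
theorem e8c_qf_pos_inf_UTk0 (J : Set ℕ) :
    D.posUnipotent F ⊓ UTk F (lvlJ D W J) 0 = D.unipotentRadical F J := by
  apply le_antisymm
  · rintro g ⟨hgU, hgT⟩
    obtain ⟨u, hu, x, hx, rfl⟩ := pos_eq_rad_mul_XJ hG hT h3 h4 h14 J g hgU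
    rw [upGenS_InJPos, ← unipotentRadical_eq] at hu
    have huT := e8c_qf_rad_le_UTk0 hG hT h16 J hu
    have hxT : x ∈ UTk F (lvlJ D W J) 0 := by
      have : x = u⁻¹ * (u * x) := by group
      rw [this]
      exact mul_mem (inv_mem huT) hgT
    have hxL := e8c_qf_levi_le_level hG hT h16 J (XJ_le_levi J hx)
    have hx1 := eq_one_of_mem_levelGroup_of_mem_UTk hxL hxT
    rw [hx1, mul_one]
    exact hu
  · refine le_inf ?_ (e8c_qf_rad_le_UTk0 hG hT h16 J)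
    unfold ChevalleyDatum.unipotentRadical ChevalleyDatum.posUnipotent
    apply Subgroup.closure_mono
    rintro g ⟨r, t, hr, _, hg⟩
    exact ⟨r, t, hr, hg⟩

include hG hT h3 h4 h14 h16 in
/-- `U ⊓ UTk k = U_J ⊓ UTk k`. -/
theorem e8c_qf_pos_inf_UTk (J : Set ℕ) (k : ℕ) :
    D.posUnipotent F ⊓ UTk F (lvlJ D W J) k = D.unipotentRadical F J ⊓ UTk F (lvlJ D W J) k := by
  rw [← e8c_qf_pos_inf_UTk0 hG hT h3 h4 h14 h16 J, inf_assoc,
    inf_eq_right.mpr (UTk_anti F (lvlJ D W J) (Nat.zero_le k))]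

include hG hT h3 h4 h6 h9 h14 h16 in
/-- `P_J` normalises `U ⊓ UTk k`. -/
theorem e8c_qf_parab_conj_mem (J : Set ℕ) (k : ℕ) :
    ∀ p ∈ D.parabolicSubgroup F J, ∀ x ∈ D.posUnipotent F ⊓ UTk F (lvlJ D W J) k,
      p * x * p⁻¹ ∈ D.posUnipotent F ⊓ UTk F (lvlJ D W J) k := by
  intro p hp x hx
  rw [e8c_qf_pos_inf_UTk hG hT h3 h4 h14 h16 J k] at hx ⊢
  refine ⟨?_, ?_⟩
  · have hn := parabolic_le_normalizer_rad (F := F) hG hT h3 h4 h6 h14 J hp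
    exact (Subgroup.mem_set_normalizer_iff.mp hn x).mp hx.1
  · exact e8c_conj_mem_UTk (e8c_fc_parabolic_le_Fil0 hG hT h16 h9 J hp) hx.2

include hG hT h3 h4 h14 h16 in
/-- `U ⊓ UTk k ≤ P_J`. -/
theorem e8c_qf_le_parab (J : Set ℕ) (k : ℕ) :
    D.posUnipotent F ⊓ UTk F (lvlJ D W J) k ≤ D.parabolicSubgroup F J := by
  refine inf_le_left.trans ?_
  unfold ChevalleyDatum.parabolicSubgroup ChevalleyDatum.borelSubgroup
  exact le_sup_left.trans le_sup_left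

end generic

section e8

/-- The level of a root of `E8` outside `J = {j | j ≠ 3}` is its `wt` at the node `3`. -/
theorem e8c_qf_fJ_E8 (s : ℕ) :
    fJ chevE8 wtMatE8 {j | j ≠ 3} s = fastE8.wt wtMatE8 3 s := by
  unfold fJ
  have h8 : chevE8.rank = 8 := rfl
  rw [h8, tab_E8]
  simp [Finset.sum_range_succ]

set_option maxRecDepth 100000 in
/-- The highest root `239` of `E8` has level `6`. -/
theorem e8c_qf_fJ_theta : fJ chevE8 wtMatE8 {j | j ≠ 3} 239 = 6 := by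
  rw [e8c_qf_fJ_E8]
  decide +kernel

set_option maxRecDepth 100000 in
theorem e8c_qf_theta_pos : chevE8.IsPosRoot 239 := by decide +kernel

/-- `Q 1 = U_J` for `E8`, any field. -/
theorem e8c_qf_Q1_E8 :
    chevE8.posUnipotent F ⊓ UTk F (lvlJ chevE8 wtMatE8 {j | j ≠ 3}) 0 =
      chevE8.unipotentRadical F {j | j ≠ 3} :=
  e8c_qf_pos_inf_UTk0 good2_E8 T0_E8 T3_E8 T4_E8 T14_E8 T16_E8 _

/-- `P` normalises `Q (k+1)` for `E8`, any field. -/
theorem e8c_qf_norm_E8 (k : ℕ) :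
    ∀ p ∈ chevE8.parabolicSubgroup F {j | j ≠ 3},
      ∀ x ∈ chevE8.posUnipotent F ⊓ UTk F (lvlJ chevE8 wtMatE8 {j | j ≠ 3}) k,
        p * x * p⁻¹ ∈ chevE8.posUnipotent F ⊓ UTk F (lvlJ chevE8 wtMatE8 {j | j ≠ 3}) k :=
  e8c_qf_parab_conj_mem good2_E8 T0_E8 T3_E8 T4_E8 T6_E8 T9_E8 T14_E8 T16_E8 _ k

/-- `Q (k+1) ≤ P` for `E8`. -/
theorem e8c_qf_le_P_E8 (k : ℕ) :
    chevE8.posUnipotent F ⊓ UTk F (lvlJ chevE8 wtMatE8 {j | j ≠ 3}) k ≤
      chevE8.parabolicSubgroup F {j | j ≠ 3} :=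
  e8c_qf_le_parab good2_E8 T0_E8 T3_E8 T4_E8 T14_E8 T16_E8 _ k

/-- `x_θ(1) ∈ Q 6`, and it is not the identity. -/
theorem e8c_qf_theta_mem :
    xGL good2_E8.toGood1 e8c_qf_theta_pos.1 (1 : F) ∈
      chevE8.posUnipotent F ⊓ UTk F (lvlJ chevE8 wtMatE8 {j | j ≠ 3}) 5 := by
  refine ⟨?_, ?_⟩
  · apply Subgroup.subset_closure
    exact ⟨239, 1, e8c_qf_theta_pos, xGL_coe _ _ _⟩
  · apply e8c_fc_x_mem_UTk good2_E8 _ e8c_qf_theta_pos.1
    rw [e8c_qf_fJ_theta]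
    norm_num

theorem e8c_qf_Q6_ne_E8 :
    chevE8.posUnipotent F ⊓ UTk F (lvlJ chevE8 wtMatE8 {j | j ≠ 3}) 5 ≠ ⊥ := by
  intro h
  have hm := e8c_qf_theta_mem (F := F)
  rw [h, Subgroup.mem_bot] at hm
  exact xGL_ne_one good2_E8 T0_E8 T8_E8 e8c_qf_theta_pos.1 (one_ne_zero) hm

/-! ### The facts in the shape of `E8C/Defs.lean` (field `ZMod 2`) -/

theorem e8c_qf_QGL_succ (k : ℕ) :
    e8c_QGL (k + 1) =
      chevE8.posUnipotent (ZMod 2) ⊓ UTk (ZMod 2) (lvlJ chevE8 wtMatE8 {j | j ≠ 3}) k := rfl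

/-- `Q 1 = U_J`. -/
theorem e8c_qf_Q1 : e8c_QGL 1 = chevE8.unipotentRadical (ZMod 2) e8c_J :=
  e8c_qf_Q1_E8 (F := ZMod 2)

/-- `Q 0 = U_J` as well. -/
theorem e8c_qf_Q0 : e8c_QGL 0 = chevE8.unipotentRadical (ZMod 2) e8c_J :=
  e8c_qf_Q1_E8 (F := ZMod 2)

/-- `Q 1 ≤ P`. -/
theorem e8c_qf_Q1_le_P : e8c_QGL 1 ≤ e8c_PGL := e8c_QGL_le_PGL 1

/-- `P` normalises every `Q k` (`k ≥ 1`; also true for `k = 0`). -/
theorem e8c_qf_norm (k : ℕ) (hk : 1 ≤ k) :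
    ∀ p ∈ e8c_PGL, ∀ x ∈ e8c_QGL k, p * x * p⁻¹ ∈ e8c_QGL k := by
  obtain ⟨m, rfl⟩ : ∃ m, k = m + 1 := ⟨k - 1, by omega⟩
  exact e8c_qf_norm_E8 (F := ZMod 2) m

/-- the same as an inclusion in the normaliser -/
theorem e8c_qf_P_le_normalizer_Q (k : ℕ) (hk : 1 ≤ k) :
    e8c_PGL ≤ Subgroup.normalizer (e8c_QGL k : Set e8c_GL) := by
  intro p hp
  rw [Subgroup.mem_set_normalizer_iff]
  intro x
  constructor
  · exact e8c_qf_norm k hk p hp x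
  · intro hx
    have := e8c_qf_norm k hk p⁻¹ (inv_mem hp) _ hx
    have e : p⁻¹ * (p * x * p⁻¹) * p⁻¹⁻¹ = x := by group
    rwa [e] at this

/-- `Q 6 ≠ ⊥`: it contains `x_θ(1)`, `θ` the highest root (index `239`). -/
theorem e8c_qf_Q6_ne : e8c_QGL 6 ≠ ⊥ := e8c_qf_Q6_ne_E8 (F := ZMod 2)

/-- `x_θ(1) ∈ Q 6`. -/
theorem e8c_qf_theta_mem_Q6 :
    xGL good2_E8.toGood1 e8c_qf_theta_pos.1 (1 : ZMod 2) ∈ e8c_QGL 6 :=
  e8c_qf_theta_mem (F := ZMod 2)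

/-- the level function of `Defs` on roots, as a table entry -/
theorem e8c_qf_lev_eq (s : ℕ) : e8c_lev s = fastE8.wt wtMatE8 3 s := e8c_qf_fJ_E8 s

end e8

end Cfsg.Agent.E8C
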