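import Mathlib
import Cfsg.Agent.E8C.QFactsA
import Cfsg.Agent.Helper7.ChevWeyl

set_option autoImplicit false
set_option linter.unusedSectionVars false
set_option linter.unusedVariables false

/-!
E8C / S5751, BASE step (b) (helper2): a subgroup `N ≤ U` normalised by `P_J` lies in `U_J`.
Proof: `U = U_J X_J`; the element `n` of `N` of a word `w` in `J` which sends the positive roots of
`Φ_J` to negative roots lies in `P_J`, normalises `U_J` and sends `X_J` into `U⁻`; so for `x = u y ∈ N`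
the element `n y n⁻¹` lies in `U ⊓ U⁻ = 1`.
-/

namespace Cfsg.Agent.E8C

open Cfsg Cfsg.Lie Matrix Cfsg.Agent.Helper7 Cfsg.Agent.Helper7.Chev Cfsg.Agent.Helper7.Tri

variable {D : ChevalleyDatum} {F : Type*} [Field F]

section generic

variable (hG : Good2 D) (hT : T0 D) (h3 : (tabOf D).T3) (h4 : (tabOf D).T4 60)
  (h6 : (tabOf D).T6) (h14 : (tabOf D).T14)

include hG in
/-- The element of `N` of a word in `J` lies in `P_J`. -/
theorem e8c_bb_nWordGL_mem_parab {J : Set ℕ} {w : List ℕ} (hw : ∀ i ∈ w, i < D.rank ∧ i ∈ J) :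
    (nWordGL hG w : GL D.Idx F) ∈ D.parabolicSubgroup F J := by
  induction w with
  | nil => rw [nWordGL_nil]; exact one_mem _
  | cons i w ih =>
    obtain ⟨hi, hiJ⟩ := hw i List.mem_cons_self
    rw [nWordGL_cons hG hi]
    exact mul_mem (nGL_mem_parabolic hG hi hiJ)
      (ih fun j hj => hw j (List.mem_cons_of_mem _ hj))

include hG hT in
/-- Conjugation by the element of a word sending `Φ_J⁺` to negative roots maps `X_J` into `U⁻`. -/
theorem e8c_bb_conj_XJ_mem_neg {J : Set ℕ} {w : List ℕ} (hw : ∀ i ∈ w, i < D.rank)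
    (hneg : ∀ s, InJPos D J s → D.IsNegRoot ((tabOf D).reflWord w s)) :
    ∀ y ∈ Subgroup.closure (rootGen D F (InJPos D J)),
      nWordGL hG w * y * (nWordGL hG w)⁻¹ ∈ D.negUnipotent F := by
  have hG1 := hG.toGood1
  intro y hy
  induction hy using Subgroup.closure_induction with
  | mem g hg =>
    obtain ⟨s, t, hs, hg⟩ := hg
    have hsl : s < D.nroots := hs.1.1
    rw [eq_xGL hG1 hsl hg, nWordGL_conj hG hw hsl t]
    apply Subgroup.subset_closure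
    exact ⟨_, _, hneg s hs, xGL_coe hG1 _ _⟩
  | one => simp
  | mul a b _ _ ha hb =>
    have e : nWordGL hG w * (a * b) * (nWordGL hG w)⁻¹ =
        (nWordGL hG w * a * (nWordGL hG w)⁻¹) * (nWordGL hG w * b * (nWordGL hG w)⁻¹) := by group
    rw [e]; exact mul_mem ha hb
  | inv a _ ha =>
    have e : nWordGL hG w * a⁻¹ * (nWordGL hG w)⁻¹ = (nWordGL hG w * a * (nWordGL hG w)⁻¹)⁻¹ := by
      group
    rw [e]; exact inv_mem ha

include hG hT h3 h4 h6 h14 in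
/-- **BASE (b), generic.** -/
theorem e8c_bb_generic {J : Set ℕ} {w : List ℕ} (hw : ∀ i ∈ w, i < D.rank ∧ i ∈ J)
    (hneg : ∀ s, InJPos D J s → D.IsNegRoot ((tabOf D).reflWord w s))
    (N : Subgroup (GL D.Idx F)) (hNU : N ≤ D.posUnipotent F)
    (hnorm : ∀ p ∈ D.parabolicSubgroup F J, ∀ x ∈ N, p * x * p⁻¹ ∈ N) :
    N ≤ D.unipotentRadical F J := by
  have hG1 := hG.toGood1
  have hw' : ∀ i ∈ w, i < D.rank := fun i hi => (hw i hi).1
  intro x hx
  obtain ⟨u, hu, y, hy, rfl⟩ := pos_eq_rad_mul_XJ hG hT h3 h4 h14 J x (hNU hx)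
  set n : GL D.Idx F := nWordGL hG w with hn
  have hnP : n ∈ D.parabolicSubgroup F J := e8c_bb_nWordGL_mem_parab hG hw
  -- `n (u y) n⁻¹ ∈ U`
  have h1 : n * (u * y) * n⁻¹ ∈ D.posUnipotent F := hNU (hnorm n hnP _ hx)
  -- `n u n⁻¹ ∈ U_J ≤ U`
  have hnn := nWordGL_mem_normalizer_rad (K := F) hG hT h6 hw
  have h2 : n * u * n⁻¹ ∈ Subgroup.closure (upGenS D F (InJPos D J)) :=
    (Subgroup.mem_set_normalizer_iff.mp hnn u).mp hu
  have h2' : n * u * n⁻¹ ∈ D.posUnipotent F := by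
    rw [upGenS_InJPos] at h2
    refine (Subgroup.closure_mono ?_) h2
    rintro g ⟨r, t, hr, hg⟩
    exact ⟨r, t, hr.1, hg⟩
  -- `n y n⁻¹ ∈ U ⊓ U⁻`
  have h3' : n * y * n⁻¹ ∈ D.posUnipotent F := by
    have e : n * y * n⁻¹ = (n * u * n⁻¹)⁻¹ * (n * (u * y) * n⁻¹) := by group
    rw [e]; exact mul_mem (inv_mem h2') h1
  have h4' : n * y * n⁻¹ ∈ D.negUnipotent F := e8c_bb_conj_XJ_mem_neg hG hT hw' hneg y hy
  have h5 : n * y * n⁻¹ ∈ D.borelSubgroup F ⊓ D.negUnipotent F :=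
    ⟨Subgroup.mem_sup_left h3', h4'⟩
  rw [borel_inf_negUnipotent hG hT, Subgroup.mem_bot] at h5
  have hy1 : y = 1 := by
    have : y = n⁻¹ * (n * y * n⁻¹) * n := by group
    rw [this, h5]; group
  rw [hy1, mul_one]
  rw [upGenS_InJPos, ← unipotentRadical_eq] at hu
  exact hu

end generic

theorem e8c_bb_cr_eq_zero {J : Set ℕ} {s i : ℕ} (hJ : D.InRootSub J s) (hi : i < D.rank)
    (hiJ : i ∉ J) : (tabOf D).cr s i = 0 := hJ.2 i hi hiJ

section e8

/-- a reduced word of the longest element of `W_J`, `J = {j | j ≠ 3}` (type `A₂ × A₁ × A₄`) -/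
def e8c_bb_wJ : List ℕ := [0, 2, 0, 1, 4, 5, 4, 6, 5, 4, 7, 6, 5, 4]

set_option maxRecDepth 1000000 in
set_option maxHeartbeats 0 in
/-- `w_J` sends the positive roots of `Φ_J` to negative roots. -/
theorem e8c_bb_wJ_fast : ∀ s < 240, 120 ≤ s → fastE8.cr s 3 = 0 →
    fastE8.reflWord e8c_bb_wJ s < 120 := by decide +kernel

theorem e8c_bb_wJ_mem : ∀ i ∈ e8c_bb_wJ, i < chevE8.rank ∧ i ∈ ({j | j ≠ 3} : Set ℕ) := by
  intro i hi
  have h8 : chevE8.rank = 8 := rfl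
  rw [h8]
  simp only [e8c_bb_wJ, List.mem_cons, List.mem_nil_iff, or_false] at hi
  simp only [Set.mem_ofPred_eq]
  omega

theorem e8c_bb_wJ_neg : ∀ s, InJPos chevE8 {j | j ≠ 3} s →
    chevE8.IsNegRoot ((tabOf chevE8).reflWord e8c_bb_wJ s) := by
  rintro s ⟨hpos, hJ⟩
  have hs : s < chevE8.nroots := hpos.1
  have hw : ∀ i ∈ e8c_bb_wJ, i < chevE8.rank := fun i hi => (e8c_bb_wJ_mem i hi).1
  have hlt := reflWord_lt good2_E8 hw hs
  rw [isNegRoot_iff T0_E8 hlt]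
  have hp := (isPosRoot_iff T0_E8 hs).mp hpos
  have h3J : (3 : ℕ) ∉ ({j | j ≠ 3} : Set ℕ) := by simp
  have hcr : (tabOf chevE8).cr s 3 = 0 := e8c_bb_cr_eq_zero hJ e8c_three_lt h3J
  rw [tab_E8] at hcr ⊢
  exact e8c_bb_wJ_fast s hs hp hcr

/-- **BASE (b)** for `E8`, any field: `N ≤ U` normalised by `P` lies in `U_J`. -/
theorem e8c_bb_base_E8 (N : Subgroup (GL chevE8.Idx F)) (hNU : N ≤ chevE8.posUnipotent F)
    (hnorm : ∀ p ∈ chevE8.parabolicSubgroup F {j | j ≠ 3}, ∀ x ∈ N, p * x * p⁻¹ ∈ N) :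
    N ≤ chevE8.unipotentRadical F {j | j ≠ 3} :=
  e8c_bb_generic good2_E8 T0_E8 T3_E8 T4_E8 T6_E8 T14_E8 e8c_bb_wJ_mem e8c_bb_wJ_neg N hNU hnorm

/-- **BASE (b)** in the shape of `Defs`. -/
theorem e8c_bb_base (N : Subgroup e8c_GL) (hNU : N ≤ e8c_UGL)
    (hnorm : ∀ p ∈ e8c_PGL, ∀ x ∈ N, p * x * p⁻¹ ∈ N) : N ≤ e8c_QGL 1 := by
  rw [e8c_qf_Q1]
  exact e8c_bb_base_E8 N hNU hnorm

end e8

end Cfsg.Agent.E8C
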