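import Mathlib
import Cfsg.Agent.E8C.FilChev
import Cfsg.Agent.Helper7.ChevUnique

set_option autoImplicit false
set_option linter.unusedSectionVars false
set_option linter.unusedVariables false

/-!
# S5751 (swarm "E8C"), piece (A2) (helper3): the coefficients of an element of `U ⊓ Fil_{k+1}`

Generic in a datum `D` with `hG : Good2 D`, `hT : T0 D`, `h8 : (tabOf D).T8`, `h16 : (tabOf D).T16 W`,
`F` any field, `J : Set ℕ`, level function `lvlJ D W J` (helper7's `ChevLevi2`), on top of helper5's
`E8C/Fil` and `E8C/FilChev`.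

Main result `e8c_coeff_zero`: if the ordered product `u = ∏ x_r(t_r)` over the positive roots lies in
`UTk F (lvlJ D W J) k` (that is, in `Fil_{k+1}`), then `t_r = 0` for every positive root `r` with
`fJ D W J r ≤ k`.  The level `0` part uses the uniqueness of the ordered product (`word_unique`,
S1026) for the Levi part, the levels `≥ 1` use the additivity of the graded pieces at the
positions `(h_i, e_{-s})` and the primitivity of the coroots (`T8`).
-/

namespace Cfsg.Agent.E8C

open Cfsg Cfsg.Lie Matrix Cfsg.Agent.Helper7 Cfsg.Agent.Helper7.Chev Cfsg.Agent.Helper7.Tri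

variable {D : ChevalleyDatum} {F : Type*} [Field F]

/-- `x_r(0) = 1` -/
theorem e8c_co_x_zero (r : ℕ) : D.x F r (0 : F) = 1 := by
  unfold ChevalleyDatum.x
  split_ifs with h
  · exact xMat_zero D ⟨r, h⟩
  · rfl

theorem e8c_co_xGL'_zero (hG1 : Good1 D) (r : ℕ) : xGL' hG1 (r, (0 : F)) = 1 := by
  apply Units.ext
  rw [xGL'_coe, Units.val_one]
  exact e8c_co_x_zero r

theorem e8c_co_xGL'_of_lt (hG1 : Good1 D) {r : ℕ} (hr : r < D.nroots) (a : F) :
    xGL' hG1 (r, a) = xGL hG1 hr a := by
  unfold xGL'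
  rw [dif_pos hr]

/-- a sum over a list without repetition of a function supported at one point -/
theorem e8c_co_sum_ite {α : Type*} [DecidableEq α] {M : Type*} [AddCommMonoid M] (L : List α)
    (hL : L.Nodup) (s : α) (hs : s ∈ L) (c : α → M) :
    (L.map fun r => if r = s then c r else 0).sum = c s := by
  induction L with
  | nil => simp at hs
  | cons a L ih =>
    rw [List.nodup_cons] at hL
    rw [List.map_cons, List.sum_cons]
    by_cases has : a = s
    · subst has
      rw [if_pos rfl]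
      have h0 : (L.map fun r => if r = a then c r else 0).sum = 0 := by
        apply List.sum_eq_zero
        intro x hx
        rw [List.mem_map] at hx
        obtain ⟨r, hr, rfl⟩ := hx
        rw [if_neg]
        rintro rfl
        exact hL.1 hr
      rw [h0, add_zero]
    · rw [if_neg has, zero_add]
      rcases List.mem_cons.mp hs with h | h
      · exact absurd h.symm has
      · exact ih hL.2 h

/-- the coroots are primitive, so some coordinate does not vanish in `F` -/
theorem e8c_co_exists_cr_ne_zero (h8 : (tabOf D).T8) {s : ℕ} (hs : s < D.nroots) :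
    ∃ i : Fin D.rank, ((cr D s i.val : ℤ) : F) ≠ 0 := by
  obtain ⟨h8a, h8b⟩ := h8
  have hprim := (h8a s hs).2
  have hl : (tabOf D).l = D.rank := rfl
  rw [hl] at hprim
  have hmm : (List.range D.rank).map (fun i => ((tabOf D).cr s i).natAbs) =
      ((List.range D.rank).map (fun i => cr D s i)).map Int.natAbs := by
    rw [List.map_map]; rfl
  rw [hmm] at hprim
  obtain ⟨c, hc, hc0⟩ := exists_cast_ne_zero (F := F) _ hprim
  rw [List.mem_map] at hc
  obtain ⟨i, hi, rfl⟩ := hc
  rw [List.mem_range] at hi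
  exact ⟨⟨i, hi⟩, hc0⟩

/-- a word all of whose parameters vanish is the identity -/
theorem e8c_co_wordMat_zero (hG1 : Good1 D) (L : List ℕ) :
    D.wordMat F (L.map fun r => (r, (0 : F))) = 1 := by
  rw [← wordGL_coe hG1, ← Units.val_one]
  congr 1
  apply List.prod_eq_one
  intro x hx
  rw [List.mem_map] at hx
  obtain ⟨q, hq, rfl⟩ := hx
  rw [List.mem_map] at hq
  obtain ⟨r, _, rfl⟩ := hq
  exact e8c_co_xGL'_zero hG1 r

section grading

variable (hG : Good2 D) (hT : T0 D) {W : List (List ℤ)} (h16 : (tabOf D).T16 W)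

include hG in
/-- a root element of a root of level `0` preserves the levels -/
theorem e8c_co_x_mem_levelGroup (J : Set ℕ) {r : ℕ} (hr : r < D.nroots)
    (h0 : fJ D W J r = 0) (t : F) : xGL hG.toGood1 hr t ∈ levelGroup F (lvlJ D W J) := by
  refine ⟨?_, ?_⟩
  · rw [xGL_coe]; exact levelPres_x hG J hr h0 t
  · rw [xGL_inv, xGL_coe]; exact levelPres_x hG J hr h0 (-t)

/-- `levelGroup ≤ Fil₀` -/
theorem e8c_co_levelGroup_le_Fil0 {ι : Type*} [Fintype ι] [DecidableEq ι] (lvl : ι → ℕ) :
    levelGroup F lvl ≤ e8c_Fil0 F lvl := by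
  intro g hg
  exact ⟨e8c_fc_raises_of_levelPres hg.1, e8c_fc_raises_of_levelPres hg.2⟩

include hG hT in
/-- **the graded piece of degree `m + 1` of an ordered product**: if all the factors `x_r(t_r)` of the
word have `t_r = 0` or level at least `m + 1`, and the product lies in `UTk (m + 1)`, then the
parameters of the roots of level `m + 1` vanish after multiplication by the coroot coordinates -/
theorem e8c_co_level (J : Set ℕ) {m : ℕ} (L : List ℕ) (hLnd : L.Nodup)
    (hL : ∀ r ∈ L, D.IsPosRoot r) (t : ℕ → F)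
    (hlow : ∀ r ∈ L, fJ D W J r < ((m + 1 : ℕ) : ℤ) → t r = 0)
    {g : GL D.Idx F} (hg : (g : Matrix D.Idx D.Idx F) = D.wordMat F (L.map fun r => (r, t r)))
    (hmem : g ∈ UTk F (lvlJ D W J) (m + 1))
    {s : ℕ} (hs : s ∈ L) (hsm : fJ D W J s = ((m + 1 : ℕ) : ℤ)) (i : Fin D.rank) :
    ((cr D s i.val : ℤ) : F) * t s = 0 := by
  have hG1 := hG.toGood1
  have hsl : s < D.nroots := (hL s hs).1
  have hnl : D.neg s < D.nroots := hG1.neg_lt hsl
  have hsneg : D.neg s < D.nroots / 2 := ((hT s hsl).2.1 (hL s hs)).2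
  have hij : lvlJ D W J (Sum.inl i) = lvlJ D W J (Sum.inr ⟨D.neg s, hnl⟩) + (m + 1) := by
    have e := e8c_fc_lvl_inr_sub_inl (W := W) J i ⟨D.neg s, hnl⟩
    have e' : fJ D W J (D.neg s) = - fJ D W J s := fJ_neg hG J hsl
    have e2 : ((lvlJ D W J (Sum.inl i) : ℕ) : ℤ) =
        ((lvlJ D W J (Sum.inr ⟨D.neg s, hnl⟩) : ℕ) : ℤ) + ((m + 1 : ℕ) : ℤ) := by
      rw [e]
      change _ = _ + fJ D W J (D.neg s) + _
      rw [e', hsm]
      ring
    exact_mod_cast e2
  -- `g` as a product in `GL`
  have hgp : g = ((L.map fun r => (r, t r)).map (xGL' hG1)).prod := by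
    apply Units.ext
    rw [hg, wordGL_coe]
  -- the factors lie in `UTk m`
  have hfac : ∀ x ∈ (L.map fun r => (r, t r)).map (xGL' hG1), x ∈ UTk F (lvlJ D W J) m := by
    intro x hx
    rw [List.mem_map] at hx
    obtain ⟨q, hq, rfl⟩ := hx
    rw [List.mem_map] at hq
    obtain ⟨r, hr, rfl⟩ := hq
    have hrl : r < D.nroots := (hL r hr).1
    by_cases hlt : fJ D W J r < ((m + 1 : ℕ) : ℤ)
    · rw [hlow r hr hlt, e8c_co_xGL'_zero]
      exact one_mem _
    · rw [e8c_co_xGL'_of_lt hG1 hrl]
      exact e8c_fc_x_mem_UTk hG J hrl (not_lt.mp hlt) (t r)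
  have hsum := e8c_gr_list_prod _ hfac hij
  rw [← hgp, e8c_gr_eq_zero hmem hij, List.map_map, List.map_map] at hsum
  have hcongr : L.map (((fun x : GL D.Idx F =>
        ((x : Matrix D.Idx D.Idx F) - 1) (Sum.inl i) (Sum.inr ⟨D.neg s, hnl⟩)) ∘
          xGL' hG1) ∘ fun r => (r, t r)) =
      L.map fun r => if r = s then ((cr D r i.val : ℤ) : F) * t r else 0 := by
    apply List.map_congr_left
    intro r hr
    have hrl : r < D.nroots := (hL r hr).1
    have hrpos : D.nroots / 2 ≤ r := (isPosRoot_iff hT hrl).mp (hL r hr)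
    have hne : (⟨D.neg s, hnl⟩ : Fin D.nroots).val ≠ r := by
      change D.neg s ≠ r
      omega
    simp only [Function.comp_apply]
    rw [xGL'_coe, e8c_fc_x_sub_one_inl_inr hrl (t r) i ⟨D.neg s, hnl⟩ hne]
    by_cases hrs : r = s
    · subst hrs
      rw [if_pos rfl, if_pos rfl]
    · rw [if_neg hrs, if_neg]
      intro h
      change D.neg s = D.neg r at h
      apply hrs
      rw [← hG1.neg_neg hrl, ← h, hG1.neg_neg hsl]
  rw [hcongr, e8c_co_sum_ite L hLnd s hs (fun r => ((cr D r i.val : ℤ) : F) * t r)] at hsum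
  exact hsum.symm

include hG hT h16 in
/-- **the Levi part of an ordered product**: modulo `UTk 0` the product is the product of its factors
of level `0`, and the latter preserves the levels -/
theorem e8c_co_split (J : Set ℕ) (L : List ℕ) (hL : ∀ r ∈ L, D.IsPosRoot r) (t : ℕ → F) :
    ∃ n ∈ UTk F (lvlJ D W J) 0,
      ((L.map fun r => (r, t r)).map (xGL' hG.toGood1)).prod =
        ((L.map fun r => (r, if fJ D W J r = 0 then t r else 0)).map (xGL' hG.toGood1)).prod * n ∧
      ((L.map fun r => (r, if fJ D W J r = 0 then t r else 0)).map (xGL' hG.toGood1)).prod ∈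
        levelGroup F (lvlJ D W J) := by
  have hG1 := hG.toGood1
  induction L with
  | nil => exact ⟨1, one_mem _, by simp, by simp [one_mem]⟩
  | cons r L ih =>
    obtain ⟨n, hn, he, hv⟩ := ih (fun x hx => hL x (List.mem_cons_of_mem _ hx))
    have hrp : D.IsPosRoot r := hL r List.mem_cons_self
    have hrl : r < D.nroots := hrp.1
    have hrpos : D.nroots / 2 ≤ r := (isPosRoot_iff hT hrl).mp hrp
    simp only [List.map_cons, List.prod_cons]
    rw [he]
    by_cases h0 : fJ D W J r = 0
    · refine ⟨n, hn, ?_, ?_⟩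
      · rw [if_pos h0, mul_assoc]
      · rw [if_pos h0, e8c_co_xGL'_of_lt hG1 hrl]
        exact mul_mem (e8c_co_x_mem_levelGroup hG J hrl h0 (t r)) hv
    · have h1 : ((0 + 1 : ℕ) : ℤ) ≤ fJ D W J r := by
        have := fJ_nonneg h16 J hrl hrpos
        push_cast
        omega
      have hx : xGL' hG1 (r, t r) ∈ UTk F (lvlJ D W J) 0 := by
        rw [e8c_co_xGL'_of_lt hG1 hrl]
        exact e8c_fc_x_mem_UTk hG J hrl h1 (t r)
      set v := ((L.map fun r => (r, if fJ D W J r = 0 then t r else 0)).map (xGL' hG1)).prod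
        with hvdef
      have hvinv : v⁻¹ ∈ e8c_Fil0 F (lvlJ D W J) :=
        e8c_co_levelGroup_le_Fil0 _ (inv_mem hv)
      refine ⟨v⁻¹ * xGL' hG1 (r, t r) * v⁻¹⁻¹ * n, mul_mem (e8c_conj_mem_UTk hvinv hx) hn, ?_, ?_⟩
      · rw [if_neg h0, e8c_co_xGL'_zero]
        group
      · rw [if_neg h0, e8c_co_xGL'_zero, one_mul]
        exact hv

include hG hT h16 in
/-- **(A2)** if the ordered product `∏ x_r(t_r)` over the positive roots lies in `UTk k` for the
levels `lvlJ D W J`, then `t_r = 0` for every positive root `r` of level `fJ D W J r ≤ k`. -/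
theorem e8c_coeff_zero (h8 : (tabOf D).T8) (J : Set ℕ) {k : ℕ} (t : ℕ → F) {g : GL D.Idx F}
    (hg : (g : Matrix D.Idx D.Idx F) = D.wordMat F (D.posRoots.map fun r => (r, t r)))
    (hmem : g ∈ UTk F (lvlJ D W J) k) :
    ∀ r, D.IsPosRoot r → fJ D W J r < ((k + 1 : ℕ) : ℤ) → t r = 0 := by
  have hG1 := hG.toGood1
  have hLpos : ∀ r ∈ D.posRoots, D.IsPosRoot r := by
    intro r hr
    unfold ChevalleyDatum.posRoots at hr
    rw [List.mem_filter, decide_eq_true_eq] at hr
    exact hr.2
  have hLmem : ∀ r, D.IsPosRoot r → r ∈ D.posRoots := by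
    intro r hr
    unfold ChevalleyDatum.posRoots
    rw [List.mem_filter, decide_eq_true_eq]
    exact ⟨List.mem_range.mpr hr.1, hr⟩
  have hLnd : D.posRoots.Nodup := by
    unfold ChevalleyDatum.posRoots
    exact List.Nodup.filter _ List.nodup_range
  -- strong induction on the level
  have key : ∀ m : ℕ, m ≤ k → ∀ r, D.IsPosRoot r → fJ D W J r = (m : ℤ) → t r = 0 := by
    intro m
    induction m using Nat.strong_induction_on with
    | _ m ih =>
      intro hmk s hsp hsm
      have hsl : s < D.nroots := hsp.1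
      rcases Nat.eq_zero_or_pos m with hm0 | hmpos
      · -- level `0`
        subst hm0
        obtain ⟨n, hn, he, hv⟩ := e8c_co_split hG hT h16 J D.posRoots hLpos t
        have hgp : g = ((D.posRoots.map fun r => (r, t r)).map (xGL' hG1)).prod := by
          apply Units.ext
          rw [hg, wordGL_coe]
        set v := ((D.posRoots.map fun r =>
          (r, if fJ D W J r = 0 then t r else 0)).map (xGL' hG1)).prod with hvdef
        have hg0 : g ∈ UTk F (lvlJ D W J) 0 := UTk_anti F _ (Nat.zero_le k) hmem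
        have hv0 : v ∈ UTk F (lvlJ D W J) 0 := by
          have : v = g * n⁻¹ := by rw [hgp, he]; group
          rw [this]
          exact mul_mem hg0 (inv_mem hn)
        have hv1 : v = 1 := eq_one_of_mem_levelGroup_of_mem_UTk hv hv0
        have hmat : D.wordMat F (D.posRoots.map fun r =>
            (r, if fJ D W J r = 0 then t r else 0)) =
            D.wordMat F (D.posRoots.map fun r => (r, (0 : F))) := by
          rw [e8c_co_wordMat_zero hG1, ← wordGL_coe hG1, ← hvdef, hv1, Units.val_one]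
        rw [posRoots_eq hT] at hmat
        have hle : D.nroots / 2 ≤ D.nroots := Nat.div_le_self _ _
        have hspos : D.nroots / 2 ≤ s := (isPosRoot_iff hT hsl).mp hsp
        have := word_unique hG hT h8 (D.nroots - D.nroots / 2) (D.nroots / 2) (by omega) le_rfl
          (fun r => if fJ D W J r = 0 then t r else 0) (fun _ => (0 : F)) hmat s
          (by rw [List.mem_range'_1]; omega)
        change (if fJ D W J s = 0 then t s else 0) = 0 at this
        rw [if_pos (by simpa using hsm)] at this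
        exact this
      · -- level `m = m' + 1`
        obtain ⟨m', rfl⟩ : ∃ m', m = m' + 1 := ⟨m - 1, by omega⟩
        have hlow : ∀ r ∈ D.posRoots, fJ D W J r < ((m' + 1 : ℕ) : ℤ) → t r = 0 := by
          intro r hr hlt
          have hrp := hLpos r hr
          have hrl : r < D.nroots := hrp.1
          have h0 := fJ_nonneg h16 J hrl ((isPosRoot_iff hT hrl).mp hrp)
          have hj : fJ D W J r = (((fJ D W J r).toNat : ℕ) : ℤ) := (Int.toNat_of_nonneg h0).symm
          have hjlt : (fJ D W J r).toNat < m' + 1 := by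
            have : (((fJ D W J r).toNat : ℕ) : ℤ) < ((m' + 1 : ℕ) : ℤ) := by rw [← hj]; exact hlt
            exact_mod_cast this
          exact ih _ hjlt (by omega) r hrp hj
        have hmem' : g ∈ UTk F (lvlJ D W J) (m' + 1) := UTk_anti F _ hmk hmem
        obtain ⟨i, hi⟩ := e8c_co_exists_cr_ne_zero (F := F) h8 hsl
        have h := e8c_co_level hG hT J D.posRoots hLnd hLpos t hlow hg hmem' (hLmem s hsp)
          (by exact_mod_cast hsm) i
        exact (mul_eq_zero.mp h).resolve_left hi
  intro r hrp hlt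
  have hrl : r < D.nroots := hrp.1
  have h0 := fJ_nonneg h16 J hrl ((isPosRoot_iff hT hrl).mp hrp)
  have hj : fJ D W J r = (((fJ D W J r).toNat : ℕ) : ℤ) := (Int.toNat_of_nonneg h0).symm
  have hjle : (fJ D W J r).toNat ≤ k := by
    have : (((fJ D W J r).toNat : ℕ) : ℤ) < ((k + 1 : ℕ) : ℤ) := by rw [← hj]; exact hlt
    have h2 : (fJ D W J r).toNat < k + 1 := by exact_mod_cast this
    omega
  exact key _ hjle r hrp hj

include hG hT h16 in
/-- the form `k - 1`, `1 ≤ k` of `e8c_coeff_zero` -/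
theorem e8c_coeff_zero' (h8 : (tabOf D).T8) (J : Set ℕ) {k : ℕ} (hk : 1 ≤ k) (t : ℕ → F)
    {g : GL D.Idx F}
    (hg : (g : Matrix D.Idx D.Idx F) = D.wordMat F (D.posRoots.map fun r => (r, t r)))
    (hmem : g ∈ UTk F (lvlJ D W J) (k - 1)) :
    ∀ r, D.IsPosRoot r → fJ D W J r < (k : ℤ) → t r = 0 := by
  intro r hrp hlt
  apply e8c_coeff_zero hG hT h16 h8 J t hg hmem r hrp
  have : k - 1 + 1 = k := by omega
  rw [this]
  exact hlt

end grading

section word

variable (hG : Good2 D) (hT : T0 D) (h3 : (tabOf D).T3) (h4 : (tabOf D).T4 60) (h7 : (tabOf D).T7)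
  (h8 : (tabOf D).T8) {W : List (List ℤ)} (h16 : (tabOf D).T16 W)

include hG hT h3 h4 h7 h8 h16 in
/-- an element of `U ⊓ UTk k` is an ordered product of root elements of level at least `k + 1` -/
theorem e8c_coeff_word (J : Set ℕ) {k : ℕ} {g : GL D.Idx F} (hgU : g ∈ D.posUnipotent F)
    (hmem : g ∈ UTk F (lvlJ D W J) k) :
    ∃ t : ℕ → F, (∀ r, ¬ D.IsPosRoot r → t r = 0) ∧
      (∀ r, fJ D W J r < ((k + 1 : ℕ) : ℤ) → t r = 0) ∧
      (g : Matrix D.Idx D.Idx F) = D.wordMat F (D.posRoots.map fun r => (r, t r)) := by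
  obtain ⟨t, ht1, ht2⟩ := posUnipotent_word hG hT h3 h4 h7 hgU
  refine ⟨t, ht1, ?_, ht2⟩
  intro r hlt
  by_cases hrp : D.IsPosRoot r
  · exact e8c_coeff_zero hG hT h16 h8 J t ht2 hmem r hrp hlt
  · exact ht1 r hrp

include hG hT h3 h4 h7 h8 h16 in
/-- if no positive root has level above `k` then `U ⊓ UTk k = ⊥` -/
theorem e8c_coeff_eq_bot (J : Set ℕ) {k : ℕ}
    (hall : ∀ r, D.IsPosRoot r → fJ D W J r < ((k + 1 : ℕ) : ℤ)) :
    D.posUnipotent F ⊓ UTk F (lvlJ D W J) k = ⊥ := by
  rw [eq_bot_iff]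
  rintro g ⟨hgU, hmem⟩
  rw [Subgroup.mem_bot]
  obtain ⟨t, ht1, ht2, ht3⟩ := e8c_coeff_word hG hT h3 h4 h7 h8 h16 J hgU hmem
  have ht0 : t = fun _ => (0 : F) := by
    funext r
    by_cases hrp : D.IsPosRoot r
    · exact ht2 r (hall r hrp)
    · exact ht1 r hrp
  apply Units.ext
  rw [ht3, ht0, e8c_co_wordMat_zero hG.toGood1, Units.val_one]

end word

end Cfsg.Agent.E8C
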