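import Mathlib
import Cfsg.Agent.E8C.FilChev

set_option autoImplicit false
set_option linter.unusedSectionVars false
set_option linter.unusedVariables false

/-!
# S5751 (swarm "E8C"), piece A1 (helper5): the entries of a word in the rows `h_i`

For a word `w` in root elements all of whose roots have level `fJ ≥ k ≥ 1` and a root `s` of level exactly
`k`, the entry of the matrix of the word in the row `h_i` and the column `e_{-s}` is
`(Σ_{(r, t) ∈ w, r = s} t) * c_i(s)`, where `c_i(s)` is the `i`-th coordinate of the coroot of `s`.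
-/

namespace Cfsg.Agent.E8C

open Cfsg Cfsg.Lie Matrix Cfsg.Agent.Helper7 Cfsg.Agent.Helper7.Chev Cfsg.Agent.Helper7.Tri

variable {D : ChevalleyDatum} {F : Type*} [Field F]

section

variable (hG : Good2 D) {W : List (List ℤ)}

/-- the entry of `x_s(t)` itself in the row `h_i`, column `e_{-s}` -/
theorem e8c_x_inl_inr_neg (hG1 : Good1 D) {s : ℕ} (hs : s < D.nroots) (t : F) (i : Fin D.rank) :
    (D.x F s t) (Sum.inl i) (Sum.inr ⟨D.neg s, hG1.neg_lt hs⟩) = ((cr D s i.val : ℤ) : F) * t := by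
  have h1 := e8c_fc_x_sub_one_inl_inr (D := D) hs t i ⟨D.neg s, hG1.neg_lt hs⟩ (hG1.neg_ne hs)
  rw [if_pos rfl, Matrix.sub_apply, Matrix.one_apply, if_neg (by simp), sub_zero] at h1
  exact h1

/-- the sum of the parameters of the letters of the word `w` with root `s` -/
def e8c_coeffSum (w : List (ℕ × F)) (s : ℕ) : F :=
  ((w.filter (fun p => p.1 = s)).map (fun p => p.2)).sum

theorem e8c_coeffSum_nil (s : ℕ) : e8c_coeffSum ([] : List (ℕ × F)) s = 0 := rfl

theorem e8c_coeffSum_cons (p : ℕ × F) (w : List (ℕ × F)) (s : ℕ) :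
    e8c_coeffSum (p :: w) s = (if p.1 = s then p.2 else 0) + e8c_coeffSum w s := by
  unfold e8c_coeffSum
  by_cases h : p.1 = s
  · rw [List.filter_cons_of_pos (by simpa using h), List.map_cons, List.sum_cons, if_pos h]
  · rw [List.filter_cons_of_neg (by simpa using h), if_neg h, zero_add]

theorem e8c_coeffSum_append (w w' : List (ℕ × F)) (s : ℕ) :
    e8c_coeffSum (w ++ w') s = e8c_coeffSum w s + e8c_coeffSum w' s := by
  unfold e8c_coeffSum
  rw [List.filter_append, List.map_append, List.sum_append]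

include hG in
/-- **A1, successor form**: all roots of `w` of level `≥ k + 1`, `s` of level exactly `k + 1`. -/
theorem e8c_entry_word_succ (J : Set ℕ) (k : ℕ) (w : List (ℕ × F))
    (hw : ∀ p ∈ w, p.1 < D.nroots ∧ ((k + 1 : ℕ) : ℤ) ≤ fJ D W J p.1) {s : ℕ} (hs : s < D.nroots)
    (hsk : fJ D W J s = ((k + 1 : ℕ) : ℤ)) (i : Fin D.rank) :
    (D.wordMat F w) (Sum.inl i) (Sum.inr ⟨D.neg s, hG.toGood1.neg_lt hs⟩) =
      e8c_coeffSum w s * ((cr D s i.val : ℤ) : F) := by
  have hG1 := hG.toGood1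
  have hnl : D.neg s < D.nroots := hG1.neg_lt hs
  have hL : ∀ g ∈ w.map (xGL' hG1), g ∈ UTk F (lvlJ D W J) k := by
    intro g hg
    rw [List.mem_map] at hg
    obtain ⟨p, hp, rfl⟩ := hg
    obtain ⟨hp1, hp2⟩ := hw p hp
    unfold xGL'
    rw [dif_pos hp1]
    exact e8c_fc_x_mem_UTk hG J hp1 hp2 p.2
  have hij : lvlJ D W J (Sum.inl i) = lvlJ D W J (Sum.inr ⟨D.neg s, hnl⟩) + (k + 1) := by
    have e := e8c_fc_lvl_inr_sub_inl (W := W) J i ⟨D.neg s, hnl⟩
    have e' : fJ D W J (D.neg s) = - fJ D W J s := fJ_neg hG J hs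
    have : ((lvlJ D W J (Sum.inl i) : ℕ) : ℤ) =
        ((lvlJ D W J (Sum.inr ⟨D.neg s, hnl⟩) + (k + 1) : ℕ) : ℤ) := by
      rw [Nat.cast_add, e]
      change _ = _ + fJ D W J (D.neg s) + _
      rw [e', hsk]
      ring
    exact_mod_cast this
  have hmain := e8c_gr_list_prod (w.map (xGL' hG1)) hL hij
  rw [wordGL_coe, Matrix.sub_apply, Matrix.one_apply, if_neg (by simp), sub_zero, List.map_map]
    at hmain
  rw [hmain]
  -- now compute the sum
  clear hmain hL
  induction w with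
  | nil => simp [e8c_coeffSum_nil]
  | cons p w ih =>
    have hw' : ∀ q ∈ w, q.1 < D.nroots ∧ ((k + 1 : ℕ) : ℤ) ≤ fJ D W J q.1 :=
      fun q hq => hw q (List.mem_cons_of_mem _ hq)
    obtain ⟨hp1, hp2⟩ := hw p List.mem_cons_self
    rw [List.map_cons, List.sum_cons, ih hw', e8c_coeffSum_cons, add_mul]
    congr 1
    rw [Function.comp_apply, xGL'_coe]
    have hne : (⟨D.neg s, hnl⟩ : Fin D.nroots).val ≠ p.1 := by
      intro h
      have h1 : fJ D W J (D.neg s) = fJ D W J p.1 := by rw [← h]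
      have e' : fJ D W J (D.neg s) = - fJ D W J s := fJ_neg hG J hs
      rw [e', hsk] at h1
      have : (0 : ℤ) ≤ ((k + 1 : ℕ) : ℤ) := Int.natCast_nonneg _
      push_cast at *
      linarith
    rw [e8c_fc_x_sub_one_inl_inr (D := D) hp1 p.2 i ⟨D.neg s, hnl⟩ hne]
    by_cases hps : p.1 = s
    · rw [if_pos hps, if_pos (by rw [hps]), hps, mul_comm]
    · rw [if_neg hps, zero_mul, if_neg]
      intro h
      apply hps
      have h' : D.neg s = D.neg p.1 := h
      have := congrArg D.neg h'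
      rw [hG1.neg_neg hs, hG1.neg_neg hp1] at this
      exact this.symm

include hG in
/-- **A1** (`e8c_entry_word`): `k ≥ 1`, all roots of `w` of level `≥ k`, `s` of level exactly `k`. -/
theorem e8c_entry_word (J : Set ℕ) {k : ℕ} (hk : 1 ≤ k) (w : List (ℕ × F))
    (hw : ∀ p ∈ w, p.1 < D.nroots ∧ (k : ℤ) ≤ fJ D W J p.1) {s : ℕ} (hs : s < D.nroots)
    (hsk : fJ D W J s = (k : ℤ)) (i : Fin D.rank) :
    (D.wordMat F w) (Sum.inl i) (Sum.inr ⟨D.neg s, hG.toGood1.neg_lt hs⟩) =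
      e8c_coeffSum w s * ((cr D s i.val : ℤ) : F) := by
  obtain ⟨k', rfl⟩ : ∃ k', k = k' + 1 := ⟨k - 1, by omega⟩
  exact e8c_entry_word_succ hG J k' w hw hs hsk i

include hG in
/-- **A1**, with the entry of `x_s(1)` in place of the coroot coordinate. -/
theorem e8c_entry_word' (J : Set ℕ) {k : ℕ} (hk : 1 ≤ k) (w : List (ℕ × F))
    (hw : ∀ p ∈ w, p.1 < D.nroots ∧ (k : ℤ) ≤ fJ D W J p.1) {s : ℕ} (hs : s < D.nroots)
    (hsk : fJ D W J s = (k : ℤ)) (i : Fin D.rank) :
    (D.wordMat F w) (Sum.inl i) (Sum.inr ⟨D.neg s, hG.toGood1.neg_lt hs⟩) =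
      e8c_coeffSum w s *
        (D.x F s 1) (Sum.inl i) (Sum.inr ⟨D.neg s, hG.toGood1.neg_lt hs⟩) := by
  rw [e8c_entry_word hG J hk w hw hs hsk i, e8c_x_inl_inr_neg hG.toGood1 hs 1 i, mul_one]

end

end Cfsg.Agent.E8C
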