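import Mathlib
import Cfsg.Agent.E8C.Assemble2

/-!
# Transfer of the assembly of S5751 from an ambient group `X` to a subgroup `Grp ≤ X`

All hypotheses are about subgroups of the ambient group `X` (in the application `X = GL`), except the coatom
property, which is about `P.subgroupOf Grp`.
-/

set_option autoImplicit false

namespace Cfsg.Agent.E8C

/-- **Assembly inside a subgroup `Grp` of an ambient group `X`.** -/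
theorem e8c_transfer {X : Type} [Group X] (Grp P : Subgroup X) (g : X) (Q : ℕ → Subgroup X)
    (hPG : P ≤ Grp) (hgG : g ∈ Grp)
    (hco : IsCoatom (P.subgroupOf Grp)) (hg2 : g * g = 1)
    (hQ1 : Q 1 ≤ P) (hQanti : ∀ k, Q (k + 1) ≤ Q k)
    (hQnorm : ∀ k, 1 ≤ k → ∀ p ∈ P, ∀ x ∈ Q k, p * x * p⁻¹ ∈ Q k)
    (hQshift : ∀ k, 1 ≤ k → ∀ x ∈ Q (k + 1), g * x * g⁻¹ ∈ Q k)
    (hQ7 : Q 7 = ⊥) (hQ6 : Q 6 ≠ ⊥)
    (hbase : ∀ N : Subgroup X, N ≤ P → (∀ p ∈ P, ∀ x ∈ N, p * x * p⁻¹ ∈ N) →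
      (∀ x ∈ N, g⁻¹ * x * g ∈ P) → N ≤ Q 1)
    (hstep1 : ∀ N : Subgroup X, N ≤ Q 1 → (∀ p ∈ P, ∀ x ∈ N, p * x * p⁻¹ ∈ N) →
      (∀ x ∈ N, g⁻¹ * x * g ∈ P) → N ≤ Q 2)
    (hstep : ∀ k, 2 ≤ k → ∀ N : Subgroup X, N ≤ Q k → (∀ p ∈ P, ∀ x ∈ N, p * x * p⁻¹ ∈ N) →
      (∀ x ∈ N, g⁻¹ * x * g ∈ Q k) → N ≤ Q (k + 1)) :
    ∃ (M₁ M₂ : Subgroup ↥Grp) (g : ↥Grp) (A B : ℕ → Subgroup ↥Grp),
      IsCoatom M₁ ∧ M₂ = M₁.map (MulAut.conj g).toMonoidHom ∧ M₁ ≠ M₂ ∧ M₁.normalCore = ⊥ ∧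
      A 0 = M₁ ∧ B 0 = M₂ ∧
      (∀ i, A (i + 1) = ((A i ⊓ B i).subgroupOf M₁).normalCore.map M₁.subtype) ∧
      (∀ i, B (i + 1) = ((A i ⊓ B i).subgroupOf M₂).normalCore.map M₂.subtype) ∧
      A 6 = ⊥ ∧ A 5 ≠ ⊥ := by
  -- generic facts on `map subtype`
  have hup : ∀ (N : Subgroup ↥Grp) (H : Subgroup X), N ≤ H.subgroupOf Grp ↔ N.map Grp.subtype ≤ H := by
    intro N H
    constructor
    · rintro h _ ⟨y, hy, rfl⟩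
      exact Subgroup.mem_subgroupOf.1 (h hy)
    · intro h y hy
      exact Subgroup.mem_subgroupOf.2 (h ⟨y, hy, rfl⟩)
  have hnorm : ∀ (N : Subgroup ↥Grp),
      (∀ p ∈ P.subgroupOf Grp, ∀ x ∈ N, p * x * p⁻¹ ∈ N) →
      ∀ p ∈ P, ∀ x ∈ N.map Grp.subtype, p * x * p⁻¹ ∈ N.map Grp.subtype := by
    rintro N h p hp _ ⟨y, hy, rfl⟩
    exact ⟨⟨p, hPG hp⟩ * y * ⟨p, hPG hp⟩⁻¹, h ⟨p, hPG hp⟩ (Subgroup.mem_subgroupOf.2 hp) y hy, rfl⟩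
  have hgc : ∀ (N : Subgroup ↥Grp) (H : Subgroup X),
      (∀ x ∈ N, (⟨g, hgG⟩ : ↥Grp)⁻¹ * x * ⟨g, hgG⟩ ∈ H.subgroupOf Grp) →
      ∀ x ∈ N.map Grp.subtype, g⁻¹ * x * g ∈ H := by
    rintro N H h _ ⟨y, hy, rfl⟩
    exact Subgroup.mem_subgroupOf.1 (h y hy)
  refine e8c_assemble' (G := ↥Grp) (P.subgroupOf Grp) ⟨g, hgG⟩ (fun k => (Q k).subgroupOf Grp) hco ?_ ?_ ?_ ?_ ?_
    ?_ ?_ ?_ ?_ ?_
  · exact Subtype.ext hg2
  · exact fun x hx => Subgroup.mem_subgroupOf.2 (hQ1 (Subgroup.mem_subgroupOf.1 hx))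
  · exact fun k x hx => Subgroup.mem_subgroupOf.2 (hQanti k (Subgroup.mem_subgroupOf.1 hx))
  · intro k hk p hp x hx
    exact Subgroup.mem_subgroupOf.2
      (hQnorm k hk p (Subgroup.mem_subgroupOf.1 hp) x (Subgroup.mem_subgroupOf.1 hx))
  · intro k hk x hx
    exact Subgroup.mem_subgroupOf.2 (hQshift k hk x (Subgroup.mem_subgroupOf.1 hx))
  · show (Q 7).subgroupOf Grp = ⊥
    rw [hQ7, eq_bot_iff]
    intro x hx
    have h1 : (x : X) = 1 := by simpa [Subgroup.mem_subgroupOf] using hx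
    rw [Subgroup.mem_bot]
    exact Subtype.ext h1
  · show (Q 6).subgroupOf Grp ≠ ⊥
    intro h
    apply hQ6
    rw [eq_bot_iff]
    intro x hx
    have hxG : x ∈ Grp := hPG (hQ1 ((Nat.rec (motive := fun n => Q (1 + n) ≤ Q 1) le_rfl
      (fun n ih => (hQanti (1 + n)).trans ih) 5) hx))
    have : (⟨x, hxG⟩ : ↥Grp) ∈ (Q 6).subgroupOf Grp := Subgroup.mem_subgroupOf.2 hx
    rw [h, Subgroup.mem_bot] at this
    rw [Subgroup.mem_bot]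
    exact congrArg Subtype.val this
  · intro N hNP hN hg
    exact (hup N (Q 1)).2 (hbase _ ((hup N P).1 hNP) (hnorm N hN) (hgc N P hg))
  · intro N hNQ hN hg
    exact (hup N (Q 2)).2 (hstep1 _ ((hup N (Q 1)).1 hNQ) (hnorm N hN) (hgc N P hg))
  · intro k hk N hNQ hN hg
    exact (hup N (Q (k + 1))).2 (hstep k hk _ ((hup N (Q k)).1 hNQ) (hnorm N hN) (hgc N (Q k) hg))

end Cfsg.Agent.E8C
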