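import Mathlib
import Cfsg.Agent.E8C.Defs
import Cfsg.Agent.E8C.Transfer

/-!
# S5751: the final reduction, with the E8 inputs as explicit hypotheses

`e8c_final` applies `e8c_transfer` to `X = GL`, `Grp = chevE8.group (ZMod 2)`, `P = e8c_PGL`, `g = e8c_gGL`,
`Q = e8c_QGL`.
-/

set_option autoImplicit false

namespace Cfsg.Agent.E8C

open Cfsg Cfsg.Lie Cfsg.Agent.Helper7 Cfsg.Agent.Helper7.Chev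

theorem e8c_PGL_le_group : e8c_PGL ≤ chevE8.group (ZMod 2) := by
  unfold e8c_PGL ChevalleyDatum.parabolicSubgroup
  apply sup_le e8c_BGL_le_group
  rw [Subgroup.closure_le]
  rintro g ⟨j, _, hj, hg⟩
  apply monomialSubgroup_le_group e8c_good1
  exact Subgroup.mem_sup_right
    (Subgroup.subset_closure ⟨chevE8.simple j, e8c_good1.simple_lt hj, hg⟩)

/-- The statement of S5751 inside `e8c_G`, from the E8 inputs. -/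
theorem e8c_final
    (hco : IsCoatom (e8c_PGL.subgroupOf (chevE8.group (ZMod 2))))
    (hg2 : e8c_gGL * e8c_gGL = 1)
    (hQnorm : ∀ k, 1 ≤ k → ∀ p ∈ e8c_PGL, ∀ x ∈ e8c_QGL k, p * x * p⁻¹ ∈ e8c_QGL k)
    (hQshift : ∀ k, 1 ≤ k → ∀ x ∈ e8c_QGL (k + 1), e8c_gGL * x * e8c_gGL⁻¹ ∈ e8c_QGL k)
    (hQ7 : e8c_QGL 7 = ⊥) (hQ6 : e8c_QGL 6 ≠ ⊥)
    (hbaseA : ∀ N : Subgroup e8c_GL, N ≤ e8c_PGL → (∀ p ∈ e8c_PGL, ∀ x ∈ N, p * x * p⁻¹ ∈ N) →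
      (∀ x ∈ N, e8c_gGL⁻¹ * x * e8c_gGL ∈ e8c_PGL) → N ≤ e8c_BGL)
    (hBU : e8c_BGL ≤ e8c_UGL)
    (hbaseB : ∀ N : Subgroup e8c_GL, N ≤ e8c_UGL → (∀ p ∈ e8c_PGL, ∀ x ∈ N, p * x * p⁻¹ ∈ N) →
      N ≤ e8c_QGL 1)
    (hstep1 : ∀ N : Subgroup e8c_GL, N ≤ e8c_QGL 1 → (∀ p ∈ e8c_PGL, ∀ x ∈ N, p * x * p⁻¹ ∈ N) →
      (∀ x ∈ N, e8c_gGL⁻¹ * x * e8c_gGL ∈ e8c_PGL) → N ≤ e8c_QGL 2)
    (hstep : ∀ k, 2 ≤ k → ∀ N : Subgroup e8c_GL, N ≤ e8c_QGL k →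
      (∀ p ∈ e8c_PGL, ∀ x ∈ N, p * x * p⁻¹ ∈ N) →
      (∀ x ∈ N, e8c_gGL⁻¹ * x * e8c_gGL ∈ e8c_QGL k) → N ≤ e8c_QGL (k + 1)) :
    ∃ (M₁ M₂ : Subgroup e8c_G) (g : e8c_G) (A B : ℕ → Subgroup e8c_G),
      IsCoatom M₁ ∧ M₂ = M₁.map (MulAut.conj g).toMonoidHom ∧ M₁ ≠ M₂ ∧ M₁.normalCore = ⊥ ∧
      A 0 = M₁ ∧ B 0 = M₂ ∧
      (∀ i, A (i + 1) = ((A i ⊓ B i).subgroupOf M₁).normalCore.map M₁.subtype) ∧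
      (∀ i, B (i + 1) = ((A i ⊓ B i).subgroupOf M₂).normalCore.map M₂.subtype) ∧
      A 6 = ⊥ ∧ A 5 ≠ ⊥ :=
  e8c_transfer (chevE8.group (ZMod 2)) e8c_PGL e8c_gGL e8c_QGL e8c_PGL_le_group e8c_gGL_mem hco hg2
    (e8c_QGL_le_PGL 1) e8c_QGL_anti hQnorm hQshift hQ7 hQ6
    (fun N hNP hN hg => hbaseB N ((hbaseA N hNP hN hg).trans hBU) hN) hstep1 hstep

end Cfsg.Agent.E8C
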