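import Mathlib
import Cfsg.Agent.E8C.Defs

/-!
# S5751: `g * g = 1` for `g = n₃` over the field with two elements
-/

set_option autoImplicit false

namespace Cfsg.Agent.E8C

open Cfsg Cfsg.Lie Cfsg.Agent.Helper7.Chev

/-- The Weyl element of `SL₂(𝔽₂)` is an involution. -/
theorem e8c_gsq_antiSL :
    (antiSL : Matrix.SpecialLinearGroup (Fin 2) (ZMod 2)) * antiSL = 1 := by
  decide

/-- `hg2` of `e8c_final`. -/
theorem e8c_gsq : e8c_gGL * e8c_gGL = 1 := by
  unfold e8c_gGL nGL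
  rw [← map_mul, e8c_gsq_antiSL, map_one]

/-- consequently `g⁻¹ = g`. -/
theorem e8c_gsq_inv : e8c_gGL⁻¹ = e8c_gGL := inv_eq_of_mul_eq_one_left e8c_gsq

end Cfsg.Agent.E8C
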