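import Mathlib
import Cfsg.Agent.E8C.Defs
import Cfsg.Agent.Helper7.ChevBN
import Cfsg.Agent.Helper7.ChevT5
import Cfsg.Agent.Helper7.ChevT6
import Cfsg.Agent.Helper7.ChevT7
import Cfsg.Agent.Helper7.ChevT9

set_option autoImplicit false

/-!
# S5751 (swarm E8C): the `(B, N)`-pair of `E₈(2)` and the identification of `P` (helper8)

The `(B, N)`-pair of `E₈(2)` from `Helper7.Chev.exists_bnPair`, with `B = e8c_B`, `S` the set of the
`n_i`; `e8c_g ∈ S`, and the maximal parabolic subgroup `P_{S ∖ {g}}` of the pair is `e8c_P`.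
-/

namespace Cfsg.Agent.E8C

open Cfsg Cfsg.Lie Matrix Cfsg.Agent.Helper7 Cfsg.Agent.Helper7.Chev

/-- the `(B, N)`-pair of `E₈(2)` -/
theorem e8c_parid_exists_bnPair :
    ∃ P : Cfsg.BNPair e8c_G, P.B = e8c_B ∧
      P.N = (chevE8.monomialSubgroup (ZMod 2)).subgroupOf (chevE8.group (ZMod 2)) ∧
      P.S = {n : e8c_G | ∃ i < chevE8.rank,
        ((n : e8c_GL) : Matrix chevE8.Idx chevE8.Idx (ZMod 2)) =
          chevE8.nMat (ZMod 2) (chevE8.simple i) 1} :=
  exists_bnPair (F := ZMod 2) good3_E8.toGood2 T0_E8 good3_E8.t3 good3_E8.t4 T5_E8 T6_E8 T8_E8 T9_E8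

/-- distinct nodes give distinct `n_i` -/
theorem e8c_parid_nMat_inj {i j : ℕ} (hi : i < chevE8.rank) (hj : j < chevE8.rank)
    (h : chevE8.nMat (ZMod 2) (chevE8.simple i) 1 = chevE8.nMat (ZMod 2) (chevE8.simple j) 1) :
    i = j := by
  by_contra hij
  have h1 := nGL_inv_mul_not_mem_borel (F := ZMod 2) good3_E8.toGood2 T0_E8 T6_E8 T8_E8 T9_E8
    hi hj hij
  apply h1
  have hG1 := good3_E8.toGood2.toGood1
  have e : nGL hG1 (hG1.simple_lt hi) = (nGL hG1 (hG1.simple_lt hj) : GL chevE8.Idx (ZMod 2)) := by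
    apply Units.ext
    rw [nGL_coe, nGL_coe]
    exact h
  rw [e, inv_mul_cancel]
  exact Subgroup.one_mem _

variable (P : Cfsg.BNPair e8c_G)

/-- `g = n₃` is one of the distinguished generators -/
theorem e8c_parid_g_mem_S
    (hS : P.S = {n : e8c_G | ∃ i < chevE8.rank,
      ((n : e8c_GL) : Matrix chevE8.Idx chevE8.Idx (ZMod 2)) =
        chevE8.nMat (ZMod 2) (chevE8.simple i) 1}) : e8c_g ∈ P.S := by
  rw [hS]
  exact ⟨3, e8c_three_lt, e8c_gGL_coe⟩

/-- the generators other than `g` are the `n_i`, `i ≠ 3` -/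
theorem e8c_parid_mem_diff
    (hS : P.S = {n : e8c_G | ∃ i < chevE8.rank,
      ((n : e8c_GL) : Matrix chevE8.Idx chevE8.Idx (ZMod 2)) =
        chevE8.nMat (ZMod 2) (chevE8.simple i) 1}) (n : e8c_G) :
    n ∈ P.S \ {e8c_g} ↔ ∃ i ∈ e8c_J, i < chevE8.rank ∧
      ((n : e8c_GL) : Matrix chevE8.Idx chevE8.Idx (ZMod 2)) =
        chevE8.nMat (ZMod 2) (chevE8.simple i) 1 := by
  rw [hS]
  constructor
  · rintro ⟨⟨i, hi, hn⟩, hne⟩
    refine ⟨i, ?_, hi, hn⟩
    intro h3
    have h3' : i = 3 := h3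
    apply hne
    rw [Set.mem_singleton_iff]
    apply Subtype.ext
    apply Units.ext
    rw [hn, h3']
    exact e8c_gGL_coe.symm
  · rintro ⟨i, hiJ, hi, hn⟩
    refine ⟨⟨i, hi, hn⟩, ?_⟩
    intro h
    rw [Set.mem_singleton_iff] at h
    apply hiJ
    have h1 : ((n : e8c_GL) : Matrix chevE8.Idx chevE8.Idx (ZMod 2)) =
        chevE8.nMat (ZMod 2) (chevE8.simple 3) 1 := by
      rw [h]
      exact e8c_gGL_coe
    exact e8c_parid_nMat_inj hi e8c_three_lt (hn.symm.trans h1)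

/-- **the maximal parabolic subgroup of the pair is `e8c_P`** -/
theorem e8c_parid (hB : P.B = e8c_B)
    (hS : P.S = {n : e8c_G | ∃ i < chevE8.rank,
      ((n : e8c_GL) : Matrix chevE8.Idx chevE8.Idx (ZMod 2)) =
        chevE8.nMat (ZMod 2) (chevE8.simple i) 1}) :
    P.parabolic (P.S \ {e8c_g}) = e8c_P := by
  have hG1 := good3_E8.toGood2.toGood1
  have hBG : chevE8.borelSubgroup (ZMod 2) ≤ chevE8.group (ZMod 2) := borelSubgroup_le_group hG1
  have hNG : chevE8.monomialSubgroup (ZMod 2) ≤ chevE8.group (ZMod 2) :=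
    monomialSubgroup_le_group hG1
  -- the generators inside `GL`
  set T : Set e8c_GL := {g | ∃ j ∈ e8c_J, j < chevE8.rank ∧
    (g : Matrix chevE8.Idx chevE8.Idx (ZMod 2)) = chevE8.nMat (ZMod 2) (chevE8.simple j) 1} with hT
  have hTN : T ⊆ (chevE8.monomialSubgroup (ZMod 2) : Set e8c_GL) := by
    rintro g ⟨j, _, hj, hg⟩
    exact Subgroup.mem_sup_right (Subgroup.subset_closure ⟨chevE8.simple j, hG1.simple_lt hj, hg⟩)
  have hTG : Subgroup.closure T ≤ chevE8.group (ZMod 2) := by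
    rw [Subgroup.closure_le]
    exact fun g hg => hNG (hTN hg)
  have himg : (chevE8.group (ZMod 2)).subtype '' (P.S \ {e8c_g}) = T := by
    ext y
    constructor
    · rintro ⟨n, hn, rfl⟩
      exact (e8c_parid_mem_diff P hS n).mp hn
    · intro hy
      refine ⟨⟨y, hNG (hTN hy)⟩, (e8c_parid_mem_diff P hS _).mpr hy, rfl⟩
  have hcl : (Subgroup.closure T).subgroupOf (chevE8.group (ZMod 2))
      = Subgroup.closure (P.S \ {e8c_g}) := by
    rw [← himg, ← MonoidHom.map_closure]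
    exact Subgroup.comap_map_eq_self_of_injective (Subgroup.subtype_injective _) _
  unfold BNPair.parabolic
  rw [hB, ← hcl]
  unfold e8c_B e8c_BGL e8c_P e8c_PGL ChevalleyDatum.parabolicSubgroup
  rw [Subgroup.subgroupOf_sup hBG hTG]

end Cfsg.Agent.E8C
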