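import Mathlib
import Cfsg.Agent.E8C.EntryWord
import Cfsg.Agent.E8C.Defs
import Cfsg.Agent.Helper7.ChevUnique

set_option autoImplicit false
set_option linter.unusedSectionVars false
set_option linter.unusedVariables false

/-!
# S5751 (swarm "E8C"), helper1: the coefficient lemma (A2) and `Q_7 = ⊥`

* `e8c_qc_gr0`: the level-preserving part of a matrix; it is multiplicative on the matrices which do not
  lower the level.
* `e8c_qc_coeff_zero` (A2): if `u = ∏ x_r(T r)` (ordered product over the positive roots) lies in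
  `UTk (lvlJ D W J) k`, then `T r = 0` for every positive root `r` of level `fJ r ≤ k`
  (under `hodd`: every coroot has a coordinate which is non-zero in `F`).
* `e8c_qc_Q7_of_hodd`: `Q_7 = ⊥` for `E₈(2)` from `hodd` and the bound `level ≤ 6`.
-/

namespace Cfsg.Agent.E8C

open Cfsg Cfsg.Lie Matrix Cfsg.Agent.Helper7 Cfsg.Agent.Helper7.Chev Cfsg.Agent.Helper7.Tri

section gr0

variable {ι : Type*} [Fintype ι] [DecidableEq ι] {F : Type*} [Field F] (lvl : ι → ℕ)

/-- the level-preserving part of a matrix -/
def e8c_qc_gr0 (A : Matrix ι ι F) : Matrix ι ι F := fun i j => if lvl i = lvl j then A i j else 0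

theorem e8c_qc_gr0_mul {A B : Matrix ι ι F} (hA : Raises lvl 0 A) (hB : Raises lvl 0 B) :
    e8c_qc_gr0 lvl (A * B) = e8c_qc_gr0 lvl A * e8c_qc_gr0 lvl B := by
  ext i j
  simp only [e8c_qc_gr0, Matrix.mul_apply]
  by_cases hij : lvl i = lvl j
  · rw [if_pos hij]
    apply Finset.sum_congr rfl
    intro l _
    by_cases hl : lvl i = lvl l
    · rw [if_pos hl, if_pos (hl.symm.trans hij)]
    · rw [if_neg hl, zero_mul]
      by_contra h
      have h1 : A i l ≠ 0 := left_ne_zero_of_mul h
      have h2 : B l j ≠ 0 := right_ne_zero_of_mul h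
      have h3 := hA i l h1
      have h4 := hB l j h2
      omega
  · rw [if_neg hij]
    symm
    apply Finset.sum_eq_zero
    intro l _
    by_cases hl : lvl i = lvl l
    · rw [if_pos hl]
      have : ¬ lvl l = lvl j := fun h => hij (hl.trans h)
      rw [if_neg this, mul_zero]
    · rw [if_neg hl, zero_mul]

theorem e8c_qc_gr0_of_levelPres {A : Matrix ι ι F} (hA : LevelPres lvl A) :
    e8c_qc_gr0 lvl A = A := by
  ext i j
  simp only [e8c_qc_gr0]
  by_cases hij : lvl i = lvl j
  · rw [if_pos hij]
  · rw [if_neg hij]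
    by_contra h
    exact hij (hA i j (Ne.symm h))

theorem e8c_qc_gr0_of_raises_one {A : Matrix ι ι F} (hA : Raises lvl 1 (A - 1)) :
    e8c_qc_gr0 lvl A = 1 := by
  ext i j
  simp only [e8c_qc_gr0]
  by_cases hij : lvl i = lvl j
  · rw [if_pos hij]
    by_cases h : i = j
    · subst h
      rw [Matrix.one_apply_eq]
      by_contra hne
      have h1 : (A - 1) i i ≠ 0 := by
        rw [Matrix.sub_apply, Matrix.one_apply_eq]; exact sub_ne_zero.mpr hne
      have := hA i i h1
      omega
    · rw [Matrix.one_apply_ne h]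
      by_contra hne
      have h1 : (A - 1) i j ≠ 0 := by
        rw [Matrix.sub_apply, Matrix.one_apply_ne h, sub_zero]; exact hne
      have := hA i j h1
      omega
  · rw [if_neg hij]
    have : i ≠ j := fun h => hij (by rw [h])
    rw [Matrix.one_apply_ne this]

end gr0

variable {D : ChevalleyDatum} {F : Type*} [Field F]

theorem e8c_qc_x_zero (r : ℕ) : D.x F r (0 : F) = 1 := by
  unfold ChevalleyDatum.x
  split_ifs with h
  · exact xMat_zero D ⟨r, h⟩
  · rfl

/-- letters with parameter zero can be left out -/
theorem e8c_qc_wordMat_map_filter (L : List ℕ) (T : ℕ → F) (p : ℕ → Bool)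
    (h : ∀ r ∈ L, p r = false → T r = 0) :
    D.wordMat F (L.map fun r => (r, T r)) = D.wordMat F ((L.filter p).map fun r => (r, T r)) := by
  induction L with
  | nil => rfl
  | cons r L ih =>
    have ih' := ih (fun r' hr' => h r' (List.mem_cons_of_mem _ hr'))
    rw [List.map_cons, wordMat_cons]
    by_cases hp : p r = true
    · rw [List.filter_cons_of_pos hp, List.map_cons, wordMat_cons, ih']
    · have hp' : p r = false := by simpa using hp
      rw [List.filter_cons_of_neg hp, h r List.mem_cons_self hp']
      change D.x F r 0 * _ = _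
      rw [e8c_qc_x_zero, one_mul, ih']

theorem e8c_qc_wordMat_zero (L : List ℕ) :
    D.wordMat F (L.map fun r => (r, (0 : F))) = 1 := by
  induction L with
  | nil => exact wordMat_nil
  | cons r L ih =>
    rw [List.map_cons, wordMat_cons, ih, mul_one]
    exact e8c_qc_x_zero r

theorem e8c_qc_coeffSum_map (T : ℕ → F) (L : List ℕ) (hL : L.Nodup) (s : ℕ) :
    e8c_coeffSum (L.map fun r => (r, T r)) s = if s ∈ L then T s else 0 := by
  induction L with
  | nil => simp [e8c_coeffSum_nil]
  | cons a L ih =>
    rw [List.map_cons, e8c_coeffSum_cons, ih (List.Nodup.of_cons hL)]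
    have ha : a ∉ L := (List.nodup_cons.mp hL).1
    by_cases h : a = s
    · subst h
      simp [ha]
    · have h' : ¬ s = a := fun e => h e.symm
      simp [h, h']

section main

variable (hG : Good2 D) (hT : T0 D) (h8 : (tabOf D).T8) {W : List (List ℤ)} (h16 : (tabOf D).T16 W)

include hG in
theorem e8c_qc_raises_zero_x (J : Set ℕ) {r : ℕ} (hr : r < D.nroots) (h0 : 0 ≤ fJ D W J r) (t : F) :
    Raises (lvlJ D W J) 0 (D.x F r t) := by
  have h1 := e8c_fc_raises_x (W := W) hG J hr (k := 0) (by simpa using h0) t
  have e : D.x F r t = (D.x F r t - 1) + 1 := by abel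
  rw [e]
  exact h1.add Raises.one

include hG in
/-- the level-preserving part of a word in root elements of non-negative level -/
theorem e8c_qc_gr0_word (J : Set ℕ) (T : ℕ → F) (L : List ℕ)
    (hL : ∀ r ∈ L, r < D.nroots ∧ 0 ≤ fJ D W J r) :
    Raises (lvlJ D W J) 0 (D.wordMat F (L.map fun r => (r, T r))) ∧
    e8c_qc_gr0 (lvlJ D W J) (D.wordMat F (L.map fun r => (r, T r))) =
      D.wordMat F (L.map fun r => (r, if fJ D W J r = 0 then T r else 0)) := by
  induction L with
  | nil =>
    refine ⟨?_, ?_⟩
    · rw [List.map_nil, wordMat_nil]; exact Raises.one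
    · rw [List.map_nil, List.map_nil, wordMat_nil]
      exact e8c_qc_gr0_of_levelPres _ (LevelPres.one _)
  | cons r L ih =>
    obtain ⟨ih1, ih2⟩ := ih (fun r' hr' => hL r' (List.mem_cons_of_mem _ hr'))
    obtain ⟨hr, hr0⟩ := hL r List.mem_cons_self
    have hx := e8c_qc_raises_zero_x (W := W) hG J hr hr0 (T r)
    rw [List.map_cons, List.map_cons, wordMat_cons, wordMat_cons]
    refine ⟨by simpa using Raises.mul hx ih1, ?_⟩
    rw [e8c_qc_gr0_mul _ hx ih1, ih2]
    congr 1
    by_cases h0 : fJ D W J r = 0
    · simp only [h0, if_true]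
      exact e8c_qc_gr0_of_levelPres _ (levelPres_x (W := W) hG J hr h0 (T r))
    · simp only [if_neg h0]
      change _ = D.x F r 0
      rw [e8c_qc_x_zero]
      apply e8c_qc_gr0_of_raises_one
      apply raises_x (W := W) hG J hr _ (T r)
      omega

include hG hT h8 h16 in
/-- **A2**: the coefficients of the levels `≤ k` of an element of `U ⊓ UTk k` vanish. -/
theorem e8c_qc_coeff_zero (J : Set ℕ) (k : ℕ) (T : ℕ → F) (u : GL D.Idx F)
    (hu : (u : Matrix D.Idx D.Idx F) = D.wordMat F (D.posRoots.map fun r => (r, T r)))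
    (huk : u ∈ UTk F (lvlJ D W J) k)
    (hodd : ∀ s, D.IsPosRoot s → ∃ i : Fin D.rank, ((cr D s i.val : ℤ) : F) ≠ 0) :
    ∀ r, D.IsPosRoot r → fJ D W J r ≤ (k : ℤ) → T r = 0 := by
  have hG1 := hG.toGood1
  have hposmem : ∀ r, r ∈ D.posRoots ↔ D.IsPosRoot r := by
    intro r
    unfold ChevalleyDatum.posRoots
    rw [List.mem_filter, decide_eq_true_eq, List.mem_range]
    exact ⟨fun h => h.2, fun h => ⟨h.1, h⟩⟩
  have hnodup : D.posRoots.Nodup := by
    unfold ChevalleyDatum.posRoots
    exact List.Nodup.filter _ List.nodup_range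
  have hpos0 : ∀ r, D.IsPosRoot r → r < D.nroots ∧ 0 ≤ fJ D W J r := by
    intro r hr
    exact ⟨hr.1, fJ_nonneg (W := W) h16 J hr.1 ((isPosRoot_iff hT hr.1).mp hr)⟩
  have hraise : Raises (lvlJ D W J) (k + 1) ((u : Matrix D.Idx D.Idx F) - 1) := by
    have h := huk
    rw [mem_UTk] at h
    exact h
  -- main claim by strong induction on the level
  have key : ∀ m : ℕ, m ≤ k → ∀ r, D.IsPosRoot r → fJ D W J r = (m : ℤ) → T r = 0 := by
    intro m
    induction m using Nat.strong_induction_on with
    | _ m ih =>
      intro hmk r hr hrm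
      rcases Nat.eq_zero_or_pos m with hm0 | hmpos
      · -- level `0`
        subst hm0
        obtain ⟨-, hgr⟩ := e8c_qc_gr0_word (W := W) hG J T D.posRoots
          (fun r' hr' => hpos0 r' ((hposmem r').mp hr'))
        rw [← hu] at hgr
        have h1 : e8c_qc_gr0 (lvlJ D W J) (u : Matrix D.Idx D.Idx F) = 1 :=
          e8c_qc_gr0_of_raises_one _ (hraise.mono (by omega))
        rw [h1] at hgr
        have h2 : D.wordMat F (D.posRoots.map fun r => (r, (0 : F))) = 1 := e8c_qc_wordMat_zero _
        rw [← h2, posRoots_eq hT] at hgr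
        have h3 := word_unique hG hT h8 (D.nroots - D.nroots / 2) (D.nroots / 2)
          (by have := Nat.div_le_self D.nroots 2; omega) le_rfl (fun _ => (0 : F))
          (fun r => if fJ D W J r = 0 then T r else 0) hgr r
          (by rw [← posRoots_eq hT]; exact (hposmem r).mpr hr)
        rw [if_pos (by simpa using hrm)] at h3
        exact h3.symm
      · -- level `m = m' + 1`
        obtain ⟨m', rfl⟩ : ∃ m', m = m' + 1 := ⟨m - 1, by omega⟩
        set p : ℕ → Bool := fun r => decide (((m' + 1 : ℕ) : ℤ) ≤ fJ D W J r) with hp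
        have hfil : ∀ r' ∈ D.posRoots, p r' = false → T r' = 0 := by
          intro r' hr' hpr
          have hr'pos := (hposmem r').mp hr'
          have hlt : fJ D W J r' < ((m' + 1 : ℕ) : ℤ) := by
            by_contra hcon
            have : p r' = true := by
              rw [hp]; exact decide_eq_true (not_lt.mp hcon)
            rw [this] at hpr
            exact Bool.noConfusion hpr
          have h0 := (hpos0 r' hr'pos).2
          have e : fJ D W J r' = ((fJ D W J r').toNat : ℤ) := (Int.toNat_of_nonneg h0).symm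
          exact ih (fJ D W J r').toNat (by omega) (by omega) r' hr'pos e
        have hw := e8c_qc_wordMat_map_filter (D := D) D.posRoots T p hfil
        set w : List (ℕ × F) := (D.posRoots.filter p).map fun r => (r, T r) with hwdef
        have hwprop : ∀ q ∈ w, q.1 < D.nroots ∧ ((m' + 1 : ℕ) : ℤ) ≤ fJ D W J q.1 := by
          intro q hq
          rw [hwdef, List.mem_map] at hq
          obtain ⟨r', hr', rfl⟩ := hq
          rw [List.mem_filter] at hr'
          refine ⟨((hposmem r').mp hr'.1).1, ?_⟩
          have := hr'.2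
          rw [hp] at this
          exact of_decide_eq_true this
        obtain ⟨i, hi⟩ := hodd r hr
        have hent := e8c_entry_word_succ (W := W) hG J m' w hwprop hr.1 hrm i
        have hcs : e8c_coeffSum w r = T r := by
          rw [hwdef, e8c_qc_coeffSum_map T _ (List.Nodup.filter _ hnodup)]
          rw [if_pos]
          rw [List.mem_filter]
          refine ⟨(hposmem r).mpr hr, ?_⟩
          rw [hp]
          exact decide_eq_true (le_of_eq hrm.symm)
        rw [hcs, ← hw, ← hu] at hent
        -- the entry of `u` vanishes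
        have hlv := e8c_fc_lvl_inr_sub_inl (D := D) (W := W) J i ⟨D.neg r, hG1.neg_lt hr.1⟩
        rw [fJ_neg (W := W) hG J hr.1, hrm] at hlv
        have hz : ((u : Matrix D.Idx D.Idx F) - 1) (Sum.inl i) (Sum.inr ⟨D.neg r, hG1.neg_lt hr.1⟩) = 0 := by
          apply e8c_raises_entry_eq_zero hraise
          push_cast at hlv
          omega
        rw [Matrix.sub_apply, Matrix.one_apply_ne (by simp), sub_zero] at hz
        rw [hz] at hent
        rcases mul_eq_zero.mp hent.symm with h | h
        · exact h
        · exact (hi h).elim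
  intro r hr hrk
  have h0 := (hpos0 r hr).2
  have e : fJ D W J r = ((fJ D W J r).toNat : ℤ) := (Int.toNat_of_nonneg h0).symm
  exact key (fJ D W J r).toNat (by omega) r hr e

end main

end Cfsg.Agent.E8C
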