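import Mathlib
import Cfsg.Agent.E8C.QCor
import Cfsg.Agent.E8C.QFactsA
import Cfsg.Agent.Helper7.ChevUnique
import Cfsg.Agent.Helper7.ChevT7
import Cfsg.Agent.Helper7.ChevT3E8

set_option autoImplicit false
set_option linter.unusedSectionVars false
set_option linter.unusedVariables false

/-!
# S5751 (swarm "E8C"), helper1: `Q_7 = ⊥` for `E₈(2)`, and the word form of the elements of `Q_{k+1}`
-/

namespace Cfsg.Agent.E8C

open Cfsg Cfsg.Lie Matrix Cfsg.Agent.Helper7 Cfsg.Agent.Helper7.Chev Cfsg.Agent.Helper7.Tri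

set_option maxRecDepth 100000 in
/-- every root of `E₈` has level at most `6` -/
theorem e8c_qc7_lev_le_aux : ∀ r < 240, fastE8.wt wtMatE8 3 r ≤ 6 := by decide +kernel

theorem e8c_qc7_lev_le (r : ℕ) (hr : r < chevE8.nroots) : fJ chevE8 wtMatE8 e8c_J r ≤ 6 := by
  have e : e8c_J = {j | j ≠ 3} := rfl
  rw [e, e8c_qf_fJ_E8]
  exact e8c_qc7_lev_le_aux r hr

set_option maxRecDepth 100000 in
/-- every coroot of `E₈` has an odd coordinate -/
theorem e8c_qc7_hodd_aux : ∀ s < 240, ∃ i < 8, ¬ (2 : ℤ) ∣ cr chevE8 s i := by decide +kernel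

/-- `hodd` for `E₈` over `ZMod 2` -/
theorem e8c_qc7_hodd :
    ∀ s, chevE8.IsPosRoot s → ∃ i : Fin chevE8.rank, ((cr chevE8 s i.val : ℤ) : ZMod 2) ≠ 0 := by
  intro s hs
  obtain ⟨i, hi, hdiv⟩ := e8c_qc7_hodd_aux s hs.1
  refine ⟨⟨i, hi⟩, ?_⟩
  intro h0
  apply hdiv
  have := (ZMod.intCast_zmod_eq_zero_iff_dvd (cr chevE8 s i) 2).mp h0
  exact_mod_cast this

/-- the word form of the elements of `U ⊓ UTk k` (`= Q_{k+1}`): an ordered product over the positive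
roots in which all coefficients of level `≤ k` vanish -/
theorem e8c_qc7_word {k : ℕ} {u : e8c_GL} (hu : u ∈ e8c_QGL (k + 1)) :
    ∃ T : ℕ → ZMod 2, (∀ r, ¬ chevE8.IsPosRoot r → T r = 0) ∧
      (u : Matrix chevE8.Idx chevE8.Idx (ZMod 2)) =
        chevE8.wordMat (ZMod 2) (chevE8.posRoots.map fun r => (r, T r)) ∧
      ∀ r, chevE8.IsPosRoot r → fJ chevE8 wtMatE8 e8c_J r ≤ (k : ℤ) → T r = 0 := by
  obtain ⟨huU, huk⟩ := e8c_mem_QGL.mp hu
  have huk' : u ∈ UTk (ZMod 2) (lvlJ chevE8 wtMatE8 e8c_J) k := huk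
  obtain ⟨T, hT0, hTw⟩ := posUnipotent_word good2_E8 T0_E8 T3_E8 T4_E8 T7_E8 huU
  exact ⟨T, hT0, hTw,
    e8c_qc_coeff_zero good2_E8 T0_E8 T8_E8 T16_E8 e8c_J k T u hTw huk' e8c_qc7_hodd⟩

/-- **hQ7** -/
theorem e8c_qc7_Q7 : e8c_QGL 7 = ⊥ := by
  rw [eq_bot_iff]
  intro u hu
  obtain ⟨T, hT0, hTw, hz⟩ := e8c_qc7_word (k := 6) hu
  have h1 : (u : Matrix chevE8.Idx chevE8.Idx (ZMod 2)) = 1 := by
    rw [hTw]
    have e : (chevE8.posRoots.map fun r => (r, T r)) =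
        chevE8.posRoots.map fun r => (r, (0 : ZMod 2)) := by
      apply List.map_congr_left
      intro r hr
      have hrpos : chevE8.IsPosRoot r := by
        unfold ChevalleyDatum.posRoots at hr
        rw [List.mem_filter, decide_eq_true_eq] at hr
        exact hr.2
      rw [hz r hrpos (by exact_mod_cast e8c_qc7_lev_le r hrpos.1)]
    rw [e]
    exact e8c_qc_wordMat_zero _
  rw [Subgroup.mem_bot]
  exact Units.ext h1

end Cfsg.Agent.E8C
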