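import Mathlib
import Cfsg.Agent.E8C.EntryWord
import Cfsg.Agent.Helper7.ChevWeyl
import Cfsg.Agent.Helper7.ChevCollect

set_option autoImplicit false
set_option linter.unusedSectionVars false
set_option linter.unusedVariables false

/-!
# S5751 (swarm "E8C"), step lemma, layer (i) (helper5): words in root elements

Generic in a datum `D` with `hG : Good2 D`: the element of `GL` of a word, conjugation of a word by the
element `nWordGL v` of the monomial group, the coefficient sums of the conjugated word, dropping the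
letters with parameter `0`.
-/

namespace Cfsg.Agent.E8C

open Cfsg Cfsg.Lie Matrix Cfsg.Agent.Helper7 Cfsg.Agent.Helper7.Chev Cfsg.Agent.Helper7.Tri

variable {D : ChevalleyDatum} {F : Type*} [Field F]

section

variable (hG : Good2 D)

/-- the element of `GL` of a word in root elements -/
noncomputable def e8c_wordGL (hG1 : Good1 D) (w : List (ℕ × F)) : GL D.Idx F :=
  (w.map (xGL' hG1)).prod

theorem e8c_wordGL_coe (hG1 : Good1 D) (w : List (ℕ × F)) :
    ((e8c_wordGL hG1 w : GL D.Idx F) : Matrix D.Idx D.Idx F) = D.wordMat F w :=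
  wordGL_coe hG1 w

theorem e8c_wordGL_nil (hG1 : Good1 D) : e8c_wordGL hG1 ([] : List (ℕ × F)) = 1 := rfl

theorem e8c_wordGL_cons (hG1 : Good1 D) (p : ℕ × F) (w : List (ℕ × F)) :
    e8c_wordGL hG1 (p :: w) = xGL' hG1 p * e8c_wordGL hG1 w := by
  unfold e8c_wordGL
  rw [List.map_cons, List.prod_cons]

theorem e8c_wordGL_append (hG1 : Good1 D) (w w' : List (ℕ × F)) :
    e8c_wordGL hG1 (w ++ w') = e8c_wordGL hG1 w * e8c_wordGL hG1 w' := by
  unfold e8c_wordGL
  rw [List.map_append, List.prod_append]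

theorem e8c_wordGL_eq_of_coe (hG1 : Good1 D) {g : GL D.Idx F} {w : List (ℕ × F)}
    (hg : (g : Matrix D.Idx D.Idx F) = D.wordMat F w) : g = e8c_wordGL hG1 w := by
  apply Units.ext
  rw [hg, e8c_wordGL_coe]

theorem e8c_xGL'_zero (hG1 : Good1 D) (r : ℕ) : xGL' hG1 ((r, (0 : F)) : ℕ × F) = 1 := by
  unfold xGL'
  split_ifs with h
  · exact xGL_zero hG1 h
  · rfl

theorem e8c_xGL'_of_lt (hG1 : Good1 D) {r : ℕ} (hr : r < D.nroots) (t : F) :
    xGL' hG1 ((r, t) : ℕ × F) = xGL hG1 hr t := by
  unfold xGL'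
  rw [dif_pos hr]

/-- a word all of whose letters lie in a subgroup lies in the subgroup -/
theorem e8c_wordGL_mem (hG1 : Good1 D) (K : Subgroup (GL D.Idx F)) (w : List (ℕ × F))
    (hw : ∀ p ∈ w, xGL' hG1 p ∈ K) : e8c_wordGL hG1 w ∈ K := by
  apply Subgroup.list_prod_mem
  intro x hx
  rw [List.mem_map] at hx
  obtain ⟨p, hp, rfl⟩ := hx
  exact hw p hp

/-! ### dropping the letters with parameter `0` -/

/-- letters failing a (decidable) test and having parameter `0` can be dropped -/
theorem e8c_wordGL_filter (hG1 : Good1 D) (L : List ℕ) (t : ℕ → F) (q : ℕ → Bool)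
    (h0 : ∀ r ∈ L, q r = false → t r = 0) :
    e8c_wordGL hG1 ((L.filter q).map fun r => (r, t r)) =
      e8c_wordGL hG1 (L.map fun r => (r, t r)) := by
  induction L with
  | nil => rfl
  | cons r L ih =>
    have h0' : ∀ r ∈ L, q r = false → t r = 0 := fun r hr => h0 r (List.mem_cons_of_mem _ hr)
    rw [List.map_cons, e8c_wordGL_cons]
    by_cases hq : q r = true
    · rw [List.filter_cons_of_pos hq, List.map_cons, e8c_wordGL_cons, ih h0']
    · rw [List.filter_cons_of_neg hq, ih h0']
      have : t r = 0 := h0 r List.mem_cons_self (by simpa using hq)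
      rw [this, e8c_xGL'_zero, one_mul]

/-- the coefficient sums of a word listing each root at most once -/
theorem e8c_coeffSum_map_of_nodup (L : List ℕ) (hL : L.Nodup) (t : ℕ → F) (s : ℕ) :
    e8c_coeffSum (L.map fun r => (r, t r)) s = if s ∈ L then t s else 0 := by
  induction L with
  | nil => simp [e8c_coeffSum_nil]
  | cons r L ih =>
    rw [List.nodup_cons] at hL
    rw [List.map_cons, e8c_coeffSum_cons, ih hL.2]
    by_cases hrs : r = s
    · subst hrs
      rw [if_pos rfl, if_neg hL.1, add_zero, if_pos List.mem_cons_self]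
    · rw [if_neg hrs, zero_add]
      have : s ∈ r :: L ↔ s ∈ L := by
        rw [List.mem_cons]
        constructor
        · rintro (h | h)
          · exact absurd h.symm hrs
          · exact h
        · exact Or.inr
      by_cases hs : s ∈ L
      · rw [if_pos hs, if_pos (this.mpr hs)]
      · rw [if_neg hs, if_neg (fun h => hs (this.mp h))]

theorem e8c_posRoots_nodup (D : ChevalleyDatum) : D.posRoots.Nodup := by
  unfold ChevalleyDatum.posRoots
  exact List.Nodup.filter _ List.nodup_range

theorem e8c_mem_posRoots {D : ChevalleyDatum} {r : ℕ} : r ∈ D.posRoots ↔ D.IsPosRoot r := by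
  unfold ChevalleyDatum.posRoots
  rw [List.mem_filter, List.mem_range, decide_eq_true_iff]
  exact ⟨fun h => h.2, fun h => ⟨h.1, h⟩⟩

/-! ### conjugation by the elements of the monomial group -/

/-- the word obtained by conjugating by `nWordGL v` -/
def e8c_conjWord (D : ChevalleyDatum) {F : Type*} [Field F] (v : List ℕ) (w : List (ℕ × F)) :
    List (ℕ × F) :=
  w.map fun p => ((tabOf D).reflWord v p.1, (((tabOf D).etaWord v p.1 : ℤ) : F) * p.2)

theorem e8c_conjWord_nil (v : List ℕ) : e8c_conjWord D v ([] : List (ℕ × F)) = [] := rfl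

theorem e8c_conjWord_cons (v : List ℕ) (p : ℕ × F) (w : List (ℕ × F)) :
    e8c_conjWord D v (p :: w) =
      ((tabOf D).reflWord v p.1, (((tabOf D).etaWord v p.1 : ℤ) : F) * p.2) :: e8c_conjWord D v w :=
  rfl

theorem e8c_conjWord_append (v : List ℕ) (w w' : List (ℕ × F)) :
    e8c_conjWord D v (w ++ w') = e8c_conjWord D v w ++ e8c_conjWord D v w' := by
  unfold e8c_conjWord
  rw [List.map_append]

theorem e8c_mem_conjWord {v : List ℕ} {w : List (ℕ × F)} {q : ℕ × F} (hq : q ∈ e8c_conjWord D v w) :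
    ∃ p ∈ w, q = ((tabOf D).reflWord v p.1, (((tabOf D).etaWord v p.1 : ℤ) : F) * p.2) := by
  unfold e8c_conjWord at hq
  rw [List.mem_map] at hq
  obtain ⟨p, hp, rfl⟩ := hq
  exact ⟨p, hp, rfl⟩

include hG in
/-- **conjugation of a word by `nWordGL v`** -/
theorem e8c_conj_wordGL {v : List ℕ} (hv : ∀ i ∈ v, i < D.rank) (w : List (ℕ × F))
    (hw : ∀ p ∈ w, p.1 < D.nroots) :
    nWordGL hG v * e8c_wordGL hG.toGood1 w * (nWordGL hG v)⁻¹ =
      e8c_wordGL hG.toGood1 (e8c_conjWord D v w) := by
  have hG1 := hG.toGood1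
  induction w with
  | nil => rw [e8c_conjWord_nil, e8c_wordGL_nil, mul_one, mul_inv_cancel]
  | cons p w ih =>
    have hw' : ∀ q ∈ w, q.1 < D.nroots := fun q hq => hw q (List.mem_cons_of_mem _ hq)
    have hp : p.1 < D.nroots := hw p List.mem_cons_self
    rw [e8c_conjWord_cons, e8c_wordGL_cons, e8c_wordGL_cons, ← ih hw']
    have e1 : xGL' hG1 p = xGL hG1 hp p.2 := e8c_xGL'_of_lt hG1 hp p.2
    have e2 := nWordGL_conj (F := F) hG hv hp p.2
    rw [e8c_xGL'_of_lt hG1 (reflWord_lt hG hv hp), ← e2, e1]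
    group

include hG in
/-- the coefficient sums of the conjugated word -/
theorem e8c_coeffSum_conjWord {v : List ℕ} (hv : ∀ i ∈ v, i < D.rank) (w : List (ℕ × F))
    (hw : ∀ p ∈ w, p.1 < D.nroots) {r : ℕ} (hr : r < D.nroots) :
    e8c_coeffSum (e8c_conjWord D v w) ((tabOf D).reflWord v r) =
      (((tabOf D).etaWord v r : ℤ) : F) * e8c_coeffSum w r := by
  induction w with
  | nil => rw [e8c_conjWord_nil, e8c_coeffSum_nil, e8c_coeffSum_nil, mul_zero]
  | cons p w ih =>
    have hw' : ∀ q ∈ w, q.1 < D.nroots := fun q hq => hw q (List.mem_cons_of_mem _ hq)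
    have hp : p.1 < D.nroots := hw p List.mem_cons_self
    rw [e8c_conjWord_cons, e8c_coeffSum_cons, e8c_coeffSum_cons, ih hw', mul_add]
    congr 1
    by_cases hpr : p.1 = r
    · rw [if_pos hpr, if_pos (by rw [hpr]), hpr]
    · rw [if_neg hpr, mul_zero, if_neg]
      intro h
      apply hpr
      have h1 := reflWord_reverse hG hv hp
      have h2 := reflWord_reverse hG hv hr
      change (tabOf D).reflWord v p.1 = (tabOf D).reflWord v r at h
      rw [h, h2] at h1
      exact h1.symm

end

end Cfsg.Agent.E8C
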