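import Mathlib
import Cfsg.Agent.E8C.StepWord

set_option autoImplicit false
set_option linter.unusedSectionVars false
set_option linter.unusedVariables false

/-!
# S5751 (swarm "E8C"), step lemma, layer (ii) (helper5): the generic step

Generic in a datum `D` (`hG : Good2 D`, `hT : T0 D`, `T3`, `T4`, `T7` for the product form of the elements of
`U`), a set `J` of nodes and a node `j0`; the facts on the root system (the "table facts") and the vanishing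
of the coefficients of low level (piece A2) are explicit hypotheses.
-/

namespace Cfsg.Agent.E8C

open Cfsg Cfsg.Lie Matrix Cfsg.Agent.Helper7 Cfsg.Agent.Helper7.Chev Cfsg.Agent.Helper7.Tri

variable {D : ChevalleyDatum} {F : Type*} [Field F]

section

variable (hG : Good2 D) (hT : T0 D) {W : List (List ℤ)} (J : Set ℕ)

/-- the word of the letters of level at least `m` of the canonical word of coefficients `t` -/
noncomputable def e8c_topWord (D : ChevalleyDatum) {F : Type*} [Field F] (W : List (List ℤ))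
    (J : Set ℕ) (m : ℤ) (t : ℕ → F) : List (ℕ × F) :=
  (D.posRoots.filter fun r => decide (m ≤ fJ D W J r)).map fun r => (r, t r)

theorem e8c_mem_topWord {m : ℤ} {t : ℕ → F} {p : ℕ × F} (hp : p ∈ e8c_topWord D W J m t) :
    D.IsPosRoot p.1 ∧ m ≤ fJ D W J p.1 ∧ p.2 = t p.1 := by
  unfold e8c_topWord at hp
  rw [List.mem_map] at hp
  obtain ⟨r, hr, rfl⟩ := hp
  rw [List.mem_filter, decide_eq_true_iff] at hr
  exact ⟨e8c_mem_posRoots.mp hr.1, hr.2, rfl⟩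

/-- if the coefficients of level `< m` vanish, the canonical word equals its part of level `≥ m` -/
theorem e8c_wordGL_topWord (hG1 : Good1 D) (m : ℤ) (t : ℕ → F)
    (ht0 : ∀ r, D.IsPosRoot r → fJ D W J r < m → t r = 0) :
    e8c_wordGL hG1 (e8c_topWord D W J m t) =
      e8c_wordGL hG1 (D.posRoots.map fun r => (r, t r)) := by
  unfold e8c_topWord
  apply e8c_wordGL_filter
  intro r hr hq
  rw [decide_eq_false_iff_not, not_le] at hq
  exact ht0 r (e8c_mem_posRoots.mp hr) hq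

theorem e8c_coeffSum_topWord (m : ℤ) (t : ℕ → F) {s : ℕ} (hs : D.IsPosRoot s)
    (hm : m ≤ fJ D W J s) : e8c_coeffSum (e8c_topWord D W J m t) s = t s := by
  unfold e8c_topWord
  rw [e8c_coeffSum_map_of_nodup _ ((e8c_posRoots_nodup D).filter _), if_pos]
  rw [List.mem_filter, decide_eq_true_iff]
  exact ⟨e8c_mem_posRoots.mpr hs, hm⟩

include hG in
/-- the part of level `≥ m + 1` lies in `UTk m` -/
theorem e8c_topWord_mem_UTk (m : ℕ) (t : ℕ → F) :
    e8c_wordGL hG.toGood1 (e8c_topWord D W J ((m + 1 : ℕ) : ℤ) t) ∈ UTk F (lvlJ D W J) m := by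
  apply e8c_wordGL_mem
  intro p hp
  obtain ⟨hp1, hp2, _⟩ := e8c_mem_topWord J hp
  rw [show p = (p.1, p.2) from rfl, e8c_xGL'_of_lt hG.toGood1 hp1.1]
  exact e8c_fc_x_mem_UTk hG J hp1.1 hp2 p.2

include hG in
/-- **the element form of the step** (levels `k + 1 ≥ 2`): a coefficient of level `k + 1` of an element
`n` of `U ∩ Fil_{k+1}` vanishes as soon as some conjugate `n_v n n_v⁻¹` lies in `Fil_{k+1}`, where `v` lowers
the levels `≥ k + 1` by at most one and sends the root to a root of level `k`. -/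
theorem e8c_step_elem (k : ℕ) (hk : 1 ≤ k) {n : GL D.Idx F} (t : ℕ → F)
    (ht : (n : Matrix D.Idx D.Idx F) = D.wordMat F (D.posRoots.map fun r => (r, t r)))
    (ht0 : ∀ r, D.IsPosRoot r → fJ D W J r < ((k + 1 : ℕ) : ℤ) → t r = 0)
    {r1 : ℕ} (hr1 : D.IsPosRoot r1) (hr1k : fJ D W J r1 = ((k + 1 : ℕ) : ℤ))
    (v : List ℕ) (hv : ∀ i ∈ v, i < D.rank)
    (hσ1 : fJ D W J ((tabOf D).reflWord v r1) = (k : ℤ))
    (hσ : ∀ r, D.IsPosRoot r → ((k + 1 : ℕ) : ℤ) ≤ fJ D W J r →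
      (k : ℤ) ≤ fJ D W J ((tabOf D).reflWord v r))
    (hz : nWordGL hG v * n * (nWordGL hG v)⁻¹ ∈ UTk F (lvlJ D W J) k)
    (i : Fin D.rank) (hi : ((cr D ((tabOf D).reflWord v r1) i.val : ℤ) : F) ≠ 0) :
    t r1 = 0 := by
  have hG1 := hG.toGood1
  set w₁ := e8c_topWord D W J ((k + 1 : ℕ) : ℤ) t with hw₁
  have hn : n = e8c_wordGL hG1 w₁ := by
    rw [hw₁, e8c_wordGL_topWord J hG1 _ t ht0]
    exact e8c_wordGL_eq_of_coe hG1 ht
  have hw₁lt : ∀ p ∈ w₁, p.1 < D.nroots := fun p hp => (e8c_mem_topWord J hp).1.1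
  have hzw : nWordGL hG v * n * (nWordGL hG v)⁻¹ = e8c_wordGL hG1 (e8c_conjWord D v w₁) := by
    rw [hn]
    exact e8c_conj_wordGL hG hv w₁ hw₁lt
  rw [hzw] at hz
  have hs : (tabOf D).reflWord v r1 < D.nroots := reflWord_lt hG hv hr1.1
  -- the entry by A1
  have hA1 := e8c_entry_word (F := F) (W := W) hG J hk (e8c_conjWord D v w₁) (by
      intro q hq
      obtain ⟨p, hp, rfl⟩ := e8c_mem_conjWord hq
      obtain ⟨hp1, hp2, _⟩ := e8c_mem_topWord J hp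
      exact ⟨reflWord_lt hG hv hp1.1, hσ p.1 hp1 hp2⟩) hs hσ1 i
  rw [e8c_coeffSum_conjWord hG hv w₁ hw₁lt hr1.1, hw₁,
    e8c_coeffSum_topWord J _ t hr1 (le_of_eq hr1k.symm)] at hA1
  -- the entry vanishes since the element lies in `UTk k`
  have hnl : D.neg ((tabOf D).reflWord v r1) < D.nroots := hG1.neg_lt hs
  have hlt : lvlJ D W J (Sum.inl i) <
      lvlJ D W J (Sum.inr ⟨D.neg ((tabOf D).reflWord v r1), hnl⟩) + (k + 1) := by
    have e := e8c_fc_lvl_inr_sub_inl (W := W) J i ⟨D.neg ((tabOf D).reflWord v r1), hnl⟩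
    have e' : fJ D W J (D.neg ((tabOf D).reflWord v r1)) =
        - fJ D W J ((tabOf D).reflWord v r1) := fJ_neg hG J hs
    have : ((lvlJ D W J (Sum.inl i) : ℕ) : ℤ) <
        ((lvlJ D W J (Sum.inr ⟨D.neg ((tabOf D).reflWord v r1), hnl⟩) + (k + 1) : ℕ) : ℤ) := by
      rw [Nat.cast_add, e]
      change _ < _ + fJ D W J (D.neg ((tabOf D).reflWord v r1)) + _
      rw [e', hσ1]
      push_cast
      linarith
    exact_mod_cast this
  have hz' : Raises (lvlJ D W J) (k + 1)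
      (((e8c_wordGL hG1 (e8c_conjWord D v w₁) : GL D.Idx F) : Matrix D.Idx D.Idx F) - 1) := hz
  have h0 := e8c_raises_entry_eq_zero hz' hlt
  rw [e8c_wordGL_coe, Matrix.sub_apply, Matrix.one_apply, if_neg (by simp), sub_zero, hA1] at h0
  rcases mul_eq_zero.mp h0 with h | h
  · rcases mul_eq_zero.mp h with h' | h'
    · exact absurd h' (etaWord_cast_ne_zero hG hv hr1.1)
    · exact h'
  · exact absurd h hi

include hG hT in
/-- **the generic step, levels `k + 1 ≥ 2`**: `N ≤ U ∩ Fil_{k+1}` normalised by `P'`, with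
`g N g⁻¹ ≤ Fil_{k+1}`, lies in `Fil_{k+2}`. -/
theorem e8c_step_gen (h3 : (tabOf D).T3) (h4 : (tabOf D).T4 60) (h7 : (tabOf D).T7)
    (k : ℕ) (hk : 1 ≤ k) (N P' : Subgroup (GL D.Idx F))
    (hNU : N ≤ D.posUnipotent F) (hNk : N ≤ UTk F (lvlJ D W J) k)
    (hnorm : ∀ p ∈ P', ∀ x ∈ N, p * x * p⁻¹ ∈ N)
    {j0 : ℕ} (hj0 : j0 < D.rank)
    (hg : ∀ x ∈ N, nGL hG.toGood1 (hG.toGood1.simple_lt hj0) * x *
      (nGL hG.toGood1 (hG.toGood1.simple_lt hj0))⁻¹ ∈ UTk F (lvlJ D W J) k)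
    (hA2 : ∀ (u : GL D.Idx F) (t : ℕ → F), u ∈ D.posUnipotent F → u ∈ UTk F (lvlJ D W J) k →
      (u : Matrix D.Idx D.Idx F) = D.wordMat F (D.posRoots.map fun r => (r, t r)) →
      ∀ r, D.IsPosRoot r → fJ D W J r < ((k + 1 : ℕ) : ℤ) → t r = 0)
    (hodd : ∀ s < D.nroots, ∃ i : Fin D.rank, ((cr D s i.val : ℤ) : F) ≠ 0)
    (htab : ∀ r1, D.IsPosRoot r1 → fJ D W J r1 = ((k + 1 : ℕ) : ℤ) →
      ∃ v' : List ℕ, (∀ i ∈ v', i < D.rank) ∧ nWordGL hG v' ∈ P' ∧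
        fJ D W J ((tabOf D).reflWord (j0 :: v') r1) = (k : ℤ) ∧
        ∀ r, D.IsPosRoot r → ((k + 1 : ℕ) : ℤ) ≤ fJ D W J r →
          (k : ℤ) ≤ fJ D W J ((tabOf D).reflWord (j0 :: v') r)) :
    N ≤ UTk F (lvlJ D W J) (k + 1) := by
  have hG1 := hG.toGood1
  intro n hn
  obtain ⟨t, ht1, ht⟩ := posUnipotent_word hG hT h3 h4 h7 (hNU hn)
  have ht0 := hA2 n t (hNU hn) (hNk hn) ht
  -- the coefficients of level `k + 1` vanish
  have hkey : ∀ r1, D.IsPosRoot r1 → fJ D W J r1 = ((k + 1 : ℕ) : ℤ) → t r1 = 0 := by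
    intro r1 hr1 hr1k
    obtain ⟨v', hv', hv'P, hσ1, hσ⟩ := htab r1 hr1 hr1k
    have hv : ∀ i ∈ j0 :: v', i < D.rank := by
      intro i hi
      rcases List.mem_cons.mp hi with rfl | hi
      · exact hj0
      · exact hv' i hi
    obtain ⟨i, hi⟩ := hodd _ (reflWord_lt hG hv hr1.1)
    refine e8c_step_elem hG J k hk t ht ht0 hr1 hr1k (j0 :: v') hv hσ1 hσ ?_ i hi
    rw [nWordGL_cons hG hj0]
    have h1 := hnorm _ hv'P n hn
    have h2 := hg _ h1
    have e : nGL hG1 (hG1.simple_lt hj0) * nWordGL hG v' * n *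
        (nGL hG1 (hG1.simple_lt hj0) * nWordGL hG v')⁻¹ =
        nGL hG1 (hG1.simple_lt hj0) * (nWordGL hG v' * n * (nWordGL hG v')⁻¹) *
          (nGL hG1 (hG1.simple_lt hj0))⁻¹ := by group
    rw [e]
    exact h2
  -- hence all coefficients of level `< k + 2` vanish
  have ht0' : ∀ r, D.IsPosRoot r → fJ D W J r < ((k + 1 + 1 : ℕ) : ℤ) → t r = 0 := by
    intro r hr hlt
    by_cases h : fJ D W J r < ((k + 1 : ℕ) : ℤ)
    · exact ht0 r hr h
    · apply hkey r hr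
      push_cast at *
      omega
  have hn' : n = e8c_wordGL hG1 (e8c_topWord D W J ((k + 1 + 1 : ℕ) : ℤ) t) := by
    rw [e8c_wordGL_topWord J hG1 _ t ht0']
    exact e8c_wordGL_eq_of_coe hG1 ht
  rw [hn']
  exact e8c_topWord_mem_UTk hG J (k + 1) t

include hG in
/-- **the element form of the first step**: a coefficient of level `1` of an element `n` of `U ∩ Fil_1`
vanishes as soon as some conjugate `n_v n n_v⁻¹` lies in `Fil_0`, where `v` sends the root to a root of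
negative level and all other positive roots of level `≥ 1` to roots of level `≥ 0`. -/
theorem e8c_step1_elem {n : GL D.Idx F} (t : ℕ → F)
    (ht : (n : Matrix D.Idx D.Idx F) = D.wordMat F (D.posRoots.map fun r => (r, t r)))
    (ht0 : ∀ r, D.IsPosRoot r → fJ D W J r < ((0 + 1 : ℕ) : ℤ) → t r = 0)
    {r1 : ℕ} (hr1 : D.IsPosRoot r1) (hr1k : fJ D W J r1 = ((0 + 1 : ℕ) : ℤ))
    (v : List ℕ) (hv : ∀ i ∈ v, i < D.rank)
    (hσ1 : fJ D W J ((tabOf D).reflWord v r1) < 0)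
    (hσ : ∀ r, D.IsPosRoot r → ((0 + 1 : ℕ) : ℤ) ≤ fJ D W J r → r ≠ r1 →
      0 ≤ fJ D W J ((tabOf D).reflWord v r))
    (hz : nWordGL hG v * n * (nWordGL hG v)⁻¹ ∈ e8c_Fil0 F (lvlJ D W J))
    (i : Fin D.rank) (hi : ((cr D ((tabOf D).reflWord v r1) i.val : ℤ) : F) ≠ 0) :
    t r1 = 0 := by
  have hG1 := hG.toGood1
  by_contra ht1
  set w₁ := e8c_topWord D W J ((0 + 1 : ℕ) : ℤ) t with hw₁
  have hn : n = e8c_wordGL hG1 w₁ := by
    rw [hw₁, e8c_wordGL_topWord J hG1 _ t ht0]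
    exact e8c_wordGL_eq_of_coe hG1 ht
  have hw₁lt : ∀ p ∈ w₁, p.1 < D.nroots := fun p hp => (e8c_mem_topWord J hp).1.1
  have hzw : nWordGL hG v * n * (nWordGL hG v)⁻¹ = e8c_wordGL hG1 (e8c_conjWord D v w₁) := by
    rw [hn]
    exact e8c_conj_wordGL hG hv w₁ hw₁lt
  rw [hzw] at hz
  -- split the list of the roots at `r1`
  set L := D.posRoots.filter fun r => decide (((0 + 1 : ℕ) : ℤ) ≤ fJ D W J r) with hL
  have hLnd : L.Nodup := (e8c_posRoots_nodup D).filter _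
  have hr1L : r1 ∈ L := by
    rw [hL, List.mem_filter, decide_eq_true_iff]
    exact ⟨e8c_mem_posRoots.mpr hr1, le_of_eq hr1k.symm⟩
  obtain ⟨L₁, L₂, hsplit⟩ := List.append_of_mem hr1L
  have hnd := hLnd
  rw [hsplit, List.nodup_append] at hnd
  obtain ⟨_, hnd2, hnd3⟩ := hnd
  have hr1L₁ : r1 ∉ L₁ := fun h => hnd3 r1 h r1 List.mem_cons_self rfl
  have hr1L₂ : r1 ∉ L₂ := (List.nodup_cons.mp hnd2).1
  have hmemL : ∀ r ∈ L, D.IsPosRoot r ∧ ((0 + 1 : ℕ) : ℤ) ≤ fJ D W J r := by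
    intro r hr
    rw [hL, List.mem_filter, decide_eq_true_iff] at hr
    exact ⟨e8c_mem_posRoots.mp hr.1, hr.2⟩
  have hw₁split : w₁ = (L₁.map fun r => (r, t r)) ++ ((r1, t r1) :: (L₂.map fun r => (r, t r))) := by
    rw [hw₁]
    unfold e8c_topWord
    rw [← hL, hsplit, List.map_append, List.map_cons]
  -- the two outer parts lie in `Fil_0`
  have hpart : ∀ L' : List ℕ, (∀ r ∈ L', r ∈ L) → r1 ∉ L' →
      e8c_wordGL hG1 (e8c_conjWord D v (L'.map fun r => (r, t r))) ∈ e8c_Fil0 F (lvlJ D W J) := by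
    intro L' hL' hr1L'
    apply e8c_wordGL_mem
    intro q hq
    obtain ⟨p, hp, rfl⟩ := e8c_mem_conjWord hq
    rw [List.mem_map] at hp
    obtain ⟨r, hr, rfl⟩ := hp
    obtain ⟨hrpos, hrlev⟩ := hmemL r (hL' r hr)
    have hne : r ≠ r1 := fun h => hr1L' (h ▸ hr)
    rw [e8c_xGL'_of_lt hG1 (reflWord_lt hG hv hrpos.1)]
    exact e8c_fc_x_mem_Fil0 hG J _ (hσ r hrpos hrlev hne) _
  have h1 := hpart L₁ (fun r hr => by rw [hsplit]; exact List.mem_append_left _ hr) hr1L₁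
  have h2 := hpart L₂ (fun r hr => by
    rw [hsplit]; exact List.mem_append_right _ (List.mem_cons_of_mem _ hr)) hr1L₂
  rw [hw₁split, e8c_conjWord_append, e8c_conjWord_cons, e8c_wordGL_append, e8c_wordGL_cons] at hz
  set A := e8c_wordGL hG1 (e8c_conjWord D v (L₁.map fun r => (r, t r))) with hA
  set B := e8c_wordGL hG1 (e8c_conjWord D v (L₂.map fun r => (r, t r))) with hB
  have hs : (tabOf D).reflWord v r1 < D.nroots := reflWord_lt hG hv hr1.1
  have hx : xGL' hG1 ((tabOf D).reflWord v (r1, t r1).1,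
      (((tabOf D).etaWord v (r1, t r1).1 : ℤ) : F) * (r1, t r1).2) ∈ e8c_Fil0 F (lvlJ D W J) := by
    have e : xGL' hG1 ((tabOf D).reflWord v (r1, t r1).1,
        (((tabOf D).etaWord v (r1, t r1).1 : ℤ) : F) * (r1, t r1).2) =
        A⁻¹ * (A * (xGL' hG1 ((tabOf D).reflWord v (r1, t r1).1,
          (((tabOf D).etaWord v (r1, t r1).1 : ℤ) : F) * (r1, t r1).2) * B)) * B⁻¹ := by group
    rw [e]
    exact mul_mem (mul_mem (inv_mem h1) hz) (inv_mem h2)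
  rw [e8c_xGL'_of_lt hG1 hs] at hx
  refine e8c_fc_x_not_mem_Fil0 hG J hs hσ1 (i := i) ?_ hx
  exact mul_ne_zero hi (mul_ne_zero (etaWord_cast_ne_zero hG hv hr1.1) ht1)

include hG hT in
/-- **the generic first step**: `N ≤ U ∩ Fil_1` normalised by `P'`, with `g N g⁻¹ ≤ Fil_0`, lies in
`Fil_2`. -/
theorem e8c_step1_gen (h3 : (tabOf D).T3) (h4 : (tabOf D).T4 60) (h7 : (tabOf D).T7)
    (N P' : Subgroup (GL D.Idx F))
    (hNU : N ≤ D.posUnipotent F) (hNk : N ≤ UTk F (lvlJ D W J) 0)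
    (hnorm : ∀ p ∈ P', ∀ x ∈ N, p * x * p⁻¹ ∈ N)
    {j0 : ℕ} (hj0 : j0 < D.rank)
    (hg : ∀ x ∈ N, nGL hG.toGood1 (hG.toGood1.simple_lt hj0) * x *
      (nGL hG.toGood1 (hG.toGood1.simple_lt hj0))⁻¹ ∈ e8c_Fil0 F (lvlJ D W J))
    (hA2 : ∀ (u : GL D.Idx F) (t : ℕ → F), u ∈ D.posUnipotent F → u ∈ UTk F (lvlJ D W J) 0 →
      (u : Matrix D.Idx D.Idx F) = D.wordMat F (D.posRoots.map fun r => (r, t r)) →
      ∀ r, D.IsPosRoot r → fJ D W J r < ((0 + 1 : ℕ) : ℤ) → t r = 0)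
    (htab : ∀ r1, D.IsPosRoot r1 → fJ D W J r1 = ((0 + 1 : ℕ) : ℤ) →
      ∃ v' : List ℕ, (∀ i ∈ v', i < D.rank) ∧ nWordGL hG v' ∈ P' ∧
        fJ D W J ((tabOf D).reflWord (j0 :: v') r1) < 0 ∧
        (∃ i : Fin D.rank, ((cr D ((tabOf D).reflWord (j0 :: v') r1) i.val : ℤ) : F) ≠ 0) ∧
        ∀ r, D.IsPosRoot r → ((0 + 1 : ℕ) : ℤ) ≤ fJ D W J r → r ≠ r1 →
          0 ≤ fJ D W J ((tabOf D).reflWord (j0 :: v') r)) :
    N ≤ UTk F (lvlJ D W J) 1 := by
  have hG1 := hG.toGood1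
  intro n hn
  obtain ⟨t, ht1, ht⟩ := posUnipotent_word hG hT h3 h4 h7 (hNU hn)
  have ht0 := hA2 n t (hNU hn) (hNk hn) ht
  have hkey : ∀ r1, D.IsPosRoot r1 → fJ D W J r1 = ((0 + 1 : ℕ) : ℤ) → t r1 = 0 := by
    intro r1 hr1 hr1k
    obtain ⟨v', hv', hv'P, hσ1, ⟨i, hi⟩, hσ⟩ := htab r1 hr1 hr1k
    have hv : ∀ i ∈ j0 :: v', i < D.rank := by
      intro i hi
      rcases List.mem_cons.mp hi with rfl | hi
      · exact hj0
      · exact hv' i hi
    refine e8c_step1_elem hG J t ht ht0 hr1 hr1k (j0 :: v') hv hσ1 hσ ?_ i hi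
    rw [nWordGL_cons hG hj0]
    have h1 := hnorm _ hv'P n hn
    have h2 := hg _ h1
    have e : nGL hG1 (hG1.simple_lt hj0) * nWordGL hG v' * n *
        (nGL hG1 (hG1.simple_lt hj0) * nWordGL hG v')⁻¹ =
        nGL hG1 (hG1.simple_lt hj0) * (nWordGL hG v' * n * (nWordGL hG v')⁻¹) *
          (nGL hG1 (hG1.simple_lt hj0))⁻¹ := by group
    rw [e]
    exact h2
  have ht0' : ∀ r, D.IsPosRoot r → fJ D W J r < ((0 + 1 + 1 : ℕ) : ℤ) → t r = 0 := by
    intro r hr hlt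
    by_cases h : fJ D W J r < ((0 + 1 : ℕ) : ℤ)
    · exact ht0 r hr h
    · apply hkey r hr
      push_cast at *
      omega
  have hn' : n = e8c_wordGL hG1 (e8c_topWord D W J ((0 + 1 + 1 : ℕ) : ℤ) t) := by
    rw [e8c_wordGL_topWord J hG1 _ t ht0']
    exact e8c_wordGL_eq_of_coe hG1 ht
  rw [hn']
  exact e8c_topWord_mem_UTk hG J (0 + 1) t

end

end Cfsg.Agent.E8C
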