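import Mathlib
import Cfsg.Agent.E8C.QFactsA
import Cfsg.Agent.Helper7.ChevTabE8

set_option autoImplicit false
set_option linter.unusedSectionVars false
set_option linter.unusedVariables false

/-!
# S5751 (swarm "E8C"), step lemma (helper5): the table facts of `E8` used by the step

All by `decide +kernel` on helper7's fast table `fastE8` (`tab_E8 : tabOf chevE8 = fastE8`); the level of
a root is `fastE8.wt wtMatE8 3` (`e8c_qf_lev_eq`).  The lowest roots of the levels `1, …, 6` are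
`130 = simple 3, 152, 194, 214, 224, 235`; `e8c_st_word r` is a word in the nodes `≠ 3` taking the root `r`
of level `≥ 1` to the lowest root of its level.
-/

namespace Cfsg.Agent.E8C

open Cfsg Cfsg.Lie Cfsg.Agent.Helper7 Cfsg.Agent.Helper7.Chev

/-- for every root of level `≥ 1` a word in the nodes `≠ 3` taking it to the lowest root of its level -/
def e8c_st_words : List (List ℕ) :=
  [[], [], [], [], [], [], [], [], [], [], [], [], [], [], [], [], [], [], [], [], [], [], [], [], [],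
  [], [], [], [], [], [], [], [], [], [], [], [], [], [], [], [], [], [], [], [], [], [], [], [],
  [], [], [], [], [], [], [], [], [], [], [], [], [], [], [], [], [], [], [], [], [], [], [], [],
  [], [], [], [], [], [], [], [], [], [], [], [], [], [], [], [], [], [], [], [], [], [], [], [],
  [], [], [], [], [], [], [], [], [], [], [], [], [], [], [], [], [], [], [], [], [], [], [], [],
  [], [], [], [], [], [], [], [], [], [], [4], [4, 5], [4, 5, 6], [4, 5, 6, 7], [], [2], [4, 2], [4,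
  5, 2], [4, 5, 6, 2], [4, 5, 6, 7, 2], [], [1], [4, 1], [4, 5, 1], [4, 5, 6, 1], [4, 5, 6, 7, 1],
  [2, 1], [4, 2, 1], [4, 5, 2, 1], [4, 5, 6, 2, 1], [4, 5, 6, 7, 2, 1], [], [5], [5, 6], [5, 6, 7],
  [5, 4], [5, 6, 4], [5, 6, 7, 4], [5, 6, 4, 5], [5, 6, 7, 4, 5], [5, 6, 7, 4, 5, 6], [], [], [2,
  0], [4, 2, 0], [4, 5, 2, 0], [4, 5, 6, 2, 0], [4, 5, 6, 7, 2, 0], [2, 1, 0], [4, 2, 1, 0], [4, 5,
  2, 1, 0], [4, 5, 6, 2, 1, 0], [4, 5, 6, 7, 2, 1, 0], [0], [5, 0], [5, 6, 0], [5, 6, 7, 0], [5, 4,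
  0], [5, 6, 4, 0], [5, 6, 7, 4, 0], [5, 6, 4, 5, 0], [5, 6, 7, 4, 5, 0], [5, 6, 7, 4, 5, 6, 0], [0,
  2], [5, 0, 2], [5, 6, 0, 2], [5, 6, 7, 0, 2], [5, 4, 0, 2], [5, 6, 4, 0, 2], [5, 6, 7, 4, 0, 2],
  [5, 6, 4, 5, 0, 2], [5, 6, 7, 4, 5, 0, 2], [5, 6, 7, 4, 5, 6, 0, 2], [], [6], [6, 7], [6, 5], [6,
  7, 5], [6, 7, 5, 6], [6, 5, 4], [6, 7, 5, 4], [6, 7, 5, 6, 4], [6, 7, 5, 6, 4, 5], [1], [6, 1],
  [6, 7, 1], [6, 5, 1], [6, 7, 5, 1], [6, 7, 5, 6, 1], [6, 5, 4, 1], [6, 7, 5, 4, 1], [6, 7, 5, 6,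
  4, 1], [6, 7, 5, 6, 4, 5, 1], [], [7], [7, 6], [7, 6, 5], [7, 6, 5, 4], [2], [7, 2], [7, 6, 2],
  [7, 6, 5, 2], [7, 6, 5, 4, 2], [], [1], [2, 0], [7, 2, 0], [7, 6, 2, 0], [7, 6, 5, 2, 0], [7, 6,
  5, 4, 2, 0], [0], [0, 2], [1, 0], [0, 2, 1], [], [4], [4, 5], [4, 5, 6], [4, 5, 6, 7]]

/-- the word of the root `r` -/
def e8c_st_word (r : ℕ) : List ℕ := e8c_st_words.getD r []

/-- the lowest root of level `m` -/
def e8c_st_low (m : ℕ) : ℕ := ([0, 130, 152, 194, 214, 224, 235] : List ℕ).getD m 0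

/-- the level of a root, as a table entry -/
def e8c_st_lev (r : ℕ) : ℤ := fastE8.wt wtMatE8 3 r

set_option maxRecDepth 1000000 in
set_option maxHeartbeats 0 in
/-- the words have their letters in `J` and take the roots to the lowest roots -/
theorem e8c_st_C1 : AllLt 240 (fun r => 1 ≤ e8c_st_lev r →
    (e8c_st_word r).all (fun j => decide (j < 8 ∧ j ≠ 3)) = true ∧
    fastE8.reflWord (e8c_st_word r) r = e8c_st_low (e8c_st_lev r).toNat) := by decide +kernel

set_option maxRecDepth 1000000 in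
set_option maxHeartbeats 0 in
/-- the reflections in the nodes `≠ 3` preserve the level -/
theorem e8c_st_C2 : AllLt 8 (fun j => j ≠ 3 → AllLt 240 (fun r =>
    e8c_st_lev (fastE8.refl (fastE8.simple j) r) = e8c_st_lev r)) := by decide +kernel

set_option maxRecDepth 1000000 in
set_option maxHeartbeats 0 in
/-- the reflection in the node `3` lowers a level `≥ 2` by at most one -/
theorem e8c_st_C3 : AllLt 240 (fun r => 2 ≤ e8c_st_lev r →
    e8c_st_lev r - 1 ≤ e8c_st_lev (fastE8.refl (fastE8.simple 3) r)) := by decide +kernel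

set_option maxRecDepth 1000000 in
set_option maxHeartbeats 0 in
/-- the reflection in the node `3` takes the roots of level `≥ 1` other than the fundamental root to roots
of level `≥ 0` -/
theorem e8c_st_C4 : AllLt 240 (fun r => 1 ≤ e8c_st_lev r → r ≠ 130 →
    0 ≤ e8c_st_lev (fastE8.refl (fastE8.simple 3) r)) := by decide +kernel

set_option maxRecDepth 1000000 in
set_option maxHeartbeats 0 in
/-- the reflection in the node `3` takes the lowest root of level `m ≥ 2` to a root of level `m - 1` -/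
theorem e8c_st_C5 : AllLt 7 (fun m => 2 ≤ m →
    e8c_st_lev (fastE8.refl (fastE8.simple 3) (e8c_st_low m)) = (m : ℤ) - 1) := by decide +kernel

set_option maxRecDepth 1000000 in
set_option maxHeartbeats 0 in
/-- the fundamental root of the node `3` -/
theorem e8c_st_C5' : fastE8.simple 3 = 130 ∧ fastE8.refl (fastE8.simple 3) 130 = 109 ∧
    e8c_st_lev 109 = -1 ∧ fastE8.cr 109 3 = -1 := by decide +kernel

set_option maxRecDepth 1000000 in
set_option maxHeartbeats 0 in
/-- the levels are at most `6` -/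
theorem e8c_st_C6 : AllLt 240 (fun r => e8c_st_lev r ≤ 6) := by decide +kernel

set_option maxRecDepth 1000000 in
set_option maxHeartbeats 0 in
/-- every coroot has an odd coordinate -/
theorem e8c_st_C7 : AllLt 240 (fun s =>
    (List.range 8).any (fun i => decide (fastE8.cr s i % 2 ≠ 0)) = true) := by decide +kernel

set_option maxRecDepth 1000000 in
set_option maxHeartbeats 0 in
/-- the roots of level `≥ 1` are positive -/
theorem e8c_st_C8 : AllLt 240 (fun r => 1 ≤ e8c_st_lev r → 120 ≤ r) := by decide +kernel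

end Cfsg.Agent.E8C
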