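import Mathlib
import Cfsg.Agent.E8C.StepGen
import Cfsg.Agent.E8C.StepTab
import Cfsg.Agent.Helper7.ChevT3E8

set_option autoImplicit false
set_option linter.unusedSectionVars false
set_option linter.unusedVariables false

/-!
# S5751 (swarm "E8C"), the step lemma for `E8(2)` (helper5)

`e8c_step` and `e8c_step1` in the shapes of `e8c_final` (`Final.lean`), from the generic step (`StepGen`), the
tables (`StepTab`), and two inputs kept as hypotheses: `g * g = 1` and the coefficient lemma A2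
(`e8c_A2Hyp`).
-/

namespace Cfsg.Agent.E8C

open Cfsg Cfsg.Lie Matrix Cfsg.Agent.Helper7 Cfsg.Agent.Helper7.Chev Cfsg.Agent.Helper7.Tri

/-- the coefficient lemma A2 for `E8(2)`: the coefficients of level `≤ k` of an element of `U ∩ Fil_{k+1}`
vanish -/
def e8c_A2Hyp : Prop :=
  ∀ (k : ℕ) (u : e8c_GL) (t : ℕ → ZMod 2), u ∈ e8c_UGL → u ∈ UTk (ZMod 2) e8c_lv k →
    (u : Matrix chevE8.Idx chevE8.Idx (ZMod 2)) =
      chevE8.wordMat (ZMod 2) (chevE8.posRoots.map fun r => (r, t r)) →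
    ∀ r, chevE8.IsPosRoot r → e8c_lev r < ((k + 1 : ℕ) : ℤ) → t r = 0

/-! ### the table facts on `tabOf chevE8` -/

theorem e8c_st_lev_eq (r : ℕ) : fJ chevE8 wtMatE8 e8c_J r = e8c_st_lev r := e8c_qf_lev_eq r

theorem e8c_st_refl_eq (j r : ℕ) :
    (tabOf chevE8).refl (chevE8.simple j) r = fastE8.refl (fastE8.simple j) r := by
  change (tabOf chevE8).refl ((tabOf chevE8).simple j) r = _
  rw [tab_E8]

theorem e8c_st_cr_eq (s i : ℕ) : cr chevE8 s i = fastE8.cr s i := by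
  have h : ∀ D : ChevalleyDatum, cr D s i = (tabOf D).cr s i := fun _ => rfl
  rw [h, tab_E8]

theorem e8c_st_reflWord_eq (v : List ℕ) (r : ℕ) :
    (tabOf chevE8).reflWord v r = fastE8.reflWord v r := by
  rw [tab_E8]

theorem e8c_st_reflWord_lt {v : List ℕ} (hv : ∀ i ∈ v, i < 8) {r : ℕ} (hr : r < 240) :
    (tabOf chevE8).reflWord v r < 240 :=
  reflWord_lt e8c_good2 (D := chevE8) hv hr

/-- the words in the nodes `≠ 3` preserve the level -/
theorem e8c_st_lev_reflWord {v : List ℕ} (hv : ∀ i ∈ v, i < 8 ∧ i ≠ 3) {r : ℕ} (hr : r < 240) :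
    e8c_st_lev ((tabOf chevE8).reflWord v r) = e8c_st_lev r := by
  induction v with
  | nil => rfl
  | cons i v ih =>
    have hv' : ∀ j ∈ v, j < 8 ∧ j ≠ 3 := fun j hj => hv j (List.mem_cons_of_mem _ hj)
    obtain ⟨hi, hi3⟩ := hv i List.mem_cons_self
    rw [reflWord_cons, e8c_st_refl_eq,
      e8c_st_C2 i hi hi3 _ (e8c_st_reflWord_lt (fun j hj => (hv' j hj).1) hr), ih hv']

theorem e8c_st_word_spec {r : ℕ} (hr : r < 240) (hl : 1 ≤ e8c_st_lev r) :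
    (∀ j ∈ e8c_st_word r, j < 8 ∧ j ≠ 3) ∧
      (tabOf chevE8).reflWord (e8c_st_word r) r = e8c_st_low (e8c_st_lev r).toNat := by
  have h12 : (e8c_st_word r).all (fun j => decide (j < 8 ∧ j ≠ 3)) = true ∧
      fastE8.reflWord (e8c_st_word r) r = e8c_st_low (e8c_st_lev r).toNat := e8c_st_C1 r hr hl
  obtain ⟨h1, h2⟩ := h12
  rw [List.all_eq_true] at h1
  refine ⟨fun j hj => of_decide_eq_true (h1 j hj), ?_⟩
  rw [e8c_st_reflWord_eq]
  exact h2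

/-- a word in the nodes of `J` gives an element of `P_J` -/
theorem e8c_nWordGL_mem_parabolic {D : ChevalleyDatum} {F : Type*} [Field F] (hG : Good2 D)
    {J : Set ℕ} {v : List ℕ} (hv : ∀ i ∈ v, i < D.rank ∧ i ∈ J) :
    (nWordGL hG v : GL D.Idx F) ∈ D.parabolicSubgroup F J := by
  induction v with
  | nil => rw [nWordGL_nil]; exact one_mem _
  | cons i v ih =>
    have hv' : ∀ j ∈ v, j < D.rank ∧ j ∈ J := fun j hj => hv j (List.mem_cons_of_mem _ hj)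
    obtain ⟨hi, hiJ⟩ := hv i List.mem_cons_self
    rw [nWordGL_cons hG hi]
    exact mul_mem (nGL_mem_parabolic hG hi hiJ) (ih hv')

theorem e8c_st_pos_lt {r : ℕ} (hr : chevE8.IsPosRoot r) : r < 240 := hr.1

/-- the table hypothesis of the generic step, levels `≥ 2` -/
theorem e8c_st_htab (k : ℕ) (hk : 1 ≤ k) :
    ∀ r1, chevE8.IsPosRoot r1 → fJ chevE8 wtMatE8 e8c_J r1 = ((k + 1 : ℕ) : ℤ) →
      ∃ v' : List ℕ, (∀ i ∈ v', i < chevE8.rank) ∧
        (nWordGL e8c_good2 v' : e8c_GL) ∈ e8c_PGL ∧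
        fJ chevE8 wtMatE8 e8c_J ((tabOf chevE8).reflWord (3 :: v') r1) = (k : ℤ) ∧
        ∀ r, chevE8.IsPosRoot r → ((k + 1 : ℕ) : ℤ) ≤ fJ chevE8 wtMatE8 e8c_J r →
          (k : ℤ) ≤ fJ chevE8 wtMatE8 e8c_J ((tabOf chevE8).reflWord (3 :: v') r) := by
  intro r1 hr1 hr1k
  have hr1lt : r1 < 240 := hr1.1
  rw [e8c_st_lev_eq] at hr1k
  have hl1 : 1 ≤ e8c_st_lev r1 := by rw [hr1k]; push_cast; omega
  obtain ⟨hw, hlow⟩ := e8c_st_word_spec hr1lt hl1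
  have h6 : e8c_st_lev r1 ≤ 6 := e8c_st_C6 r1 hr1lt
  have hk6 : k + 1 < 7 := by
    rw [hr1k] at h6
    omega
  refine ⟨e8c_st_word r1, fun i hi => (hw i hi).1, ?_, ?_, ?_⟩
  · exact e8c_nWordGL_mem_parabolic e8c_good2 (fun i hi => ⟨(hw i hi).1, (hw i hi).2⟩)
  · rw [reflWord_cons, hlow, e8c_st_lev_eq, e8c_st_refl_eq, hr1k, Int.toNat_natCast,
      e8c_st_C5 (k + 1) hk6 (by omega)]
    push_cast
    ring
  · intro r hr hrk
    have hrlt : r < 240 := hr.1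
    rw [e8c_st_lev_eq] at hrk
    rw [reflWord_cons, e8c_st_lev_eq, e8c_st_refl_eq]
    have hlt := e8c_st_reflWord_lt (fun j hj => (hw j hj).1) hrlt
    have hlev := e8c_st_lev_reflWord hw hrlt
    have h3 := e8c_st_C3 _ hlt (by rw [hlev]; push_cast at hrk; omega)
    rw [hlev] at h3
    push_cast at hrk
    omega

/-- the table hypothesis of the generic first step -/
theorem e8c_st_htab1 :
    ∀ r1, chevE8.IsPosRoot r1 → fJ chevE8 wtMatE8 e8c_J r1 = ((0 + 1 : ℕ) : ℤ) →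
      ∃ v' : List ℕ, (∀ i ∈ v', i < chevE8.rank) ∧
        (nWordGL e8c_good2 v' : e8c_GL) ∈ e8c_PGL ∧
        fJ chevE8 wtMatE8 e8c_J ((tabOf chevE8).reflWord (3 :: v') r1) < 0 ∧
        (∃ i : Fin chevE8.rank,
          ((cr chevE8 ((tabOf chevE8).reflWord (3 :: v') r1) i.val : ℤ) : ZMod 2) ≠ 0) ∧
        ∀ r, chevE8.IsPosRoot r → ((0 + 1 : ℕ) : ℤ) ≤ fJ chevE8 wtMatE8 e8c_J r → r ≠ r1 →
          0 ≤ fJ chevE8 wtMatE8 e8c_J ((tabOf chevE8).reflWord (3 :: v') r) := by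
  intro r1 hr1 hr1k
  have hr1lt : r1 < 240 := hr1.1
  rw [e8c_st_lev_eq] at hr1k
  have hl1 : 1 ≤ e8c_st_lev r1 := by rw [hr1k]; norm_num
  obtain ⟨hw, hlow⟩ := e8c_st_word_spec hr1lt hl1
  obtain ⟨c1, c2, c3, c4⟩ := e8c_st_C5'
  have hlow' : (tabOf chevE8).reflWord (e8c_st_word r1) r1 = 130 := by
    rw [hlow, hr1k, Int.toNat_natCast]
    decide
  have hrefl : (tabOf chevE8).reflWord (3 :: e8c_st_word r1) r1 = 109 := by
    rw [reflWord_cons, hlow', e8c_st_refl_eq, c2]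
  refine ⟨e8c_st_word r1, fun i hi => (hw i hi).1, ?_, ?_, ?_, ?_⟩
  · exact e8c_nWordGL_mem_parabolic e8c_good2 (fun i hi => ⟨(hw i hi).1, (hw i hi).2⟩)
  · rw [hrefl, e8c_st_lev_eq, c3]; norm_num
  · refine ⟨⟨3, e8c_three_lt⟩, ?_⟩
    rw [hrefl]
    have : cr chevE8 109 3 = -1 := by
      rw [e8c_st_cr_eq]; exact c4
    change ((cr chevE8 109 3 : ℤ) : ZMod 2) ≠ 0
    rw [this]
    decide
  · intro r hr hrk hne
    have hrlt : r < 240 := hr.1
    rw [e8c_st_lev_eq] at hrk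
    rw [reflWord_cons, e8c_st_lev_eq, e8c_st_refl_eq]
    have hlt := e8c_st_reflWord_lt (fun j hj => (hw j hj).1) hrlt
    have hlev := e8c_st_lev_reflWord hw hrlt
    have hne' : (tabOf chevE8).reflWord (e8c_st_word r1) r ≠ 130 := by
      intro h
      apply hne
      have h1 := reflWord_reverse e8c_good2 (D := chevE8) (fun j hj => (hw j hj).1) hrlt
      have h2 := reflWord_reverse e8c_good2 (D := chevE8) (fun j hj => (hw j hj).1) hr1lt
      rw [h, ← hlow', h2] at h1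
      exact h1.symm
    exact e8c_st_C4 _ hlt (by rw [hlev]; push_cast at hrk; omega) hne'

/-- every coroot of `E8` has a coordinate which is odd -/
theorem e8c_st_hodd : ∀ s < chevE8.nroots,
    ∃ i : Fin chevE8.rank, ((cr chevE8 s i.val : ℤ) : ZMod 2) ≠ 0 := by
  intro s hs
  have h : ((List.range 8).any fun i => decide (fastE8.cr s i % 2 ≠ 0)) = true := e8c_st_C7 s hs
  rw [List.any_eq_true] at h
  obtain ⟨i, hi, hodd⟩ := h
  rw [List.mem_range] at hi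
  have hodd' : fastE8.cr s i % 2 ≠ 0 := of_decide_eq_true hodd
  refine ⟨⟨i, hi⟩, ?_⟩
  change ((cr chevE8 s i : ℤ) : ZMod 2) ≠ 0
  rw [e8c_st_cr_eq]
  intro h0
  apply hodd'
  have := (ZMod.intCast_zmod_eq_zero_iff_dvd (fastE8.cr s i) 2).mp h0
  omega

/-! ### the steps -/

theorem e8c_gGL_inv (hg2 : e8c_gGL * e8c_gGL = 1) : e8c_gGL⁻¹ = e8c_gGL :=
  inv_eq_of_mul_eq_one_left hg2

/-- **the step, levels `k ≥ 2`**, in the shape of `e8c_final` -/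
theorem e8c_step (hg2 : e8c_gGL * e8c_gGL = 1) (hA2 : e8c_A2Hyp) :
    ∀ k, 2 ≤ k → ∀ N : Subgroup e8c_GL, N ≤ e8c_QGL k →
      (∀ p ∈ e8c_PGL, ∀ x ∈ N, p * x * p⁻¹ ∈ N) →
      (∀ x ∈ N, e8c_gGL⁻¹ * x * e8c_gGL ∈ e8c_QGL k) → N ≤ e8c_QGL (k + 1) := by
  intro k hk N hNQ hnorm hg
  obtain ⟨k', rfl⟩ : ∃ k', k = k' + 1 := ⟨k - 1, by omega⟩
  have hk' : 1 ≤ k' := by omega
  have hNU : N ≤ chevE8.posUnipotent (ZMod 2) := fun x hx => (hNQ hx).1
  have hNk : N ≤ UTk (ZMod 2) (lvlJ chevE8 wtMatE8 e8c_J) k' := fun x hx => (hNQ hx).2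
  have hmain := e8c_step_gen (F := ZMod 2) (W := wtMatE8) e8c_good2 T0_E8 e8c_J T3_E8 T4_E8 T7_E8
    k' hk' N e8c_PGL hNU hNk hnorm e8c_three_lt (by
      intro x hx
      have h := (hg x hx).2
      rw [e8c_gGL_inv hg2] at h
      have e : e8c_gGL * x * e8c_gGL⁻¹ = e8c_gGL * x * e8c_gGL := by rw [e8c_gGL_inv hg2]
      change e8c_gGL * x * e8c_gGL⁻¹ ∈ _
      rw [e]
      exact h)
    (fun u t hu huk ht r hr hlt => hA2 k' u t hu huk ht r hr hlt)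
    e8c_st_hodd (e8c_st_htab k' hk')
  intro x hx
  exact ⟨hNU hx, hmain hx⟩

/-- **the first step**, in the shape of `e8c_final` -/
theorem e8c_step1 (hg2 : e8c_gGL * e8c_gGL = 1) (hA2 : e8c_A2Hyp) :
    ∀ N : Subgroup e8c_GL, N ≤ e8c_QGL 1 →
      (∀ p ∈ e8c_PGL, ∀ x ∈ N, p * x * p⁻¹ ∈ N) →
      (∀ x ∈ N, e8c_gGL⁻¹ * x * e8c_gGL ∈ e8c_PGL) → N ≤ e8c_QGL 2 := by
  intro N hNQ hnorm hg
  have hNU : N ≤ chevE8.posUnipotent (ZMod 2) := fun x hx => (hNQ hx).1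
  have hNk : N ≤ UTk (ZMod 2) (lvlJ chevE8 wtMatE8 e8c_J) 0 := fun x hx => (hNQ hx).2
  have hPF : e8c_PGL ≤ e8c_Fil0 (ZMod 2) (lvlJ chevE8 wtMatE8 e8c_J) :=
    e8c_fc_parabolic_le_Fil0 e8c_good2 T0_E8 T16_E8 T9_E8 e8c_J
  have hmain := e8c_step1_gen (F := ZMod 2) (W := wtMatE8) e8c_good2 T0_E8 e8c_J T3_E8 T4_E8 T7_E8
    N e8c_PGL hNU hNk hnorm e8c_three_lt (by
      intro x hx
      have h := hPF (hg x hx)
      rw [e8c_gGL_inv hg2] at h
      have e : e8c_gGL * x * e8c_gGL⁻¹ = e8c_gGL * x * e8c_gGL := by rw [e8c_gGL_inv hg2]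
      change e8c_gGL * x * e8c_gGL⁻¹ ∈ _
      rw [e]
      exact h)
    (fun u t hu huk ht r hr hlt => hA2 0 u t hu huk ht r hr hlt)
    e8c_st_htab1
  intro x hx
  exact ⟨hNU hx, hmain hx⟩

end Cfsg.Agent.E8C
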