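import Mathlib
import Cfsg.Agent.E8C.Step
import Cfsg.Agent.E8C.Coeff
import Cfsg.Agent.E8C.GSq
import Cfsg.Agent.Helper7.ChevT7

set_option autoImplicit false

/-!
# S5751 (swarm "E8C"): the step lemmas for `E8(2)` with all inputs discharged (helper5)

`e8c_hstep1` and `e8c_hstep` are exactly the hypotheses `hstep1` and `hstep` of `e8c_final`.
-/

namespace Cfsg.Agent.E8C

open Cfsg Cfsg.Lie Matrix Cfsg.Agent.Helper7 Cfsg.Agent.Helper7.Chev Cfsg.Agent.Helper7.Tri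

/-- the coefficient lemma A2 (helper3's `e8c_coeff_zero`) for `E8(2)` -/
theorem e8c_A2 : e8c_A2Hyp := fun k _ t _ huk ht r hr hlt =>
  e8c_coeff_zero e8c_good2 T0_E8 T16_E8 T8_E8 e8c_J (k := k) t ht huk r hr hlt

/-- **`hstep1` of `e8c_final`** -/
theorem e8c_hstep1 : ∀ N : Subgroup e8c_GL, N ≤ e8c_QGL 1 →
    (∀ p ∈ e8c_PGL, ∀ x ∈ N, p * x * p⁻¹ ∈ N) →
    (∀ x ∈ N, e8c_gGL⁻¹ * x * e8c_gGL ∈ e8c_PGL) → N ≤ e8c_QGL 2 :=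
  e8c_step1 e8c_gsq e8c_A2

/-- **`hstep` of `e8c_final`** -/
theorem e8c_hstep : ∀ k, 2 ≤ k → ∀ N : Subgroup e8c_GL, N ≤ e8c_QGL k →
    (∀ p ∈ e8c_PGL, ∀ x ∈ N, p * x * p⁻¹ ∈ N) →
    (∀ x ∈ N, e8c_gGL⁻¹ * x * e8c_gGL ∈ e8c_QGL k) → N ≤ e8c_QGL (k + 1) :=
  e8c_step e8c_gsq e8c_A2

end Cfsg.Agent.E8C
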