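import Mathlib
import Cfsg.Agent.E8C.StepE8

set_option autoImplicit false
set_option linter.unusedSectionVars false
set_option linter.unusedVariables false

/-!
# S5751 (swarm "E8C"): the shift `g Q_{k+1} g⁻¹ ≤ Q_k` (helper5, backup of helper3's `Shift.lean`)
-/

namespace Cfsg.Agent.E8C

open Cfsg Cfsg.Lie Matrix Cfsg.Agent.Helper7 Cfsg.Agent.Helper7.Chev Cfsg.Agent.Helper7.Tri

theorem e8c_shb_g_eq : e8c_gGL = nWordGL e8c_good2 [3] := by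
  rw [nWordGL_cons e8c_good2 e8c_three_lt, nWordGL_nil, mul_one]
  rfl

/-- **`hQshift` of `e8c_final`** -/
theorem e8c_shb_shift : ∀ k, 1 ≤ k → ∀ x ∈ e8c_QGL (k + 1),
    e8c_gGL * x * e8c_gGL⁻¹ ∈ e8c_QGL k := by
  intro k hk x hx
  obtain ⟨k', rfl⟩ : ∃ k', k = k' + 1 := ⟨k - 1, by omega⟩
  have hxU : x ∈ chevE8.posUnipotent (ZMod 2) := hx.1
  have hxk : x ∈ UTk (ZMod 2) (lvlJ chevE8 wtMatE8 e8c_J) (k' + 1) := hx.2
  obtain ⟨t, ht1, ht⟩ := posUnipotent_word e8c_good2 T0_E8 T3_E8 T4_E8 T7_E8 hxU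
  have ht0 : ∀ r, chevE8.IsPosRoot r →
      fJ chevE8 wtMatE8 e8c_J r < ((k' + 1 + 1 : ℕ) : ℤ) → t r = 0 :=
    e8c_A2 (k' + 1) x t hxU hxk ht
  have hx' : x = e8c_wordGL e8c_good1
      (e8c_topWord chevE8 wtMatE8 e8c_J ((k' + 1 + 1 : ℕ) : ℤ) t) := by
    rw [e8c_wordGL_topWord e8c_J e8c_good1 _ t ht0]
    exact e8c_wordGL_eq_of_coe e8c_good1 ht
  have hv : ∀ i ∈ ([3] : List ℕ), i < chevE8.rank := by
    intro i hi
    rw [List.mem_singleton] at hi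
    rw [hi]; exact e8c_three_lt
  have hconj := e8c_conj_wordGL (F := ZMod 2) e8c_good2 hv
    (e8c_topWord chevE8 wtMatE8 e8c_J ((k' + 1 + 1 : ℕ) : ℤ) t)
    (fun p hp => (e8c_mem_topWord e8c_J hp).1.1)
  rw [e8c_shb_g_eq, hx', hconj]
  -- every letter of the conjugated word lies in `Q (k' + 1)`
  apply e8c_wordGL_mem
  intro q hq
  obtain ⟨p, hp, rfl⟩ := e8c_mem_conjWord hq
  obtain ⟨hp1, hp2, _⟩ := e8c_mem_topWord e8c_J hp
  have hplt : p.1 < 240 := hp1.1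
  rw [e8c_st_lev_eq] at hp2
  have hrefl : (tabOf chevE8).reflWord [3] p.1 = fastE8.refl (fastE8.simple 3) p.1 := by
    rw [reflWord_cons, e8c_st_refl_eq]
    rfl
  have h3 : e8c_st_lev p.1 - 1 ≤ e8c_st_lev (fastE8.refl (fastE8.simple 3) p.1) :=
    e8c_st_C3 p.1 hplt (by push_cast at hp2; omega)
  have hlt : (tabOf chevE8).reflWord [3] p.1 < 240 := e8c_st_reflWord_lt (by
    intro i hi
    rw [List.mem_singleton] at hi
    rw [hi]; norm_num) hplt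
  have hlev : ((k' + 1 : ℕ) : ℤ) ≤ e8c_st_lev ((tabOf chevE8).reflWord [3] p.1) := by
    rw [hrefl]
    push_cast at hp2 ⊢
    omega
  have hpos : chevE8.IsPosRoot ((tabOf chevE8).reflWord [3] p.1) := by
    rw [isPosRoot_iff T0_E8 hlt]
    have h8 : 120 ≤ (tabOf chevE8).reflWord [3] p.1 :=
      e8c_st_C8 _ hlt (by push_cast at hlev; omega)
    exact h8
  rw [e8c_xGL'_of_lt e8c_good1 hlt]
  refine ⟨?_, ?_⟩
  · exact Subgroup.subset_closure ⟨_, _, hpos, xGL_coe e8c_good1 hlt _⟩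
  · change _ ∈ UTk (ZMod 2) (lvlJ chevE8 wtMatE8 e8c_J) (k' + 1 - 1)
    rw [Nat.add_sub_cancel]
    apply e8c_fc_x_mem_UTk e8c_good2 e8c_J hlt
    rw [e8c_st_lev_eq]
    exact hlev

end Cfsg.Agent.E8C
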