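import Mathlib
import Cfsg.Agent.E8C.Defs
import Cfsg.Agent.E8C.QFactsA
import Cfsg.Agent.Helper7.ChevMinus

set_option autoImplicit false
set_option linter.unusedSectionVars false
set_option linter.unusedVariables false
set_option maxRecDepth 100000

/-!
# S5751 (swarm "E8C"), piece [B] (helper7): the table facts of type `E₈` for the branch node

`e8c_lev r` (the coefficient of the branch node `3` in the root `r`) equals the coroot coefficient
`cr chevE8 r 3`.  All facts are phrased with `(tabOf chevE8).refl ((tabOf chevE8).simple j)` and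
`(tabOf chevE8).reflWord`, the functions of `Helper7.Chev.nWordGL_conj`.
-/

namespace Cfsg.Agent.E8C

open Cfsg Cfsg.Lie Cfsg.Agent.Helper7 Cfsg.Agent.Helper7.Chev

/-- the lowest root of level `k`, `1 ≤ k ≤ 6` -/
def e8c_low : ℕ → ℕ
  | 1 => 130
  | 2 => 152
  | 3 => 194
  | 4 => 214
  | 5 => 224
  | 6 => 235
  | _ => 0

/-- the longest element of `W_J` (type `A₁ × A₂ × A₄`) -/
def e8c_wJ : List ℕ := [1, 0, 2, 0, 4, 5, 4, 6, 5, 4, 7, 6, 5, 4]

/-- the table facts -/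
def e8c_TabOK (T : Tab) : Prop :=
  AllLt T.n (fun r => T.wt wtMatE8 3 r = T.cr r 3) ∧
  AllLt T.n (fun r => ¬ AllLt T.l (fun i => T.cr r i % 2 = 0)) ∧
  AllLt T.n (fun r => AllLt T.l (fun j => j ≠ 3 → T.cr (T.refl (T.simple j) r) 3 = T.cr r 3)) ∧
  AllLt T.n (fun r => r ≠ T.simple 3 → r ≠ T.neg (T.simple 3) →
    T.cr r 3 - 1 ≤ T.cr (T.refl (T.simple 3) r) 3) ∧
  AllLt T.n (fun r => T.n / 2 ≤ r → r ≠ T.simple 3 → T.n / 2 ≤ T.refl (T.simple 3) r) ∧
  AllLt T.n (fun r => 1 ≤ T.cr r 3 → r ≠ e8c_low (T.cr r 3).toNat →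
    ¬ AllLt T.l (fun j => ¬ (j ≠ 3 ∧ T.refl (T.simple j) r < r))) ∧
  AllLt T.n (fun r => (1 ≤ T.cr r 3 → T.n / 2 ≤ r) ∧ T.cr r 3 ≤ 6 ∧ (T.n / 2 ≤ r → 0 ≤ T.cr r 3)) ∧
  AllLt 7 (fun k => 1 ≤ k → e8c_low k < T.n ∧ T.cr (e8c_low k) 3 = (k : ℤ)) ∧
  AllLt 7 (fun k => 2 ≤ k → T.cr (T.refl (T.simple 3) (e8c_low k)) 3 = (k : ℤ) - 1) ∧
  e8c_low 1 = T.simple 3 ∧
  AllLt T.n (fun r => T.n / 2 ≤ r → T.cr r 3 = 0 → T.reflWord e8c_wJ r < T.n / 2)

instance (T : Tab) : Decidable (e8c_TabOK T) := by unfold e8c_TabOK; infer_instance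

set_option maxRecDepth 1000000 in
set_option maxHeartbeats 0 in
theorem e8c_tabOK_fast : e8c_TabOK fastE8 := by decide +kernel

theorem e8c_tabOK : e8c_TabOK (tabOf chevE8) := tab_E8 ▸ e8c_tabOK_fast

/-! ### The facts in usable form -/

/-- the level is the coroot coefficient at the branch node -/
theorem e8c_lev_eq_cr {r : ℕ} (hr : r < chevE8.nroots) : e8c_lev r = cr chevE8 r 3 := by
  rw [e8c_qf_lev_eq, ← tab_E8]
  exact e8c_tabOK.1 r hr

/-- (T5) some coroot coefficient of a root is odd -/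
theorem e8c_hodd {s : ℕ} (hs : s < chevE8.nroots) :
    ∃ i : Fin chevE8.rank, ((cr chevE8 s i.val : ℤ) : ZMod 2) ≠ 0 := by
  have h := e8c_tabOK.2.1 s hs
  unfold AllLt at h
  push_neg at h
  obtain ⟨i, hi, hne⟩ := h
  refine ⟨⟨i, hi⟩, ?_⟩
  intro h0
  apply hne
  have := (ZMod.intCast_zmod_eq_zero_iff_dvd (cr chevE8 s i) 2).mp h0
  exact Int.emod_eq_zero_of_dvd this

/-- (T2) the fundamental reflections of `J` preserve the level -/
theorem e8c_lev_refl {j : ℕ} (hj : j < chevE8.rank) (hj3 : j ≠ 3) {r : ℕ} (hr : r < chevE8.nroots) :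
    e8c_lev ((tabOf chevE8).refl (chevE8.simple j) r) = e8c_lev r := by
  have hr' : (tabOf chevE8).refl (chevE8.simple j) r < chevE8.nroots :=
    e8c_good2.refl_lt hj hr
  rw [e8c_lev_eq_cr hr, e8c_lev_eq_cr hr']
  exact e8c_tabOK.2.2.1 r hr j hj hj3

/-- the words in `J` preserve the level -/
theorem e8c_lev_reflWord {v : List ℕ} (hv : ∀ j ∈ v, j < chevE8.rank ∧ j ≠ 3) {r : ℕ} (hr : r < chevE8.nroots) :
    e8c_lev ((tabOf chevE8).reflWord v r) = e8c_lev r := by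
  induction v with
  | nil => rfl
  | cons j v ih =>
    have hv' : ∀ i ∈ v, i < chevE8.rank ∧ i ≠ 3 := fun i hi => hv i (List.mem_cons_of_mem _ hi)
    have hj := hv j List.mem_cons_self
    have hlt : (tabOf chevE8).reflWord v r < chevE8.nroots :=
      reflWord_lt e8c_good2 (fun i hi => (hv' i hi).1) hr
    rw [reflWord_cons, e8c_lev_refl hj.1 hj.2 hlt, ih hv']

/-- (T3) the reflection of the branch node lowers the level by at most one -/
theorem e8c_lev_refl3 {r : ℕ} (hr : r < chevE8.nroots) (h1 : r ≠ chevE8.simple 3)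
    (h2 : r ≠ chevE8.neg (chevE8.simple 3)) :
    e8c_lev r - 1 ≤ e8c_lev ((tabOf chevE8).refl (chevE8.simple 3) r) := by
  have hr' : (tabOf chevE8).refl (chevE8.simple 3) r < chevE8.nroots :=
    e8c_good2.refl_lt e8c_three_lt hr
  rw [e8c_lev_eq_cr hr, e8c_lev_eq_cr hr']
  exact e8c_tabOK.2.2.2.1 r hr h1 h2

/-- (T3) the reflection of the branch node permutes the other positive roots -/
theorem e8c_pos_refl3 {r : ℕ} (hr : r < chevE8.nroots) (hpos : chevE8.nroots / 2 ≤ r) (h1 : r ≠ chevE8.simple 3) :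
    chevE8.nroots / 2 ≤ (tabOf chevE8).refl (chevE8.simple 3) r :=
  e8c_tabOK.2.2.2.2.1 r hr hpos h1

/-- a root of positive level is positive -/
theorem e8c_pos_of_lev {r : ℕ} (hr : r < chevE8.nroots) (h1 : 1 ≤ e8c_lev r) : chevE8.nroots / 2 ≤ r := by
  rw [e8c_lev_eq_cr hr] at h1
  exact (e8c_tabOK.2.2.2.2.2.2.1 r hr).1 h1

theorem e8c_lev_le_six {r : ℕ} (hr : r < chevE8.nroots) : e8c_lev r ≤ 6 := by
  rw [e8c_lev_eq_cr hr]
  exact (e8c_tabOK.2.2.2.2.2.2.1 r hr).2.1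

theorem e8c_lev_nonneg {r : ℕ} (hr : r < chevE8.nroots) (hpos : chevE8.nroots / 2 ≤ r) : 0 ≤ e8c_lev r := by
  rw [e8c_lev_eq_cr hr]
  exact (e8c_tabOK.2.2.2.2.2.2.1 r hr).2.2 hpos

/-- (T4) the lowest roots -/
theorem e8c_low_lt {k : ℕ} (h1 : 1 ≤ k) (h6 : k ≤ 6) : e8c_low k < chevE8.nroots :=
  (e8c_tabOK.2.2.2.2.2.2.2.1 k (by omega) h1).1

theorem e8c_lev_low {k : ℕ} (h1 : 1 ≤ k) (h6 : k ≤ 6) : e8c_lev (e8c_low k) = (k : ℤ) := by
  rw [e8c_lev_eq_cr (e8c_low_lt h1 h6)]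
  exact (e8c_tabOK.2.2.2.2.2.2.2.1 k (by omega) h1).2

theorem e8c_lev_refl3_low {k : ℕ} (h2 : 2 ≤ k) (h6 : k ≤ 6) :
    e8c_lev ((tabOf chevE8).refl (chevE8.simple 3) (e8c_low k)) = (k : ℤ) - 1 := by
  have hr' : (tabOf chevE8).refl (chevE8.simple 3) (e8c_low k) < chevE8.nroots :=
    e8c_good2.refl_lt e8c_three_lt (e8c_low_lt (by omega) h6)
  rw [e8c_lev_eq_cr hr']
  exact e8c_tabOK.2.2.2.2.2.2.2.2.1 k (by omega) h2

theorem e8c_low_one : e8c_low 1 = chevE8.simple 3 := e8c_tabOK.2.2.2.2.2.2.2.2.2.1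

/-- (T1) the group `W_J` is transitive on the roots of each positive level -/
theorem e8c_exists_word : ∀ r : ℕ, r < chevE8.nroots → 1 ≤ e8c_lev r →
    ∃ v : List ℕ, (∀ j ∈ v, j < chevE8.rank ∧ j ≠ 3) ∧
      (tabOf chevE8).reflWord v r = e8c_low (e8c_lev r).toNat := by
  intro r
  induction r using Nat.strong_induction_on with
  | _ r ih =>
    intro hr h1
    by_cases hlow : r = e8c_low (e8c_lev r).toNat
    · exact ⟨[], by simp, hlow⟩
    · have h1' := h1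
      rw [e8c_lev_eq_cr hr] at h1' hlow
      have h := e8c_tabOK.2.2.2.2.2.1 r hr h1' hlow
      unfold AllLt at h
      push_neg at h
      obtain ⟨j, hj, hj3, hlt0⟩ := h
      have hj8 : j < chevE8.rank := hj
      have hlt : (tabOf chevE8).refl (chevE8.simple j) r < r := hlt0
      have hr' : (tabOf chevE8).refl (chevE8.simple j) r < chevE8.nroots := lt_trans hlt hr
      have hlev : e8c_lev ((tabOf chevE8).refl (chevE8.simple j) r) = e8c_lev r :=
        e8c_lev_refl hj8 hj3 hr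
      obtain ⟨v, hv, hvr⟩ := ih _ hlt hr' (by rw [hlev]; exact h1)
      refine ⟨v ++ [j], ?_, ?_⟩
      · intro i hi
        rw [List.mem_append, List.mem_singleton] at hi
        rcases hi with hi | rfl
        · exact hv i hi
        · exact ⟨hj8, hj3⟩
      · rw [reflWord_append]
        change (tabOf chevE8).reflWord v ((tabOf chevE8).refl (chevE8.simple j) r) = _
        rw [hvr, hlev]

/-- the longest element of `W_J` makes the positive roots of level `0` negative -/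
theorem e8c_wJ_neg {r : ℕ} (hr : r < chevE8.nroots) (hpos : chevE8.nroots / 2 ≤ r) (h0 : e8c_lev r = 0) :
    (tabOf chevE8).reflWord e8c_wJ r < chevE8.nroots / 2 := by
  rw [e8c_lev_eq_cr hr] at h0
  exact e8c_tabOK.2.2.2.2.2.2.2.2.2.2 r hr hpos h0

theorem e8c_wJ_mem : ∀ j ∈ e8c_wJ, j < chevE8.rank ∧ j ≠ 3 := by decide

end Cfsg.Agent.E8C
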