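import Mathlib
import Cfsg.Agent.E8C.QFactsA

set_option autoImplicit false
set_option linter.unusedSectionVars false
set_option linter.unusedVariables false

/-!
E8C / S5751 (helper2): table facts on the level `e8c_lev` (coefficient of the branch node `3`) of the
roots of `E8` under the fundamental reflections, and the odd coroot coefficient (`hodd`).
Reflections are `(tabOf chevE8).refl ((tabOf chevE8).simple j) r`, i.e. `(tabOf chevE8).reflWord [j] r`.
-/

namespace Cfsg.Agent.E8C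

open Cfsg Cfsg.Lie Matrix Cfsg.Agent.Helper7 Cfsg.Agent.Helper7.Chev Cfsg.Agent.Helper7.Tri

/-- the level on the fast table -/
def e8c_tl_lev (r : ℕ) : ℤ := fastE8.wt wtMatE8 3 r

theorem e8c_tl_lev_eq (r : ℕ) : e8c_lev r = e8c_tl_lev r := e8c_qf_lev_eq r

set_option maxRecDepth 1000000 in
set_option maxHeartbeats 0 in
/-- (T2) the reflections of the nodes `j ≠ 3` preserve the level -/
theorem e8c_tl_T2_fast : ∀ j < 8, j ≠ 3 → ∀ r < 240,
    e8c_tl_lev (fastE8.refl (fastE8.simple j) r) = e8c_tl_lev r := by decide +kernel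

set_option maxRecDepth 1000000 in
set_option maxHeartbeats 0 in
/-- (T3) the reflection of the node `3` lowers the level by at most `1`, except on `±α₃` -/
theorem e8c_tl_T3_fast : ∀ r < 240, r ≠ fastE8.simple 3 → r ≠ fastE8.neg (fastE8.simple 3) →
    e8c_tl_lev r - 1 ≤ e8c_tl_lev (fastE8.refl (fastE8.simple 3) r) ∧
    e8c_tl_lev (fastE8.refl (fastE8.simple 3) r) ≤ e8c_tl_lev r + 1 := by decide +kernel

set_option maxRecDepth 1000000 in
set_option maxHeartbeats 0 in
/-- (T3') the reflection of the node `3` permutes the positive roots other than `α₃` -/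
theorem e8c_tl_T3pos_fast : ∀ r < 240, 120 ≤ r → r ≠ fastE8.simple 3 →
    120 ≤ fastE8.refl (fastE8.simple 3) r := by decide +kernel

set_option maxRecDepth 1000000 in
set_option maxHeartbeats 0 in
/-- the levels of the positive roots lie between `0` and `6`; those of `α₃` and `-α₃` are `±1` -/
theorem e8c_tl_range_fast : (∀ r < 240, 120 ≤ r → 0 ≤ e8c_tl_lev r ∧ e8c_tl_lev r ≤ 6) ∧
    e8c_tl_lev (fastE8.simple 3) = 1 ∧ e8c_tl_lev (fastE8.neg (fastE8.simple 3)) = -1 ∧
    fastE8.refl (fastE8.simple 3) (fastE8.simple 3) = fastE8.neg (fastE8.simple 3) := by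
  decide +kernel

set_option maxRecDepth 1000000 in
set_option maxHeartbeats 0 in
/-- (T5) every coroot has an odd coefficient -/
theorem e8c_tl_T5_fast : ∀ s < 240, ∃ i < 8, fastE8.cr s i % 2 ≠ 0 := by decide +kernel

/-! ### the same on `tabOf chevE8` and `e8c_lev` -/

theorem e8c_tl_lev_refl {j : ℕ} (hj : j < 8) (hj3 : j ≠ 3) {r : ℕ} (hr : r < 240) :
    e8c_lev ((tabOf chevE8).refl ((tabOf chevE8).simple j) r) = e8c_lev r := by
  rw [e8c_tl_lev_eq, e8c_tl_lev_eq, tab_E8]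
  exact e8c_tl_T2_fast j hj hj3 r hr

/-- a word in the nodes `≠ 3` preserves the level -/
theorem e8c_tl_lev_reflWord {v : List ℕ} (hv : ∀ j ∈ v, j < 8 ∧ j ≠ 3) {r : ℕ} (hr : r < 240) :
    e8c_lev ((tabOf chevE8).reflWord v r) = e8c_lev r := by
  induction v with
  | nil => rfl
  | cons j v ih =>
    have hv' : ∀ i ∈ v, i < 8 ∧ i ≠ 3 := fun i hi => hv i (List.mem_cons_of_mem _ hi)
    have hlt : (tabOf chevE8).reflWord v r < 240 :=
      reflWord_lt good2_E8 (fun i hi => (hv' i hi).1) hr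
    obtain ⟨hj, hj3⟩ := hv j List.mem_cons_self
    have e : (tabOf chevE8).reflWord (j :: v) r =
        (tabOf chevE8).refl ((tabOf chevE8).simple j) ((tabOf chevE8).reflWord v r) := rfl
    rw [e, e8c_tl_lev_refl hj hj3 hlt, ih hv']

theorem e8c_tl_lev_refl3 {r : ℕ} (hr : r < 240) (h1 : r ≠ (tabOf chevE8).simple 3)
    (h2 : r ≠ (tabOf chevE8).neg ((tabOf chevE8).simple 3)) :
    e8c_lev r - 1 ≤ e8c_lev ((tabOf chevE8).refl ((tabOf chevE8).simple 3) r) ∧
    e8c_lev ((tabOf chevE8).refl ((tabOf chevE8).simple 3) r) ≤ e8c_lev r + 1 := by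
  rw [e8c_tl_lev_eq, e8c_tl_lev_eq]
  rw [tab_E8] at h1 h2 ⊢
  exact e8c_tl_T3_fast r hr h1 h2

theorem e8c_tl_pos_refl3 {r : ℕ} (hr : r < 240) (hpos : 120 ≤ r)
    (h1 : r ≠ (tabOf chevE8).simple 3) :
    120 ≤ (tabOf chevE8).refl ((tabOf chevE8).simple 3) r := by
  rw [tab_E8] at h1 ⊢
  exact e8c_tl_T3pos_fast r hr hpos h1

theorem e8c_tl_lev_range {r : ℕ} (hr : r < 240) (hpos : 120 ≤ r) :
    0 ≤ e8c_lev r ∧ e8c_lev r ≤ 6 := by
  rw [e8c_tl_lev_eq]
  exact e8c_tl_range_fast.1 r hr hpos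

theorem e8c_tl_lev_simple3 : e8c_lev ((tabOf chevE8).simple 3) = 1 := by
  rw [e8c_tl_lev_eq, tab_E8]
  exact e8c_tl_range_fast.2.1

theorem e8c_tl_lev_neg_simple3 : e8c_lev ((tabOf chevE8).neg ((tabOf chevE8).simple 3)) = -1 := by
  rw [e8c_tl_lev_eq, tab_E8]
  exact e8c_tl_range_fast.2.2.1

theorem e8c_tl_refl3_simple3 :
    (tabOf chevE8).refl ((tabOf chevE8).simple 3) ((tabOf chevE8).simple 3) =
      (tabOf chevE8).neg ((tabOf chevE8).simple 3) := by
  rw [tab_E8]
  exact e8c_tl_range_fast.2.2.2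

set_option maxRecDepth 100000 in
/-- (T5) `hodd`: every coroot of `E8` has an odd coefficient. -/
theorem e8c_tl_hodd {s : ℕ} (hs : s < 240) :
    ∃ i : Fin chevE8.rank, ((cr chevE8 s i.val : ℤ) : ZMod 2) ≠ 0 := by
  obtain ⟨i, hi, hodd⟩ := e8c_tl_T5_fast s hs
  have hi' : i < chevE8.rank := by rw [e8c_rank]; exact hi
  refine ⟨⟨i, hi'⟩, ?_⟩
  have e : cr chevE8 s i = fastE8.cr s i := by
    have : (tabOf chevE8).cr s i = fastE8.cr s i := by rw [tab_E8]
    exact this
  rw [e]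
  intro h0
  rw [ZMod.intCast_zmod_eq_zero_iff_dvd] at h0
  apply hodd
  exact Int.emod_eq_zero_of_dvd (by exact_mod_cast h0)

end Cfsg.Agent.E8C
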